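import Cfsg.Agent.Lib.PGroups.LowerCentral
import Cfsg.Agent.Lib.PGroups.CyclicNormal

/-!
# `p`-groups of maximal class
-/

set_option autoImplicit false
set_option linter.unusedSectionVars false
set_option linter.unusedVariables false

namespace Cfsg.Agent.Lib.PGroups.MaximalClass

open Subgroup Cfsg.Agent.Lib.PGroups.Basic Cfsg.Agent.Lib.PGroups.MaxAbelian
  Cfsg.Agent.Lib.PGroups.LowerCentral Cfsg.Agent.Lib.PGroups.CyclicNormal
open scoped commutatorElement

/-- A `p`-group with a self-centralizing subgroup of order `p^2` has maximal class. -/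
theorem class_of_self_centralizing {X : Type*} [Group X] [Finite X] {p : ℕ} [hp : Fact p.Prime]
    (n : ℕ) (hX : Nat.card X = p ^ n) (A : Subgroup X) (hA : Nat.card A = p ^ 2)
    (hC : centralizer (A : Set X) = A) : Group.nilpotencyClass X = n - 1 := by
  classical
  have hpp := hp.out
  induction n generalizing X with
  | zero =>
    exfalso
    have h1 := Subgroup.card_le_card_group A
    rw [hX, hA] at h1
    have := hpp.two_le
    simp at h1
    nlinarith
  | succ n ih =>
    have hG : IsPGroup p X := IsPGroup.of_card hX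
    have hnil := hG.isNilpotent
    have hAcomm : ∀ a ∈ A, ∀ b ∈ A, a * b = b * a := by
      intro a ha b hb
      have : a ∈ centralizer (A : Set X) := by rw [hC]; exact ha
      exact (mem_centralizer_iff.mp this b hb).symm
    have hn2 : 2 ≤ n + 1 := by
      have h1 := Subgroup.card_le_card_group A
      rw [hX, hA] at h1
      exact (Nat.pow_le_pow_iff_right hpp.one_lt).mp h1
    have hnt : Nontrivial X := by
      rw [← Finite.one_lt_card_iff_nontrivial, hX]
      exact Nat.one_lt_pow (by omega) hpp.one_lt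
    by_cases htop : A = ⊤
    · -- abelian case
      subst htop
      have h1 : n + 1 = 2 := by
        rw [Subgroup.card_top, hX] at hA
        exact Nat.pow_right_injective hpp.two_le hA
      have hcomm : ∀ a b : X, a * b = b * a := fun a b => hAcomm a (mem_top a) b (mem_top b)
      have h2 : Group.nilpotencyClass X ≤ 1 := by
        let _ : CommGroup X := { (inferInstance : Group X) with mul_comm := hcomm }
        exact CommGroup.nilpotencyClass_le_one
      have h3 : Group.nilpotencyClass X ≠ 0 := by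
        intro h0
        have := (Group.nilpotencyClass_zero_iff_subsingleton (G := X)).mp h0
        exact not_subsingleton X this
      omega
    · have hZA : center X ≤ A := by
        intro z hz
        rw [← hC, mem_centralizer_iff]
        intro a _
        exact (mem_center_iff.mp hz a)
      have hZne : center X ≠ A := by
        intro h
        apply htop
        rw [← hC, eq_top_iff]
        intro g _
        rw [mem_centralizer_iff]
        intro a ha
        rw [← h] at ha
        exact (mem_center_iff.mp ha g).symm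
      have hZlt : center X < A := lt_of_le_of_ne hZA hZne
      have hZcard : Nat.card (center X) = p := by
        obtain ⟨b, hb⟩ := IsPGroup.iff_card.mp (hG.to_subgroup (center X))
        have h1 := card_lt_of_lt hZlt
        rw [hb, hA] at h1
        have h2 : b < 2 := (Nat.pow_lt_pow_iff_right hpp.one_lt).mp h1
        have h3 : b ≠ 0 := by
          rintro rfl
          rw [pow_zero] at hb
          obtain ⟨z, hzN, hz, hzo⟩ := exists_central_orderOf_eq hG (⊤ : Subgroup X) (by
            exact top_ne_bot)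
          have : (⟨z, hz⟩ : center X) = 1 :=
            (Nat.card_eq_one_iff_unique.mp hb).1.elim _ _
          have h4 : z = 1 := congrArg Subtype.val this
          rw [h4, orderOf_one] at hzo
          exact hpp.one_lt.ne hzo
        rw [hb, show b = 1 by omega, pow_one]
      -- the normalizer
      set N : Subgroup X := normalizer (A : Set X) with hN
      have hAN : A < N := by
        have := (Group.normalizerCondition_of_isNilpotent (G := X))
        have h1 := this A (lt_of_le_of_ne le_top htop)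
        exact h1
      have hANle : A ≤ N := hAN.le
      have hnorm : (A.subgroupOf N).Normal := by
        rw [normal_subgroupOf_iff_le_normalizer hANle]
      have hcardA' : Nat.card (A.subgroupOf N) = p ^ 2 := by
        rw [← hA]
        exact Nat.card_congr (subgroupOfEquivOfLe hANle).toEquiv
      have hcomm' : IsMulCommutative (A.subgroupOf N) := by
        refine ⟨⟨fun a b => Subtype.ext (Subtype.ext ?_)⟩⟩
        exact hAcomm _ a.2 _ b.2
      have hidx := index_centralizer_le (hG.to_subgroup N) 2 (A.subgroupOf N) hcomm' hcardA'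
      have hcenA : centralizer ((A.subgroupOf N : Subgroup N) : Set N) ≤ A.subgroupOf N := by
        intro x hx
        rw [mem_subgroupOf]
        change (x : X) ∈ A
        rw [← hC, mem_centralizer_iff]
        intro a ha
        have := mem_centralizer_iff.mp hx ⟨a, hANle ha⟩ (by simpa [mem_subgroupOf] using ha)
        exact congrArg Subtype.val this
      have hrel : A.relIndex N ≤ p := by
        have h1 : (A.subgroupOf N).index ≤ (centralizer ((A.subgroupOf N : Subgroup N) : Set N)).index := by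
          exact Subgroup.index_antitone hcenA
        simp only [Nat.choose_self, pow_one] at hidx
        exact h1.trans hidx
      have hcardN : Nat.card N = p ^ 3 := by
        have h1 := relIndex_mul_card hANle
        rw [hA] at h1
        obtain ⟨b, hb⟩ := IsPGroup.iff_card.mp (hG.to_subgroup N)
        have h2 := card_lt_of_lt hAN
        rw [hA, hb] at h2
        have h3 : 2 < b := (Nat.pow_lt_pow_iff_right hpp.one_lt).mp h2
        have h4 : p ^ b ≤ p ^ 3 := by
          rw [← hb, ← h1]
          calc A.relIndex N * p ^ 2 ≤ p * p ^ 2 := Nat.mul_le_mul_right _ hrel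
            _ = p ^ 3 := by ring
        have h5 : b ≤ 3 := (Nat.pow_le_pow_iff_right hpp.one_lt).mp h4
        rw [hb, show b = 3 by omega]
      -- pass to the quotient
      have hZN : center X ≤ N := hZA.trans hANle
      have hcardNbar : Nat.card (N.map (QuotientGroup.mk' (center X))) = p ^ 2 := by
        rw [card_map_mk_eq_relIndex]
        have h1 := relIndex_mul_card hZN
        rw [hcardN, hZcard] at h1
        have h2 : (center X).relIndex N * p = p ^ 2 * p := by rw [h1]; ring
        exact Nat.eq_of_mul_eq_mul_right hpp.pos h2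
      have hcardQ : Nat.card (X ⧸ center X) = p ^ n := by
        have h1 := card_mul_index (center X)
        rw [hZcard, hX, index_eq_card, pow_succ'] at h1
        exact Nat.eq_of_mul_eq_mul_left hpp.pos h1
      have hCbar : centralizer ((N.map (QuotientGroup.mk' (center X))) : Set (X ⧸ center X)) =
          N.map (QuotientGroup.mk' (center X)) := by
        apply le_antisymm
        · intro x hx
          obtain ⟨x, rfl⟩ := QuotientGroup.mk'_surjective _ x
          refine mem_map_of_mem _ ?_
          rw [hN, mem_normalizer_iff]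
          have hkey : ∀ y : X, QuotientGroup.mk' (center X) y ∈
              centralizer ((N.map (QuotientGroup.mk' (center X))) : Set (X ⧸ center X)) →
              ∀ a ∈ A, y * a * y⁻¹ ∈ A := by
            intro y hy a ha
            have h1 := mem_centralizer_iff.mp hy (QuotientGroup.mk' (center X) a)
              (mem_map_of_mem _ (hANle ha))
            have h2 : ⁅y, a⁆ ∈ center X := by
              rw [← QuotientGroup.eq_one_iff]
              change ((⁅y, a⁆ : X) : X ⧸ center X) = 1
              rw [commutatorElement_def]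
              simp only [QuotientGroup.mk_mul, QuotientGroup.mk_inv]
              have h3 : ((a : X) : X ⧸ center X) * ((y : X) : X ⧸ center X) =
                  ((y : X) : X ⧸ center X) * ((a : X) : X ⧸ center X) := h1
              rw [← h3]
              group
            have h4 : y * a * y⁻¹ = ⁅y, a⁆ * a := by
              rw [commutatorElement_def]; group
            rw [h4]
            exact mul_mem (hZA h2) ha
          intro h
          constructor
          · intro hh
            exact hkey x hx h hh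
          · intro hh
            have h5 := hkey x⁻¹ (by rw [map_inv]; exact inv_mem hx) _ hh
            have h6 : x⁻¹ * (x * h * x⁻¹) * x⁻¹⁻¹ = h := by group
            rwa [h6] at h5
        · intro x hx
          rw [mem_centralizer_iff]
          intro y hy
          have hc := IsPGroup.isMulCommutative_of_card_eq_prime_sq (G := N.map (QuotientGroup.mk' (center X)))
            hcardNbar
          exact congrArg Subtype.val (hc.is_comm.comm (⟨y, hy⟩ : N.map _) ⟨x, hx⟩)
      have hih := ih (hcardQ) (N.map (QuotientGroup.mk' (center X))) hcardNbar hCbar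
      rw [Group.nilpotencyClass_eq_quotient_center_plus_one, hih]
      have : n ≠ 0 := by
        rintro rfl
        rw [pow_one] at hX
        have h1 := Subgroup.card_le_card_group A
        rw [hX, hA] at h1
        nlinarith [hpp.two_le]
      have h7 : n ≠ 1 := by
        rintro rfl
        have h1 := Subgroup.card_le_card_group N
        rw [hX, hcardN] at h1
        have h2 : 3 ≤ 2 := (Nat.pow_le_pow_iff_right hpp.one_lt).mp (by simpa using h1)
        omega
      omega


section Taussky

variable {X : Type*} [Group X] [Finite X]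

/-- A nonabelian group of order 8 has a cyclic subgroup of index 2. -/
theorem exists_index_two_of_card_eight (hX : Nat.card X = 8) (hb : commutator X ≠ ⊥) :
    ∃ b : X, (zpowers b).index = 2 := by
  classical
  obtain ⟨b, hb2⟩ : ∃ b : X, b ^ 2 ≠ 1 := by
    by_contra hall
    push Not at hall
    apply hb
    rw [commutator_eq_bot_iff]
    refine ⟨⟨fun x y => ?_⟩⟩
    have hinv : ∀ g : X, g⁻¹ = g := fun g => by
      rw [inv_eq_iff_mul_eq_one, ← sq, hall]
    have h1 : (x : X) * y = ((x : X) * y)⁻¹ := (hinv _).symm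
    rw [mul_inv_rev, hinv, hinv] at h1
    exact h1
  have hdvd : orderOf b ∣ 2 ^ 3 := by
    have := orderOf_dvd_natCard b
    rwa [hX] at this
  obtain ⟨k, hk, hob⟩ := (Nat.dvd_prime_pow Nat.prime_two).mp hdvd
  interval_cases k
  · exfalso
    apply hb2
    rw [pow_zero, orderOf_eq_one_iff] at hob
    rw [hob, one_pow]
  · exfalso
    apply hb2
    have h2 : orderOf b = 2 := by simpa using hob
    rw [← h2]
    exact pow_orderOf_eq_one b
  · refine ⟨b, ?_⟩
    have h1 := card_mul_index (zpowers b)
    rw [Nat.card_zpowers, hob, hX] at h1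
    omega
  · exfalso
    apply hb
    rw [commutator_eq_bot_iff]
    have h1 : Nat.card (zpowers b) = Nat.card X := by
      rw [Nat.card_zpowers, hob, hX]; norm_num
    have h2 : zpowers b = ⊤ := (Subgroup.card_eq_iff_eq_top _).mp h1
    have : IsCyclic X := isCyclic_iff_exists_zpowers_eq_top.mpr ⟨b, h2⟩
    exact IsCyclic.isMulCommutative

/-- Core step of Taussky's theorem. -/
theorem exists_index_two_core (hG : IsPGroup 2 X) (h4 : (commutator X).index = 4)
    {a z : X} {C : Subgroup X} (hzX : z ∈ commutator X) (hzc : z ∈ center X) (hzo : orderOf z = 2)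
    (hC2 : C.index = 2) (haC : a ∈ C) (hzC : z ∈ C)
    (hform : ∀ c ∈ C, ∃ i j : ℤ, c = a ^ i * z ^ j) : ∃ b : X, (zpowers b).index = 2 := by
  classical
  have hz2 : z ^ 2 = 1 := by rw [← hzo]; exact pow_orderOf_eq_one z
  have hz1 : z ≠ 1 := by
    rintro rfl
    rw [orderOf_one] at hzo
    omega
  have hXne : commutator X ≠ ⊥ := by
    intro h
    rw [h] at hzX
    exact hz1 (mem_bot.mp hzX)
  by_cases hza : z ∈ zpowers a
  · refine ⟨a, ?_⟩
    have : zpowers a = C := by
      apply le_antisymm (zpowers_le.mpr haC)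
      intro c hc
      obtain ⟨i, j, rfl⟩ := hform c hc
      exact mul_mem (zpow_mem (mem_zpowers a) i) (zpow_mem hza j)
    rw [this, hC2]
  -- commutation of elements of C
  have hzcomm : ∀ (g : X) (j : ℤ), g * z ^ j = z ^ j * g := by
    intro g j
    exact mem_center_iff.mp (zpow_mem hzc j) g
  have hCcomm : ∀ c ∈ C, ∀ d ∈ C, c * d = d * c := by
    intro c hc d hd
    obtain ⟨i, j, rfl⟩ := hform c hc
    obtain ⟨k, l, rfl⟩ := hform d hd
    have hzc' : ∀ (g : X) (j : ℤ), Commute g (z ^ j) := hzcomm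
    have hA : Commute (a ^ i) (a ^ k * z ^ l) :=
      ((Commute.refl a).zpow_zpow i k).mul_right (hzc' (a ^ i) l)
    have hB : Commute (z ^ j) (a ^ k * z ^ l) :=
      (hzc' (a ^ k) j).symm.mul_right (hzc' (z ^ j) l)
    exact hA.mul_left hB
  have hCn : C.Normal := normal_of_index_eq_two hC2
  obtain ⟨y, hy⟩ : ∃ y, y ∉ C := by
    by_contra hall
    push Not at hall
    have : C = ⊤ := eq_top_iff.mpr fun g _ => hall g
    rw [this, index_top] at hC2
    omega
  have hφC : ∀ c ∈ C, ⁅c, y⁆ ∈ C := by
    intro c hc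
    rw [commutatorElement_def, show c * y * c⁻¹ * y⁻¹ = c * (y * c⁻¹ * y⁻¹) by group]
    exact mul_mem hc (hCn.conj_mem _ (inv_mem hc) y)
  -- the homomorphism
  have hφmul : ∀ c d : C, ⁅((c * d : C) : X), y⁆ = ⁅(c : X), y⁆ * ⁅(d : X), y⁆ := by
    intro c d
    have hconj : y * (c : X)⁻¹ * y⁻¹ ∈ C := hCn.conj_mem _ (inv_mem c.2) y
    have h1 := hCcomm _ hconj _ (hφC d d.2)
    simp only [commutatorElement_def, Subgroup.coe_mul] at h1 ⊢
    calc (c : X) * d * y * ((c : X) * d)⁻¹ * y⁻¹
        = c * ((d : X) * y * (d : X)⁻¹ * y⁻¹) * (y * (c : X)⁻¹ * y⁻¹) := by group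
      _ = c * (y * (c : X)⁻¹ * y⁻¹) * ((d : X) * y * (d : X)⁻¹ * y⁻¹) := by
          rw [mul_assoc, mul_assoc (c : X) (y * (c : X)⁻¹ * y⁻¹)]
          rw [h1]
      _ = (c : X) * y * (c : X)⁻¹ * y⁻¹ * ((d : X) * y * (d : X)⁻¹ * y⁻¹) := by group
  let φ : C →* X := MonoidHom.mk' (fun c : C => ⁅(c : X), y⁆) hφmul
  have hφ : ∀ c : C, φ c = ⁅(c : X), y⁆ := fun c => rfl
  have hφz : φ ⟨z, hzC⟩ = 1 := by
    rw [hφ, commutatorElement_eq_one_iff_mul_comm]
    exact (mem_center_iff.mp hzc y).symm
  -- the range is normal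
  have hRle : ∀ r ∈ φ.range, r ∈ C := by
    rintro _ ⟨c, rfl⟩
    exact hφC c c.2
  have hRn : φ.range.Normal := by
    refine ⟨fun r hr g => ?_⟩
    have hrC := hRle r hr
    by_cases hg : g ∈ C
    · rw [hCcomm g hg r hrC, mul_inv_cancel_right]
      exact hr
    · obtain ⟨c, rfl⟩ := hr
      have h1 : g * y ∈ C := (mul_mem_iff_of_index_two hC2).mpr (iff_of_false hg hy)
      have h2 : y⁻¹ * (c : X) * y ∈ C := by
        have := hCn.conj_mem _ c.2 y⁻¹
        simpa using this
      have h3 : g = (g * y) * y⁻¹ := by group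
      have h4 : y⁻¹ * φ c * y = φ ⟨_, h2⟩ := by
        simp only [hφ, commutatorElement_def]
        group
      have h5 : g * φ c * g⁻¹ = (g * y) * (y⁻¹ * φ c * y) * (g * y)⁻¹ := by group
      rw [h5, h4, hCcomm _ h1 _ (hRle _ ⟨_, rfl⟩), mul_inv_cancel_right]
      exact ⟨_, rfl⟩
  -- the commutator subgroup is the range
  have hcommR : commutator X ≤ φ.range := by
    let q := QuotientGroup.mk' φ.range
    have hCq : ∀ c ∈ C, ∀ d ∈ C, Commute (q c) (q d) := by
      intro c hc d hd
      change q c * q d = q d * q c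
      rw [← map_mul, ← map_mul, hCcomm c hc d hd]
    have hyq : ∀ c ∈ C, Commute (q c) (q y) := by
      intro c hc
      have h1 : q ⁅c, y⁆ = 1 := by
        rw [QuotientGroup.mk'_apply, QuotientGroup.eq_one_iff]
        exact ⟨⟨c, hc⟩, rfl⟩
      rw [map_commutatorElement, commutatorElement_eq_one_iff_commute] at h1
      exact h1
    have hform2 : ∀ x : X, x ∈ C ∨ x * y ∈ C := by
      intro x
      by_cases hx : x ∈ C
      · exact Or.inl hx
      · exact Or.inr ((mul_mem_iff_of_index_two hC2).mpr (iff_of_false hx hy))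
    have hxC : ∀ x : X, ∀ c ∈ C, Commute (q x) (q c) := by
      intro x c hc
      rcases hform2 x with hx | hx
      · exact hCq x hx c hc
      · have h1 : x = (x * y) * y⁻¹ := by group
        rw [h1, map_mul, map_inv]
        exact (hCq _ hx c hc).mul_left ((hyq c hc).symm.inv_left)
    have hxy : ∀ x : X, Commute (q x) (q y) := by
      intro x
      rcases hform2 x with hx | hx
      · exact hyq x hx
      · have h1 : x = (x * y) * y⁻¹ := by group
        rw [h1, map_mul, map_inv]
        exact (hyq _ hx).mul_left ((Commute.refl (q y)).inv_left)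
    rw [_root_.commutator_def, Subgroup.commutator_le]
    intro x _ x' _
    have h2 : q ⁅x, x'⁆ = 1 := by
      rw [map_commutatorElement, commutatorElement_eq_one_iff_commute]
      rcases hform2 x' with hx | hx
      · exact hxC x x' hx
      · have h1 : x' = (x' * y) * y⁻¹ := by group
        rw [h1, map_mul, map_inv]
        exact (hxC x _ hx).mul_right (hxy x).inv_right
    rwa [QuotientGroup.mk'_apply, QuotientGroup.eq_one_iff] at h2
  set w : X := φ ⟨a, haC⟩ with hw
  have hφform : ∀ c : C, ∀ i j : ℤ, (c : X) = a ^ i * z ^ j → φ c = w ^ i := by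
    intro c i j hc
    have h1 : c = (⟨a, haC⟩ : C) ^ i * (⟨z, hzC⟩ : C) ^ j := Subtype.ext (by simpa using hc)
    rw [h1, map_mul, map_zpow, map_zpow, hφz, one_zpow, mul_one]
  have hRw : φ.range = zpowers w := by
    apply le_antisymm
    · rintro _ ⟨c, rfl⟩
      obtain ⟨i, j, hij⟩ := hform c c.2
      rw [hφform c i j hij]
      exact zpow_mem (mem_zpowers w) i
    · exact zpowers_le.mpr ⟨_, rfl⟩
  have hXw : commutator X = zpowers w := by
    apply le_antisymm
    · rw [← hRw]; exact hcommR
    · apply zpowers_le.mpr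
      exact commutator_mem_commutator (mem_top _) (mem_top _)
  have hwC : w ∈ C := hRle _ ⟨_, rfl⟩
  -- orders
  obtain ⟨k, hk⟩ := IsPGroup.iff_card.mp (hG.to_subgroup (commutator X))
  have hwo : orderOf w = 2 ^ k := by
    rw [← hk, hXw, Nat.card_zpowers]
  have hcardX : 2 ^ k * 4 = Nat.card X := by
    rw [← hk, ← h4, card_mul_index]
  have hcardC : Nat.card C * 2 = Nat.card X := by
    rw [← hC2, card_mul_index]
  have haC' : zpowers a < C := by
    refine lt_of_le_of_ne (zpowers_le.mpr haC) ?_
    intro h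
    exact hza (h ▸ hzC)
  have hale := mul_card_le_of_lt hG haC'
  rw [Nat.card_zpowers] at hale
  have hcardC' : Nat.card C = 2 ^ (k + 1) := by
    have h1 : Nat.card C * 2 = 2 ^ (k + 1) * 2 := by rw [hcardC, ← hcardX]; ring
    exact Nat.eq_of_mul_eq_mul_right (by norm_num) h1
  obtain ⟨t, -, hta⟩ := (Nat.dvd_prime_pow Nat.prime_two).mp
    ((orderOf_dvd_natCard a).trans (show Nat.card X ∣ 2 ^ (k + 2) by
      rw [← hcardX]; exact ⟨1, by ring⟩))
  have htk : t ≤ k := by
    rw [hcardC', hta, ← pow_succ'] at hale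
    have := (Nat.pow_le_pow_iff_right (by norm_num : 1 < 2)).mp hale
    omega
  have hak : a ^ ((2 : ℤ) ^ k) = 1 := by
    rw [zpow_eq_one_iff_dvd hta]
    exact pow_dvd_pow 2 htk
  obtain ⟨k', rfl⟩ : ∃ k', k = k' + 1 := by
    rcases k with _ | k'
    · exfalso
      rw [pow_zero] at hwo
      rw [orderOf_eq_one_iff] at hwo
      apply hXne
      rw [hXw, hwo]
      simp
    · exact ⟨k', rfl⟩
  obtain ⟨e, he⟩ := mem_zpowers_iff.mp (hXw ▸ hzX)
  have hz2' : w ^ (e * 2) = 1 := by
    rw [zpow_mul, he]
    exact_mod_cast hz2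
  rw [zpow_eq_one_iff_dvd hwo, pow_succ, mul_dvd_mul_iff_right (by norm_num)] at hz2'
  obtain ⟨f, rfl⟩ := hz2'
  have hf : f % 2 = 1 := by
    by_contra hne
    obtain ⟨g, rfl⟩ : ∃ g, f = 2 * g := ⟨f / 2, by omega⟩
    apply hz1
    rw [← he, zpow_eq_one_iff_dvd hwo]
    exact ⟨g, by ring⟩
  obtain ⟨g, rfl⟩ : ∃ g, f = 2 * g + 1 := ⟨f / 2, by omega⟩
  have hzw : z = w ^ ((2 : ℤ) ^ k') := by
    rw [← he, zpow_eq_zpow_iff_dvd hwo]
    exact ⟨g, by ring⟩
  obtain ⟨i, j, hij⟩ := hform w hwC
  have hφw : φ ⟨w, hwC⟩ = w ^ i := hφform _ i j hij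
  have hi : i % 2 = 0 := by
    have h1 : (⟨z, hzC⟩ : C) = (⟨w, hwC⟩ : C) ^ ((2 : ℤ) ^ k') := Subtype.ext (by simpa using hzw)
    have h2 : φ ⟨z, hzC⟩ = (w ^ i) ^ ((2 : ℤ) ^ k') := by
      rw [h1, map_zpow, hφw]
    rw [hφz, ← zpow_mul] at h2
    have h3 := (zpow_eq_one_iff_dvd hwo _).mp h2.symm
    rw [pow_succ, mul_comm i, mul_dvd_mul_iff_left (by positivity)] at h3
    omega
  obtain ⟨i', rfl⟩ : ∃ i', i = 2 * i' := ⟨i / 2, by omega⟩
  rcases k' with _ | k''
  · -- order 8
    apply exists_index_two_of_card_eight _ hXne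
    rw [← hcardX]
    norm_num
  · exfalso
    apply hz1
    have hcom : Commute (a ^ (2 * i')) (z ^ j) := hzcomm _ j
    rw [hzw, hij, hcom.mul_zpow, ← zpow_mul, ← zpow_mul]
    have h5 : a ^ (2 * i' * (2 : ℤ) ^ (k'' + 1)) = 1 := by
      rw [show 2 * i' * (2 : ℤ) ^ (k'' + 1) = (2 : ℤ) ^ (k'' + 1 + 1) * i' by ring, zpow_mul, hak,
        one_zpow]
    have h6 : z ^ (j * (2 : ℤ) ^ (k'' + 1)) = 1 := by
      rw [show j * (2 : ℤ) ^ (k'' + 1) = ((2 : ℕ) : ℤ) * (j * 2 ^ k'') by push_cast; ring, zpow_mul,
        zpow_natCast, hz2, one_zpow]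
    rw [h5, h6, one_mul]

/-- **Taussky's theorem**: a 2-group with `|X : X'| = 4` has a cyclic subgroup of index 2. -/
theorem exists_zpowers_index_two (n : ℕ) (hX : Nat.card X = 2 ^ n)
    (h4 : (commutator X).index = 4) : ∃ a : X, (zpowers a).index = 2 := by
  classical
  induction n generalizing X with
  | zero =>
    exfalso
    have := index_dvd_card (commutator X)
    rw [h4, hX] at this
    norm_num at this
  | succ n ih =>
    have hG : IsPGroup 2 X := IsPGroup.of_card hX
    by_cases hb : commutator X = ⊥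
    · rw [hb, index_bot] at h4
      obtain ⟨a, ha⟩ := exists_prime_orderOf_dvd_card' (G := X) 2 (by rw [h4]; norm_num)
      refine ⟨a, ?_⟩
      have h1 := card_mul_index (zpowers a)
      rw [Nat.card_zpowers, ha, h4] at h1
      omega
    · obtain ⟨z, hzX, hzc, hzo⟩ := exists_central_orderOf_eq hG (commutator X) hb
      have hZn : (zpowers z).Normal := by
        refine ⟨?_⟩
        rintro _ ⟨j, rfl⟩ g
        change g * z ^ j * g⁻¹ ∈ zpowers z
        rw [mem_center_iff.mp (zpow_mem hzc j) g, mul_inv_cancel_right]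
        exact zpow_mem (mem_zpowers z) j
      have hq : Function.Surjective (QuotientGroup.mk' (zpowers z)) := QuotientGroup.mk'_surjective _
      have hcard : Nat.card (X ⧸ zpowers z) = 2 ^ n := by
        have h1 := card_mul_index (zpowers z)
        rw [Nat.card_zpowers, hzo, hX, index_eq_card, pow_succ'] at h1
        exact Nat.eq_of_mul_eq_mul_left (by norm_num) h1
      have h4' : (commutator (X ⧸ zpowers z)).index = 4 := by
        have hmap : (commutator X).map (QuotientGroup.mk' (zpowers z)) =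
            commutator (X ⧸ zpowers z) := by
          rw [_root_.commutator_def, _root_.commutator_def, Subgroup.map_commutator,
            map_top_of_surjective _ hq]
        rw [← hmap, index_map, QuotientGroup.ker_mk',
          sup_eq_left.mpr (zpowers_le.mpr hzX), (MonoidHom.range_eq_top.mpr hq), index_top, mul_one,
          h4]
      obtain ⟨abar, habar⟩ := ih hcard h4'
      obtain ⟨a, rfl⟩ := hq abar
      have hCform : ∀ c ∈ (zpowers (QuotientGroup.mk' (zpowers z) a)).comap
          (QuotientGroup.mk' (zpowers z)), ∃ i j : ℤ, c = a ^ i * z ^ j := by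
        intro c hc
        obtain ⟨i, hi⟩ := mem_zpowers_iff.mp (mem_comap.mp hc)
        have h1 : (a ^ i)⁻¹ * c ∈ zpowers z := by
          rw [← QuotientGroup.eq_one_iff]
          change QuotientGroup.mk' (zpowers z) ((a ^ i)⁻¹ * c) = 1
          rw [map_mul, map_inv, map_zpow, hi, inv_mul_cancel]
        obtain ⟨j, hj⟩ := mem_zpowers_iff.mp h1
        refine ⟨i, j, ?_⟩
        rw [hj]
        group
      refine exists_index_two_core hG h4 hzX hzc hzo
        (C := (zpowers (QuotientGroup.mk' (zpowers z) a)).comap (QuotientGroup.mk' (zpowers z)))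
        (a := a) ?_ ?_ ?_ hCform
      · rw [index_comap_of_surjective _ hq, habar]
      · exact mem_comap.mpr (mem_zpowers _)
      · refine mem_comap.mpr ?_
        have : QuotientGroup.mk' (zpowers z) z = 1 := by
          rw [QuotientGroup.mk'_apply, QuotientGroup.eq_one_iff]
          exact mem_zpowers z
        rw [this]
        exact one_mem _

/-- If `C` has index 2, `y ∉ C`, `N` is normal and the commutators of elements of `C` with each
other and with `y` lie in `N`, then `X' ≤ N`. -/
theorem commutator_le_of_index_two {C N : Subgroup X} [N.Normal] (hC2 : C.index = 2) {y : X}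
    (hy : y ∉ C) (h1 : ∀ c ∈ C, ∀ d ∈ C, ⁅c, d⁆ ∈ N) (h2 : ∀ c ∈ C, ⁅c, y⁆ ∈ N) :
    commutator X ≤ N := by
  let q := QuotientGroup.mk' N
  have hqN : ∀ g h : X, ⁅g, h⁆ ∈ N → Commute (q g) (q h) := by
    intro g h hgh
    have h3 : q ⁅g, h⁆ = 1 := by
      rw [QuotientGroup.mk'_apply, QuotientGroup.eq_one_iff]
      exact hgh
    rwa [map_commutatorElement, commutatorElement_eq_one_iff_commute] at h3
  have hCq : ∀ c ∈ C, ∀ d ∈ C, Commute (q c) (q d) := fun c hc d hd => hqN _ _ (h1 c hc d hd)
  have hyq : ∀ c ∈ C, Commute (q c) (q y) := fun c hc => hqN _ _ (h2 c hc)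
  have hform2 : ∀ x : X, x ∈ C ∨ x * y ∈ C := by
    intro x
    by_cases hx : x ∈ C
    · exact Or.inl hx
    · exact Or.inr ((mul_mem_iff_of_index_two hC2).mpr (iff_of_false hx hy))
  have hxC : ∀ x : X, ∀ c ∈ C, Commute (q x) (q c) := by
    intro x c hc
    rcases hform2 x with hx | hx
    · exact hCq x hx c hc
    · have h3 : x = (x * y) * y⁻¹ := by group
      rw [h3, map_mul, map_inv]
      exact (hCq _ hx c hc).mul_left ((hyq c hc).symm.inv_left)
  have hxy : ∀ x : X, Commute (q x) (q y) := by
    intro x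
    rcases hform2 x with hx | hx
    · exact hyq x hx
    · have h3 : x = (x * y) * y⁻¹ := by group
      rw [h3, map_mul, map_inv]
      exact (hyq _ hx).mul_left ((Commute.refl (q y)).inv_left)
  rw [_root_.commutator_def, Subgroup.commutator_le]
  intro x _ x' _
  have h3 : q ⁅x, x'⁆ = 1 := by
    rw [map_commutatorElement, commutatorElement_eq_one_iff_commute]
    rcases hform2 x' with hx | hx
    · exact hxC x x' hx
    · have h4 : x' = (x' * y) * y⁻¹ := by group
      rw [h4, map_mul, map_inv]
      exact (hxC x _ hx).mul_right (hxy x).inv_right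
  rwa [QuotientGroup.mk'_apply, QuotientGroup.eq_one_iff] at h3

/-- Structure of a 2-group of order `2^n`, `n ≥ 3`, with `|X : X'| = 4`. -/
theorem exists_structure {n : ℕ} (hn : 3 ≤ n) (hX : Nat.card X = 2 ^ n)
    (h4 : (commutator X).index = 4) :
    ∃ (a y : X) (r s : ℤ), orderOf a = 2 ^ (n - 1) ∧ (zpowers a).index = 2 ∧ y ∉ zpowers a ∧
      y * a * y⁻¹ = a ^ r ∧ r % 4 = 3 ∧ (2 : ℤ) ^ (n - 2) ∣ r + 1 ∧ y ^ 2 = a ^ s ∧
      (2 : ℤ) ^ (n - 2) ∣ s := by
  classical
  obtain ⟨a, ha⟩ := exists_zpowers_index_two n hX h4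
  obtain ⟨m, rfl⟩ : ∃ m, n = m + 3 := ⟨n - 3, by omega⟩
  have hao : orderOf a = 2 ^ (m + 2) := by
    have h1 := card_mul_index (zpowers a)
    rw [Nat.card_zpowers, ha, hX] at h1
    have h2 : orderOf a * 2 = 2 ^ (m + 2) * 2 := by rw [h1]; ring
    exact Nat.eq_of_mul_eq_mul_right (by norm_num) h2
  have hAn : (zpowers a).Normal := normal_of_index_eq_two ha
  obtain ⟨y, hy⟩ : ∃ y, y ∉ zpowers a := by
    by_contra hall
    push Not at hall
    have : zpowers a = ⊤ := eq_top_iff.mpr fun g _ => hall g
    rw [this, index_top] at ha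
    omega
  obtain ⟨r, hr⟩ := exists_conj_eq_zpow hAn y
  have hrodd := odd_of_conj (by omega) hao hr
  have hr3 : r % 4 = 3 := by
    by_contra hne
    have hr1 : r % 4 = 1 := by omega
    -- then `X' ≤ ⟨a^4⟩`
    have hNn : (zpowers (a ^ (4 : ℤ))).Normal := by
      refine ⟨?_⟩
      rintro _ ⟨k, rfl⟩ g
      obtain ⟨t, ht⟩ := exists_conj_eq_zpow hAn g
      change g * (a ^ (4 : ℤ)) ^ k * g⁻¹ ∈ _
      rw [← zpow_mul, conj_zpow_of ht, show t * (4 * k) = 4 * (t * k) by ring, zpow_mul]
      exact zpow_mem (mem_zpowers _) _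
    have hle : commutator X ≤ zpowers (a ^ (4 : ℤ)) := by
      apply commutator_le_of_index_two ha hy
      · intro c hc d hd
        have : ⁅c, d⁆ = 1 := by
          rw [commutatorElement_eq_one_iff_commute]
          obtain ⟨i, rfl⟩ := mem_zpowers_iff.mp hc
          obtain ⟨j, rfl⟩ := mem_zpowers_iff.mp hd
          exact (Commute.refl a).zpow_zpow i j
        rw [this]
        exact one_mem _
      · intro c hc
        obtain ⟨i, rfl⟩ := mem_zpowers_iff.mp hc
        have h1 : ⁅a ^ i, y⁆ = a ^ (i - r * i) := by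
          rw [commutatorElement_def, show a ^ i * y * (a ^ i)⁻¹ * y⁻¹ =
            a ^ i * (y * a ^ (-i) * y⁻¹) by group, conj_zpow_of hr, ← zpow_add]
          congr 1
          ring
        rw [h1]
        obtain ⟨q, hq⟩ : ∃ q, r = 4 * q + 1 := ⟨r / 4, by omega⟩
        rw [show i - r * i = 4 * (-q * i) by rw [hq]; ring, zpow_mul]
        exact zpow_mem (mem_zpowers _) _
    have h5 := index_dvd_of_le hle
    rw [h4] at h5
    have h6 : (zpowers (a ^ (4 : ℤ))).index = 8 := by
      have h7 := card_mul_index (zpowers (a ^ (4 : ℤ)))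
      rw [Nat.card_zpowers, hX] at h7
      have h8 : orderOf (a ^ (4 : ℤ)) = 2 ^ m := by
        rw [show a ^ (4 : ℤ) = a ^ 4 by norm_cast, orderOf_pow_of_dvd (by norm_num)
          (by rw [hao]; exact ⟨2 ^ m, by ring⟩), hao]
        rw [show 2 ^ (m + 2) = 2 ^ m * 4 by ring]
        simp
      rw [h8] at h7
      have h9 : 2 ^ m * (zpowers (a ^ (4 : ℤ))).index = 2 ^ m * 8 := by
        rw [h7]; ring
      exact Nat.eq_of_mul_eq_mul_left (by positivity) h9
    rw [h6] at h5
    norm_num at h5
  have hy2 : y ^ 2 ∈ zpowers a := by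
    rw [sq]
    by_contra hne
    exact hne ((mul_mem_iff_of_index_two ha).mpr (iff_of_false hy hy))
  obtain ⟨s, hs⟩ := mem_zpowers_iff.mp hy2
  have hrsq : (2 : ℤ) ^ (m + 1 + 1) ∣ r ^ 2 - 1 := by
    have h1 : y ^ 2 * a * (y ^ 2)⁻¹ = a := by
      rw [← hs]; group
    have h2 : y ^ 2 * a * (y ^ 2)⁻¹ = a ^ (r * r) := by
      calc _ = y * (y * a * y⁻¹) * y⁻¹ := by rw [sq]; group
        _ = y * a ^ r * y⁻¹ := by rw [hr]
        _ = a ^ (r * r) := conj_zpow_of hr r
    have h3 : a ^ (r * r) = a ^ (1 : ℤ) := by rw [← h2, h1, zpow_one]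
    rw [zpow_eq_zpow_iff_dvd hao] at h3
    rwa [show r ^ 2 - 1 = r * r - 1 by ring]
  have hk := dvd_add_one hrsq hr3
  have hsd : (2 : ℤ) ^ (m + 1) ∣ s := by
    have h1 : y * a ^ s * y⁻¹ = a ^ s := by
      rw [hs, sq]; group
    rw [conj_zpow_of hr, zpow_eq_zpow_iff_dvd hao] at h1
    obtain ⟨q, hq⟩ : ∃ q, r = 4 * q + 3 := ⟨r / 4, by omega⟩
    rw [show r * s - s = 2 * ((2 * q + 1) * s) by rw [hq]; ring, pow_succ',
      mul_dvd_mul_iff_left (by norm_num)] at h1
    exact (isCoprime_two_pow_odd _ q).dvd_of_dvd_mul_left h1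
  refine ⟨a, y, r, s, by simpa using hao, ha, hy, hr, hr3, ?_, hs.symm, ?_⟩
  · simpa using hk
  · simpa using hsd

/-- S0113. -/
theorem exists_cyclic_index_two_of_class {n : ℕ} (hn : 3 ≤ n) (hX : Nat.card X = 2 ^ n)
    (hc : Group.nilpotencyClass X = n - 1) : ∃ C : Subgroup X, IsCyclic C ∧ C.index = 2 := by
  have hG : IsPGroup 2 X := IsPGroup.of_card hX
  have h4 := index_commutator_of_maximal_class hG hn hX hc
  obtain ⟨a, ha⟩ := exists_zpowers_index_two n hX (by rw [h4]; norm_num)
  exact ⟨zpowers a, inferInstance, ha⟩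

/-- If the abelianization of a `p`-group is cyclic, the group is cyclic. -/
theorem isCyclic_of_isCyclic_abelianization {p : ℕ} [hp : Fact p.Prime] (hG : IsPGroup p X)
    (h : IsCyclic (X ⧸ commutator X)) : IsCyclic X := by
  obtain ⟨xbar, hx⟩ := h.exists_generator
  obtain ⟨x, rfl⟩ := QuotientGroup.mk_surjective xbar
  refine isCyclic_iff_exists_zpowers_eq_top.mpr ⟨x, ?_⟩
  apply frattini_nongenerating
  rw [eq_top_iff]
  intro g _
  obtain ⟨k, hk⟩ := mem_zpowers_iff.mp (hx (g : X ⧸ commutator X))
  have h1 : (x ^ k)⁻¹ * g ∈ commutator X := by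
    rw [← QuotientGroup.eq_one_iff, QuotientGroup.mk_mul, QuotientGroup.mk_inv,
      QuotientGroup.mk_zpow, hk, inv_mul_cancel]
  have h2 : g = x ^ k * ((x ^ k)⁻¹ * g) := by group
  rw [h2]
  exact mul_mem (mem_sup_left (zpow_mem (mem_zpowers x) k))
    (mem_sup_right (commutator_le_frattini hG h1))

/-- S0115, forward direction. -/
theorem isKleinFour_of_class {n : ℕ} (hn : 3 ≤ n) (hX : Nat.card X = 2 ^ n)
    (hc : Group.nilpotencyClass X = n - 1) : IsKleinFour (X ⧸ commutator X) := by
  classical
  have hG : IsPGroup 2 X := IsPGroup.of_card hX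
  have h4 := index_commutator_of_maximal_class hG hn hX hc
  have hcard : Nat.card (X ⧸ commutator X) = 4 := by
    rw [← index_eq_card, h4]; norm_num
  have hnc : ¬ IsCyclic (X ⧸ commutator X) := by
    intro h
    have h1 := isCyclic_of_isCyclic_abelianization hG h
    have h2 : IsMulCommutative X := IsCyclic.isMulCommutative
    have h3 : commutator X = ⊥ := by rw [_root_.commutator_eq_bot_iff]; exact h2
    rw [h3, index_bot, hX] at h4
    have h5 := (Nat.pow_right_injective (le_refl 2)) h4
    omega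
  have hnt : Nontrivial (X ⧸ commutator X) := by
    rw [← Finite.one_lt_card_iff_nontrivial, hcard]
    norm_num
  refine ⟨hcard, ?_⟩
  rw [Monoid.exponent_eq_prime_iff Nat.prime_two]
  intro g hg
  have hdvd : orderOf g ∣ 2 ^ 2 := by
    have := orderOf_dvd_natCard g
    rwa [hcard] at this
  obtain ⟨k, hk, hog⟩ := (Nat.dvd_prime_pow Nat.prime_two).mp hdvd
  interval_cases k
  · exfalso
    apply hg
    rw [pow_zero, orderOf_eq_one_iff] at hog
    exact hog
  · simpa using hog
  · exfalso
    apply hnc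
    refine isCyclic_of_orderOf_eq_card g ?_
    rw [hog, hcard]
    norm_num

/-- S0115, converse direction. -/
theorem class_of_index_commutator_eq_four {n : ℕ} (hn : 3 ≤ n) (hX : Nat.card X = 2 ^ n)
    (h4 : (commutator X).index = 4) : Group.nilpotencyClass X = n - 1 := by
  classical
  have hG : IsPGroup 2 X := IsPGroup.of_card hX
  have := hG.isNilpotent
  obtain ⟨a, y, r, s, hao, hidx, hy, hr, hr3, hr1, hy2, hs⟩ := exists_structure hn hX h4
  apply le_antisymm (class_le hG (by omega) hX)
  obtain ⟨q, hq⟩ : ∃ q, r = 4 * q + 3 := ⟨r / 4, by omega⟩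
  -- `2 q + 1` is invertible modulo the order of `a`
  have hcop : IsCoprime ((2 : ℤ) ^ (n - 1)) (2 * q + 1) := isCoprime_two_pow_odd _ q
  obtain ⟨v, u, huv⟩ := hcop
  have hmem : ∀ i : ℕ, a ^ ((2 : ℤ) ^ i) ∈ (⊤ : Subgroup X).lowerCentralSeries i := by
    intro i
    induction i with
    | zero => simp
    | succ i ih =>
      rw [Subgroup.lowerCentralSeries_succ]
      have h1 := commutator_mem_commutator ih (mem_top y)
      have h2 : ⁅a ^ ((2 : ℤ) ^ i), y⁆ = a ^ (-((2 : ℤ) ^ (i + 1) * (2 * q + 1))) := by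
        rw [commutatorElement_def, show a ^ ((2 : ℤ) ^ i) * y * (a ^ ((2 : ℤ) ^ i))⁻¹ * y⁻¹ =
            a ^ ((2 : ℤ) ^ i) * (y * a ^ (-(2 : ℤ) ^ i) * y⁻¹) by group, conj_zpow_of hr,
          ← zpow_add]
        congr 1
        rw [hq]
        ring
      rw [h2] at h1
      have h3 : a ^ ((2 : ℤ) ^ (i + 1)) = (a ^ (-((2 : ℤ) ^ (i + 1) * (2 * q + 1)))) ^ (-u) := by
        rw [← zpow_mul, zpow_eq_zpow_iff_dvd hao]
        refine ⟨(2 : ℤ) ^ (i + 1) * v, ?_⟩
        have h5 : 1 - (2 * q + 1) * u = v * 2 ^ (n - 1) := by linarith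
        have : (2 : ℤ) ^ (i + 1) * (1 - (2 * q + 1) * u) = (2 : ℤ) ^ (i + 1) * (v * 2 ^ (n - 1)) := by
          rw [h5]
        linear_combination this
      rw [h3]
      exact zpow_mem h1 _
  have h1 := hmem (n - 2)
  have hne : (⊤ : Subgroup X).lowerCentralSeries (n - 2) ≠ ⊥ := by
    intro h
    rw [h, mem_bot, zpow_eq_one_iff_dvd hao] at h1
    rw [show n - 1 = (n - 2) + 1 by omega, pow_succ] at h1
    have h2 : (2 : ℤ) ^ (n - 2) * 2 ≤ 2 ^ (n - 2) := Int.le_of_dvd (by positivity) h1
    have h3 : (0 : ℤ) < 2 ^ (n - 2) := by positivity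
    omega
  by_contra hlt
  apply hne
  rw [Subgroup.lowerCentralSeries_eq_bot_iff_nilpotencyClass_le]
  omega

/-- S0114. -/
theorem nonempty_dihedral_of_class {n : ℕ} (hn : 3 ≤ n) (hX : Nat.card X = 2 ^ n)
    (hc : Group.nilpotencyClass X = n - 1) :
    Nonempty (X ⧸ center X ≃* DihedralGroup (2 ^ (n - 2))) := by
  classical
  have hG : IsPGroup 2 X := IsPGroup.of_card hX
  have h4' := index_commutator_of_maximal_class hG hn hX hc
  have h4 : (commutator X).index = 4 := by rw [h4']; norm_num
  obtain ⟨a, y, r, s, hao, hidx, hy, hr, hr3, hr1, hy2, hs⟩ := exists_structure hn hX h4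
  obtain ⟨m, rfl⟩ : ∃ m, n = m + 3 := ⟨n - 3, by omega⟩
  simp only [show m + 3 - 1 = m + 2 by omega, show m + 3 - 2 = m + 1 by omega] at *
  have hAn : (zpowers a).Normal := normal_of_index_eq_two hidx
  set z : X := a ^ ((2 : ℤ) ^ (m + 1)) with hz
  have hzcen : z ∈ center X := by
    rw [mem_center_iff]
    intro g
    obtain ⟨t, ht⟩ := exists_conj_eq_zpow hAn g
    have ht2 := odd_of_conj (by omega) hao ht
    have h1 : g * z * g⁻¹ = z := by
      rw [hz, conj_zpow_of ht, zpow_eq_zpow_iff_dvd hao]
      obtain ⟨q, hq⟩ : ∃ q, t = 2 * q + 1 := ⟨t / 2, by omega⟩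
      exact ⟨q, by rw [hq]; ring⟩
    calc g * z = (g * z * g⁻¹) * g := by group
      _ = z * g := by rw [h1]
  -- the centre is `⟨z⟩`
  have hcen : center X = zpowers z := by
    apply le_antisymm
    · intro g hg
      have hgA : g ∈ zpowers a := by
        by_contra hgA
        have h1 : g * y ∈ zpowers a := (mul_mem_iff_of_index_two hidx).mpr (iff_of_false hgA hy)
        obtain ⟨i, hi⟩ := mem_zpowers_iff.mp h1
        have h2 : g * y * a * (g * y)⁻¹ = a := by
          rw [← hi]; group
        have h3 : g * y * a * (g * y)⁻¹ = g * a ^ r * g⁻¹ := by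
          rw [← hr]; group
        have h4 : g * a ^ r * g⁻¹ = a ^ r := by
          rw [← mem_center_iff.mp hg (a ^ r), mul_inv_cancel_right]
        rw [h3, h4] at h2
        nth_rewrite 2 [← zpow_one a] at h2
        rw [zpow_eq_zpow_iff_dvd hao] at h2
        obtain ⟨e, he⟩ := h2
        have he' : r - 1 = 4 * (2 ^ m * e) := by rw [he]; ring
        omega
      obtain ⟨k, rfl⟩ := mem_zpowers_iff.mp hgA
      have h1 : y * a ^ k * y⁻¹ = a ^ k := by
        rw [mem_center_iff.mp hg y, mul_inv_cancel_right]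
      rw [conj_zpow_of hr, zpow_eq_zpow_iff_dvd hao] at h1
      obtain ⟨q, hq⟩ : ∃ q, r = 4 * q + 3 := ⟨r / 4, by omega⟩
      rw [show r * k - k = 2 * ((2 * q + 1) * k) by rw [hq]; ring, pow_succ',
        mul_dvd_mul_iff_left (by norm_num)] at h1
      obtain ⟨j, rfl⟩ := (isCoprime_two_pow_odd _ q).dvd_of_dvd_mul_left h1
      rw [zpow_mul]
      exact zpow_mem (mem_zpowers _) j
    · exact zpowers_le.mpr hzcen
  -- orders
  have hzo : orderOf z = 2 := by
    apply orderOf_eq_prime
    · rw [hz, ← zpow_natCast, ← zpow_mul, zpow_eq_one_iff_dvd hao]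
      exact ⟨1, by push_cast; ring⟩
    · intro h
      rw [hz, zpow_eq_one_iff_dvd hao, pow_succ (2 : ℤ) (m + 1)] at h
      have h2 : (2 : ℤ) ^ (m + 1) * 2 ≤ 2 ^ (m + 1) := Int.le_of_dvd (by positivity) h
      have h3 : (0 : ℤ) < 2 ^ (m + 1) := by positivity
      omega
  let q := QuotientGroup.mk' (center X)
  have hq1 : ∀ g : X, q g = 1 ↔ g ∈ zpowers z := by
    intro g
    rw [QuotientGroup.mk'_apply, QuotientGroup.eq_one_iff, hcen]
  have hapow : ∀ k : ℤ, (q a) ^ k = 1 ↔ (2 : ℤ) ^ (m + 1) ∣ k := by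
    intro k
    rw [← map_zpow, hq1]
    constructor
    · intro h
      obtain ⟨j, hj⟩ := mem_zpowers_iff.mp h
      rw [hz, ← zpow_mul, zpow_eq_zpow_iff_dvd hao] at hj
      obtain ⟨e, he⟩ := hj
      refine ⟨j - 2 * e, ?_⟩
      have : (2 : ℤ) ^ (m + 1 + 1) = 2 * 2 ^ (m + 1) := by ring
      rw [this] at he
      linear_combination -he
    · rintro ⟨j, rfl⟩
      rw [zpow_mul]
      exact zpow_mem (mem_zpowers _) j
  have hqao : orderOf (q a) = 2 ^ (m + 1) := by
    apply Nat.dvd_antisymm
    · apply orderOf_dvd_of_pow_eq_one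
      rw [← zpow_natCast, hapow]
      push_cast
      exact dvd_rfl
    · have h1 : (q a) ^ ((orderOf (q a) : ℕ) : ℤ) = 1 := by
        rw [zpow_natCast]; exact pow_orderOf_eq_one _
      rw [hapow] at h1
      exact_mod_cast h1
  have hyq : q y ∉ zpowers (q a) := by
    intro h
    obtain ⟨k, hk⟩ := mem_zpowers_iff.mp h
    have h1 : (a ^ k)⁻¹ * y ∈ zpowers z := by
      rw [← hq1, map_mul, map_inv, map_zpow, hk, inv_mul_cancel]
    have h2 : y = a ^ k * ((a ^ k)⁻¹ * y) := by group
    apply hy
    rw [h2]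
    exact mul_mem (zpow_mem (mem_zpowers a) k) ((zpowers_le.mpr (zpow_mem (mem_zpowers a) _)) h1)
  have hyq2 : (q y) ^ 2 = 1 := by
    rw [← map_pow, hy2, map_zpow, hapow]
    exact hs
  have hyqa : q y * q a * (q y)⁻¹ = (q a)⁻¹ := by
    rw [← map_inv, ← map_mul, ← map_mul, hr, map_zpow, eq_inv_iff_mul_eq_one, ← zpow_add_one, hapow]
    exact hr1
  have hcardQ : Nat.card (X ⧸ center X) = 2 * 2 ^ (m + 1) := by
    have h1 := card_mul_index (center X)
    rw [hcen, Nat.card_zpowers, hzo, hX, index_eq_card, ← hcen] at h1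
    have h2 : 2 * Nat.card (X ⧸ center X) = 2 * (2 * 2 ^ (m + 1)) := by
      rw [h1]; ring
    exact Nat.eq_of_mul_eq_mul_left (by norm_num) h2
  obtain ⟨e⟩ := Cfsg.Agent.Lib.PGroups.Presentations.nonempty_dihedral_equiv
    (G := X ⧸ center X) (m := 2 ^ (m + 1)) hqao hyq2 hyqa hyq hcardQ
  exact ⟨e.symm⟩

end Taussky

end Cfsg.Agent.Lib.PGroups.MaximalClass
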