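import Mathlib
import Cfsg.Agent.Lib.PGroups.CyclicNormal
import Cfsg.Agent.Lib.PGroups.LowerCentral
import Cfsg.Agent.Lib.FGStruct.Class
import Cfsg.Agent.Lib.QuadAct.Basic

/-!
# The number of involutions of a finite 2-group modulo 4
-/

set_option autoImplicit false

namespace Cfsg.Agent.Lib.PGroups.InvolutionCount

open Subgroup Cfsg.Agent.Lib.PGroups.Basic

variable {G : Type*} [Group G] [Finite G]

/-- A set closed under right multiplication by `L` has cardinality divisible by `|L|`. -/
theorem card_dvd_of_mul_closed (L : Subgroup G) (M : Set G) (h : ∀ x ∈ M, ∀ l ∈ L, x * l ∈ M) :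
    Nat.card L ∣ Nat.card M := by
  classical
  let Q : Set (G ⧸ L) := {q | ∃ x ∈ M, (x : G ⧸ L) = q}
  have hout : ∀ q ∈ Q, q.out ∈ M := by
    rintro q ⟨x, hx, rfl⟩
    obtain ⟨l, hl⟩ := QuotientGroup.mk_out_eq_mul L x
    rw [hl]
    exact h x hx l l.2
  have hmem : ∀ x : G, ((x : G ⧸ L).out)⁻¹ * x ∈ L := fun x => by
    rw [← QuotientGroup.eq]
    exact QuotientGroup.out_eq' _
  let e : M ≃ Q × L :=
    { toFun := fun x => (⟨(x.1 : G ⧸ L), x.1, x.2, rfl⟩, ⟨((x.1 : G ⧸ L).out)⁻¹ * x.1, hmem x.1⟩)
      invFun := fun p => ⟨p.1.1.out * p.2.1, h _ (hout _ p.1.2) _ p.2.2⟩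
      left_inv := fun x => by
        apply Subtype.ext
        simp
      right_inv := fun p => by
        have h1 : ((p.1.1.out * p.2.1 : G) : G ⧸ L) = p.1.1 := by
          rw [QuotientGroup.mk_mul_of_mem _ p.2.2]
          exact QuotientGroup.out_eq' _
        apply Prod.ext
        · apply Subtype.ext
          exact h1
        · apply Subtype.ext
          show ((((p.1.1.out * p.2.1 : G) : G ⧸ L)).out)⁻¹ * (p.1.1.out * p.2.1) = p.2.1
          rw [h1]
          group }
  rw [Nat.card_congr e, Nat.card_prod]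
  exact dvd_mul_left _ _

/-- A conjugation-invariant set all of whose classes have size divisible by `d` has size
divisible by `d`. -/
theorem dvd_card_of_conj_invariant (Y : Set G) (hY : ∀ t ∈ Y, ∀ g : G, g * t * g⁻¹ ∈ Y) (d : ℕ)
    (hd : ∀ t ∈ Y, d ∣ Nat.card {y : G // IsConj t y}) : d ∣ Nat.card Y := by
  classical
  haveI : Fintype (ConjClasses G) := Fintype.ofFinite _
  let f : Y → ConjClasses G := fun y => ConjClasses.mk y.1
  rw [Nat.card_congr (Equiv.sigmaFiberEquiv f).symm, Nat.card_sigma]
  apply Finset.dvd_sum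
  intro c _
  by_cases hc : ∃ t : Y, f t = c
  · obtain ⟨t, rfl⟩ := hc
    have : Nat.card {y : Y // f y = f t} = Nat.card {y : G // IsConj t.1 y} := by
      apply Nat.card_congr
      refine
        { toFun := fun y => ⟨y.1.1, ?_⟩
          invFun := fun y => ⟨⟨y.1, ?_⟩, ?_⟩
          left_inv := fun y => rfl
          right_inv := fun y => rfl }
      · have h := y.2
        exact (ConjClasses.mk_eq_mk_iff_isConj.mp h).symm
      · obtain ⟨g, hg⟩ := isConj_iff.mp y.2
        rw [← hg]
        exact hY _ t.2 g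
      · exact ConjClasses.mk_eq_mk_iff_isConj.mpr y.2.symm
    rw [this]
    exact hd _ t.2
  · have : IsEmpty {y : Y // f y = c} := ⟨fun y => hc ⟨y.1, y.2⟩⟩
    rw [Nat.card_of_isEmpty]
    exact dvd_zero _

theorem mem_zpowers_of_order_two {z x : G} (hz : z * z = 1) (hx : x ∈ zpowers z) :
    x = 1 ∨ x = z := by
  obtain ⟨k, rfl⟩ := hx
  have hz' : z ^ (2 : ℤ) = 1 := by
    rw [zpow_two, hz]
  rcases Int.even_or_odd' k with ⟨m, rfl | rfl⟩
  · left
    dsimp only
    rw [zpow_mul, hz', one_zpow]
  · right
    dsimp only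
    simp only [zpow_add, zpow_mul, hz', one_zpow, one_mul, zpow_one]

/-- Mod 4 counting in a group with a central involution. -/
theorem four_dvd_card {X : Type*} [Group X] [Finite X] (hX : IsPGroup 2 X) {z₀ : X}
    (hz : z₀ ∈ center X) (hz2 : z₀ * z₀ = 1) (hz1 : z₀ ≠ 1) (hne : zpowers z₀ ≠ ⊤) :
    4 ∣ Nat.card {c : X // c ^ 2 = 1 ∨ c ^ 2 = z₀} := by
  classical
  haveI hp : Fact (Nat.Prime 2) := ⟨Nat.prime_two⟩
  have hzc : zpowers z₀ ≤ center X := by rwa [zpowers_le]
  haveI hZn : (zpowers z₀).Normal := by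
    constructor
    intro n hn g
    have h1 := mem_center_iff.mp (hzc hn) g
    rw [h1]
    simpa using hn
  have horder : orderOf z₀ = 2 := orderOf_eq_prime (by rw [sq]; exact hz2) hz1
  have hQ : IsPGroup 2 (X ⧸ zpowers z₀) := hX.to_quotient _
  haveI : Nontrivial (X ⧸ zpowers z₀) := by
    apply QuotientGroup.nontrivial_iff.mpr hne
  obtain ⟨w, -, hwc, hwo⟩ := exists_central_orderOf_eq hQ ⊤ (top_ne_bot)
  have hw2 : w ^ 2 = 1 := by rw [← hwo]; exact pow_orderOf_eq_one w
  let π := QuotientGroup.mk' (zpowers z₀)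
  let L : Subgroup X := (zpowers w).comap π
  have hLc : Nat.card L = 4 := by
    have h1 := L.card_mul_index
    have h2 : L.index = (zpowers w).index :=
      Subgroup.index_comap_of_surjective _ (QuotientGroup.mk'_surjective _)
    have h3 := (zpowers w).card_mul_index
    have h4 := Subgroup.card_eq_card_quotient_mul_card_subgroup (zpowers z₀)
    rw [Nat.card_zpowers, hwo] at h3
    rw [Nat.card_zpowers, horder] at h4
    have h5 : (zpowers w).index ≠ 0 := Subgroup.index_ne_zero_of_finite
    rw [h2, h4, ← h3] at h1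
    have : Nat.card L * (zpowers w).index = 4 * (zpowers w).index := by
      rw [h1]; ring
    exact Nat.eq_of_mul_eq_mul_right (Nat.pos_of_ne_zero h5) this
  have hM : ∀ c : X, (c ^ 2 = 1 ∨ c ^ 2 = z₀) ↔ π c ^ 2 = 1 := by
    intro c
    constructor
    · rintro (h | h)
      · rw [← map_pow, h, map_one]
      · rw [← map_pow, h]
        exact (QuotientGroup.eq_one_iff _).mpr (mem_zpowers _)
    · intro h
      rw [← map_pow] at h
      have := (QuotientGroup.eq_one_iff _).mp h
      exact mem_zpowers_of_order_two hz2 this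
  have hclosed := card_dvd_of_mul_closed L {c : X | c ^ 2 = 1 ∨ c ^ 2 = z₀} (by
    intro x hx l hl
    have hx' : π x ^ 2 = 1 := (hM x).mp hx
    obtain ⟨k, hk⟩ := (hl : π l ∈ zpowers w)
    have hcomm : Commute (π x) (π l) := by
      rw [← hk]
      have : w ^ k ∈ center (X ⧸ zpowers z₀) := zpow_mem hwc k
      exact (mem_center_iff.mp this (π x))
    show x * l ∈ {c : X | c ^ 2 = 1 ∨ c ^ 2 = z₀}
    apply (hM _).mpr
    rw [map_mul, hcomm.mul_pow, hx', one_mul, ← hk, ← zpow_natCast, ← zpow_mul, mul_comm,
      zpow_mul, zpow_natCast, hw2, one_zpow])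
  rw [hLc] at hclosed
  exact hclosed

/-- Four explicit elements exhaust a Klein four subgroup. -/
theorem klein_mem {R : Subgroup G} (hRc : IsMulCommutative R) (hRe : ∀ a ∈ R, a ^ 2 = 1)
    (hR4 : Nat.card R = 4) {a b c : G} (ha : a ∈ R) (hb : b ∈ R) (hc : c ∈ R) (ha1 : a ≠ 1)
    (hb1 : b ≠ 1) (hab : a ≠ b) : c = 1 ∨ c = a ∨ c = b ∨ c = a * b := by
  classical
  have h1 : a * b ≠ 1 := by
    intro h
    apply hab
    have h2 : a * a = 1 := by rw [← sq]; exact hRe a ha
    calc a = a * (a * b) := by rw [h, mul_one]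
      _ = b := by rw [← mul_assoc, h2, one_mul]
  have h2 : a * b ≠ a := fun h => hb1 (by simpa using h)
  have h3 : a * b ≠ b := fun h => ha1 (by simpa using h)
  let S : Finset G := {1, a, b, a * b}
  have hS : S.card = 4 := by
    have h' : (1 : G) ∉ ({a, b, a * b} : Finset G) := by
      simp only [Finset.mem_insert, Finset.mem_singleton, not_or]
      exact ⟨ha1.symm, hb1.symm, h1.symm⟩
    have h'' : a ∉ ({b, a * b} : Finset G) := by
      simp only [Finset.mem_insert, Finset.mem_singleton, not_or]
      exact ⟨hab, h2.symm⟩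
    have h''' : b ∉ ({a * b} : Finset G) := by
      simp only [Finset.mem_singleton]
      exact h3.symm
    rw [Finset.card_insert_of_notMem h', Finset.card_insert_of_notMem h'',
      Finset.card_insert_of_notMem h''', Finset.card_singleton]
  have hsub : (S : Set G) ⊆ R := by
    intro x hx
    simp only [S, Finset.coe_insert, Finset.coe_singleton, Set.mem_insert_iff,
      Set.mem_singleton_iff] at hx
    rcases hx with rfl | rfl | rfl | rfl
    · exact one_mem _
    · exact ha
    · exact hb
    · exact mul_mem ha hb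
  have heq : (S : Set G) = R := by
    apply Set.eq_of_subset_of_ncard_le hsub _ (Set.toFinite _)
    rw [Set.ncard_coe_finset, hS, ← Nat.card_coe_set_eq]
    exact hR4.le
  have hcS : c ∈ (S : Set G) := by rw [heq]; exact hc
  simpa [S] using hcS

theorem eq_four_aux {n k : ℕ} (h : n ∣ 2 ^ k) (h4 : n ≤ 4) (h2 : ¬ n ≤ 2) : n = 4 := by
  obtain ⟨i, -, rfl⟩ := (Nat.dvd_prime_pow Nat.prime_two).mp h
  have h3 : i ≤ 2 := by
    by_contra hlt
    have : 2 ^ 3 ≤ 2 ^ i := Nat.pow_le_pow_right (by norm_num) (by omega)
    omega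
  interval_cases i <;> simp_all

/-- The main counting step. -/
theorem index_eq_four_of_normal_klein (hG : IsPGroup 2 G) (R : Subgroup G) [R.Normal]
    (hRc : IsMulCommutative R) (hRe : ∀ a ∈ R, a ^ 2 = 1) (hR4 : Nat.card R = 4)
    (hN : Nat.card {x : G // x ^ 2 = 1} % 4 = 2) : (commutator G).index = 4 := by
  classical
  haveI hp : Fact (Nat.Prime 2) := ⟨Nat.prime_two⟩
  have hcommR : ∀ {u v : G}, u ∈ R → v ∈ R → u * v = v * u := fun hu hv =>
    Cfsg.Agent.Lib.QuadAct.Basic.comm_of_isMulCommutative hRc hu hv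
  set C := centralizer (R : Set G) with hC
  have hCn : C.Normal := inferInstance
  let Y : Set G := {t | t ^ 2 = 1 ∧ t ∉ C}
  let W : Set G := {x | x ∈ C ∧ x ^ 2 = 1}
  have hN1 : Nat.card {x : G // x ^ 2 = 1} = Nat.card W + Nat.card Y := by
    have hdisj : Disjoint W Y := by
      rw [Set.disjoint_left]
      rintro x ⟨h1, -⟩ ⟨-, h2⟩
      exact h2 h1
    have hun : {x : G | x ^ 2 = 1} = W ∪ Y := by
      ext x
      simp only [Set.mem_setOf_eq, Set.mem_union, W, Y]
      tauto
    have h1 : Nat.card {x : G // x ^ 2 = 1} = Nat.card ({x : G | x ^ 2 = 1} : Set G) := rfl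
    rw [h1, hun, Nat.card_coe_set_eq, Nat.card_coe_set_eq, Nat.card_coe_set_eq,
      Set.ncard_union_eq hdisj (Set.toFinite _) (Set.toFinite _)]
  have hW4 : 4 ∣ Nat.card W := by
    have := card_dvd_of_mul_closed R W (by
      rintro x ⟨hx1, hx2⟩ l hl
      have hlC : l ∈ C := by
        rw [hC, mem_centralizer_iff]
        intro h hh
        exact hcommR hh hl
      refine ⟨mul_mem hx1 hlC, ?_⟩
      have : Commute x l := (mem_centralizer_iff.mp hx1 l hl).symm
      rw [this.mul_pow, hx2, hRe l hl, one_mul])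
    rwa [hR4] at this
  have hY2 : Nat.card Y % 4 = 2 := by
    omega
  have hYinv : ∀ t ∈ Y, ∀ g : G, g * t * g⁻¹ ∈ Y := by
    rintro t ⟨h1, h2⟩ g
    refine ⟨?_, fun h => h2 ?_⟩
    · rw [conj_pow, h1]; simp
    · have := hCn.conj_mem _ h g⁻¹
      simpa [mul_assoc] using this
  obtain ⟨t, htY, hcl⟩ : ∃ t ∈ Y, Nat.card {y : G // IsConj t y} = 1 ∨
      Nat.card {y : G // IsConj t y} = 2 := by
    by_contra hcon
    push Not at hcon
    have : 4 ∣ Nat.card Y := dvd_card_of_conj_invariant Y hYinv 4 (fun t ht => by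
      obtain ⟨h1, h2⟩ := hcon t ht
      obtain ⟨k, hk⟩ := hG.exists_card_eq
      have h3 := Cfsg.Agent.Lib.FGStruct.Class.card_class_mul_card_centralizer t
      have h4 : Nat.card {y : G // IsConj t y} ∣ 2 ^ k := by
        rw [← hk, ← h3]
        exact dvd_mul_right _ _
      obtain ⟨i, -, hi⟩ := (Nat.dvd_prime_pow Nat.prime_two).mp h4
      rw [hi] at h1 h2 ⊢
      have hi2 : 2 ≤ i := by
        by_contra hlt
        have : i = 0 ∨ i = 1 := by omega
        rcases this with rfl | rfl
        · exact h1 rfl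
        · exact h2 rfl
      exact pow_dvd_pow 2 hi2)
    omega
  obtain ⟨ht2', htC⟩ := htY
  have ht2 : t * t = 1 := by rw [← sq]; exact ht2'
  have htinv : t⁻¹ = t := inv_eq_of_mul_eq_one_left ht2
  -- an element of `R` not commuting with `t`
  obtain ⟨r, hrR, hrt⟩ : ∃ r ∈ R, r * t ≠ t * r := by
    by_contra hcon
    push Not at hcon
    exact htC (mem_centralizer_iff.mpr hcon)
  have hr2 : r * r = 1 := by rw [← sq]; exact hRe r hrR
  have hrinv : r⁻¹ = r := inv_eq_of_mul_eq_one_left hr2
  set z := r * t * r * t with hz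
  have hzR : z ∈ R := by
    have h1 : t * r * t⁻¹ ∈ R := (inferInstance : R.Normal).conj_mem r hrR t
    rw [htinv] at h1
    have : z = r * (t * r * t) := by rw [hz]; group
    rw [this]
    exact mul_mem hrR h1
  have hz2 : z * z = 1 := by rw [← sq]; exact hRe z hzR
  have hz1 : z ≠ 1 := by
    intro h
    apply hrt
    have h1 : r * t * r * t = 1 := h
    calc r * t = r * t * r * t * (t * r) := by
          simp only [mul_assoc]
          rw [← mul_assoc t t r, ht2, one_mul, hr2, mul_one]
      _ = t * r := by rw [h1, one_mul]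
  have hzinv : z⁻¹ = z := inv_eq_of_mul_eq_one_left hz2
  have hzr : z * r = r * z := hcommR hzR hrR
  have hzt : z * t = t * z := by
    have h1 : z⁻¹ = t * r * t * r := by
      rw [hz]
      simp only [mul_inv_rev, hrinv, htinv]
      group
    have h2 : t * z * t = z⁻¹ := by
      rw [h1, hz]
      simp only [mul_assoc]
      rw [ht2, mul_one]
    rw [hzinv] at h2
    calc z * t = t * z * t * t := by rw [h2]
      _ = t * z := by rw [mul_assoc, ht2, mul_one]
  -- key relations
  have hconj_t : r * t * r⁻¹ = z * t := by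
    rw [hrinv, hz]
    simp only [mul_assoc]
    rw [ht2, mul_one]
  have hconj_r : t * r * t⁻¹ = z * r := by
    rw [htinv]
    have h1 : z * r = r * z := hzr
    rw [h1, hz]
    calc t * r * t = r * r * (t * r * t) := by rw [hr2, one_mul]
      _ = r * (r * t * r * t) := by group
  -- the class of `t`
  have hclass : ∀ g : G, g * t * g⁻¹ = t ∨ g * t * g⁻¹ = z * t := by
    have hne : z * t ≠ t := fun h => hz1 (by simpa using h)
    have hcard : Nat.card {y : G // IsConj t y} = 2 := by
      rcases hcl with h | h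
      · exfalso
        haveI := Nat.card_eq_one_iff_unique.mp h |>.1
        have h1 : (⟨t, IsConj.refl t⟩ : {y : G // IsConj t y}) =
            ⟨z * t, isConj_iff.mpr ⟨r, hconj_t⟩⟩ := Subsingleton.elim _ _
        exact hne (congrArg Subtype.val h1).symm
      · exact h
    intro g
    obtain ⟨y, -, huniq⟩ := (Nat.card_eq_two_iff' (⟨t, IsConj.refl t⟩ : {y : G // IsConj t y})).mp hcard
    by_cases h : g * t * g⁻¹ = t
    · exact Or.inl h
    · right
      have h1 : (⟨g * t * g⁻¹, isConj_iff.mpr ⟨g, rfl⟩⟩ : {y : G // IsConj t y}) = y :=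
        huniq _ (fun h2 => h (congrArg Subtype.val h2))
      have h2 : (⟨z * t, isConj_iff.mpr ⟨r, hconj_t⟩⟩ : {y : G // IsConj t y}) = y :=
        huniq _ (fun h2 => hne (congrArg Subtype.val h2))
      exact congrArg Subtype.val (h1.trans h2.symm)
  have hrne1 : r ≠ 1 := by
    rintro rfl
    simp at hrt
  have hzner : z ≠ r := by
    intro h
    apply hrt
    rw [← h]
    exact hzt
  -- elements of `R` commuting with `t`
  have hRmem : ∀ u ∈ R, u = 1 ∨ u = z ∨ u = r ∨ u = z * r := fun u hu =>
    klein_mem hRc hRe hR4 hzR hrR hu hz1 hrne1 hzner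
  have hzrt : z * r * t ≠ t * (z * r) := by
    intro h
    apply hrt
    have h1 : z * (r * t) = z * (t * r) := by
      calc z * (r * t) = z * r * t := by group
        _ = t * (z * r) := h
        _ = t * z * r := by group
        _ = z * t * r := by rw [hzt]
        _ = z * (t * r) := by group
    exact mul_left_cancel h1
  have hCRt : ∀ u ∈ R, u * t = t * u → u = 1 ∨ u = z := by
    intro u hu hut
    rcases hRmem u hu with rfl | rfl | rfl | rfl
    · exact Or.inl rfl
    · exact Or.inr rfl
    · exact absurd hut hrt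
    · exact absurd (by simpa [mul_assoc] using hut) hzrt
  -- `z` is central
  have hzcentral : ∀ g : G, g * z * g⁻¹ = z := by
    intro g
    set w := g * z * g⁻¹ with hw
    have hwR : w ∈ R := (inferInstance : R.Normal).conj_mem z hzR g
    have hw1 : w ≠ 1 := by
      intro h
      apply hz1
      have : g⁻¹ * w * g = z := by rw [hw]; group
      rw [← this, h]
      group
    have hwt : w * t = t * w := by
      rcases hclass g with h | h
      · have h1 : w * (g * t * g⁻¹) = (g * t * g⁻¹) * w := by
          rw [hw]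
          calc g * z * g⁻¹ * (g * t * g⁻¹) = g * (z * t) * g⁻¹ := by group
            _ = g * (t * z) * g⁻¹ := by rw [hzt]
            _ = _ := by group
        rwa [h] at h1
      · have h1 : w * (g * t * g⁻¹) = (g * t * g⁻¹) * w := by
          rw [hw]
          calc g * z * g⁻¹ * (g * t * g⁻¹) = g * (z * t) * g⁻¹ := by group
            _ = g * (t * z) * g⁻¹ := by rw [hzt]
            _ = _ := by group
        rw [h] at h1
        have h2 : w * z = z * w := hcommR hwR hzR
        have h3 : z * (w * t) = z * (t * w) := by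
          calc z * (w * t) = (z * w) * t := by group
            _ = (w * z) * t := by rw [h2]
            _ = w * (z * t) := by group
            _ = z * t * w := h1
            _ = z * (t * w) := by group
        exact mul_left_cancel h3
    rcases hCRt w hwR hwt with h | h
    · exact absurd h hw1
    · exact h
  have hzc : ∀ g : G, g * z = z * g := by
    intro g
    have := hzcentral g
    rw [mul_inv_eq_iff_eq_mul] at this
    exact this
  -- the class of `r`
  have hrclass : ∀ g : G, g * r * g⁻¹ = r ∨ g * r * g⁻¹ = z * r := by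
    intro g
    set u := g * r * g⁻¹ with hu
    have huR : u ∈ R := (inferInstance : R.Normal).conj_mem r hrR g
    rcases hRmem u huR with h | h | h | h
    · exfalso
      apply hrne1
      have : g⁻¹ * u * g = r := by rw [hu]; group
      rw [← this, h]
      group
    · exfalso
      apply hzner
      have h1 : g⁻¹ * u * g = r := by rw [hu]; group
      have h2 : g⁻¹ * z * g = z := by
        have := hzcentral g⁻¹
        simpa using this
      rw [← h1, h, h2]
    · exact Or.inl h
    · exact Or.inr h
  have hCr : ∀ g : G, g ∈ C ↔ g * r = r * g := by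
    intro g
    constructor
    · intro h
      exact (mem_centralizer_iff.mp h r hrR).symm
    · intro h
      rw [hC, mem_centralizer_iff]
      intro u hu
      rcases hRmem u hu with rfl | rfl | rfl | rfl
      · simp
      · exact (hzc g).symm
      · exact h.symm
      · calc z * r * g = z * (r * g) := by group
          _ = z * (g * r) := by rw [h]
          _ = z * g * r := by group
          _ = g * z * r := by rw [hzc]
          _ = g * (z * r) := by group
  -- the subgroup `T` and the index two property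
  set T := centralizer ({t} : Set G) with hT
  have hTmem : ∀ g : G, g ∈ T ↔ g * t * g⁻¹ = t := by
    intro g
    rw [hT, mem_centralizer_singleton_iff, mul_inv_eq_iff_eq_mul]
  have hrT : r ∉ T := fun h => hrt (by
    have := (hTmem r).mp h
    rwa [mul_inv_eq_iff_eq_mul] at this)
  have htCmem : t ∉ C := htC
  have hCmul : ∀ g : G, g ∉ C → g * t ∈ C := by
    intro g hg
    have h1 : g * r * g⁻¹ = z * r := by
      rcases hrclass g with h | h
      · exfalso
        apply hg
        rw [hCr]
        rwa [mul_inv_eq_iff_eq_mul] at h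
      · exact h
    rw [hCr]
    have h2 : (g * t) * r * (g * t)⁻¹ = r := by
      calc (g * t) * r * (g * t)⁻¹ = g * (t * r * t⁻¹) * g⁻¹ := by group
        _ = g * (z * r) * g⁻¹ := by rw [hconj_r]
        _ = g * z * r * g⁻¹ := by group
        _ = z * g * r * g⁻¹ := by rw [hzc]
        _ = z * (g * r * g⁻¹) := by group
        _ = z * (z * r) := by rw [h1]
        _ = r := by rw [← mul_assoc, hz2, one_mul]
    rwa [mul_inv_eq_iff_eq_mul] at h2
  have hTmul : ∀ g : G, g ∉ T → g * r ∈ T := by
    intro g hg
    have h1 : g * t * g⁻¹ = z * t := by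
      rcases hclass g with h | h
      · exact absurd ((hTmem g).mpr h) hg
      · exact h
    rw [hTmem]
    calc (g * r) * t * (g * r)⁻¹ = g * (r * t * r⁻¹) * g⁻¹ := by group
      _ = g * (z * t) * g⁻¹ := by rw [hconj_t]
      _ = g * z * t * g⁻¹ := by group
      _ = z * g * t * g⁻¹ := by rw [hzc]
      _ = z * (g * t * g⁻¹) := by group
      _ = z * (z * t) := by rw [h1]
      _ = t := by rw [← mul_assoc, hz2, one_mul]
  have hCidx : C.index = 2 := by
    rw [Subgroup.index_eq_two_iff]
    refine ⟨t, fun b => ?_⟩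
    by_cases hb : b ∈ C
    · refine Or.inr ⟨hb, fun h => htC ?_⟩
      have := mul_mem (inv_mem hb) h
      simpa using this
    · exact Or.inl ⟨hCmul b hb, hb⟩
  have hTidx : T.index = 2 := by
    rw [Subgroup.index_eq_two_iff]
    refine ⟨r, fun b => ?_⟩
    by_cases hb : b ∈ T
    · refine Or.inr ⟨hb, fun h => hrT ?_⟩
      have := mul_mem (inv_mem hb) h
      simpa using this
    · exact Or.inl ⟨hTmul b hb, hb⟩
  set C₀ := C ⊓ T with hC₀
  have hC₀C : C₀ ≤ C := inf_le_left
  have hC₀T : C₀ ≤ T := inf_le_right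
  have hrC : r ∈ C := (hCr r).mpr rfl
  have htT : t ∈ T := (hTmem t).mpr (by simp)
  have hrtcomm : (r * t) * (r * t) = z := by rw [hz]; group
  -- the bijection
  let M := {c : C₀ // (c : G) ^ 2 = 1 ∨ (c : G) ^ 2 = z}
  have hcomm_t : ∀ c : C₀, (c : G) * t = t * c := fun c => mem_centralizer_singleton_iff.mp (hC₀T c.2)
  have hcomm_r : ∀ c : C₀, (c : G) * r = r * c := fun c => (hCr c).mp (hC₀C c.2)
  have hbij : Nat.card M = Nat.card Y := by
    let f : M → Y := fun c =>
      if h : (c.1 : G) ^ 2 = 1 then
        ⟨(c.1 : G) * t, by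
          refine ⟨?_, fun h' => htC ?_⟩
          · rw [(show Commute (c.1 : G) t from hcomm_t c.1).mul_pow, h, ht2', one_mul]
          · have := mul_mem (inv_mem (hC₀C c.1.2)) h'
            simpa using this⟩
      else
        ⟨(c.1 : G) * (r * t), by
          have hc2 : (c.1 : G) ^ 2 = z := (c.2).resolve_left h
          have hcomm : Commute (c.1 : G) (r * t) := by
            show (c.1 : G) * (r * t) = (r * t) * c.1
            rw [← mul_assoc, hcomm_r, mul_assoc, hcomm_t, mul_assoc]
          refine ⟨?_, fun h' => htC ?_⟩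
          · rw [hcomm.mul_pow, hc2, sq (r * t), hrtcomm, hz2]
          · have h1 := mul_mem (inv_mem (hC₀C c.1.2)) h'
            have h2 := mul_mem (inv_mem hrC) h1
            simpa [mul_assoc] using h2⟩
    apply Nat.card_eq_of_bijective f
    have hval : ∀ c : M, (f c : G) = (c.1 : G) * t ∨ (f c : G) = (c.1 : G) * (r * t) := by
      intro c
      by_cases h : (c.1 : G) ^ 2 = 1
      · left; simp only [f, dif_pos h]
      · right; simp only [f, dif_neg h]
    have hval1 : ∀ c : M, (c.1 : G) ^ 2 = 1 → (f c : G) = (c.1 : G) * t := by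
      intro c h
      simp only [f, dif_pos h]
    have hval2 : ∀ c : M, ¬ (c.1 : G) ^ 2 = 1 → (f c : G) = (c.1 : G) * (r * t) := by
      intro c h
      simp only [f, dif_neg h]
    constructor
    · intro c d hcd
      have hcd' : (f c : G) = f d := congrArg Subtype.val hcd
      have hnot : ∀ a b : C₀, (a : G) * t ≠ (b : G) * (r * t) := by
        intro a b h
        apply hrT
        have h1 : (a : G) = b * r := by
          have : (a : G) * t = (b * r) * t := by rw [h]; group
          exact mul_right_cancel this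
        have h2 : r = (b : G)⁻¹ * a := by rw [h1]; group
        rw [h2]
        exact mul_mem (inv_mem (hC₀T b.2)) (hC₀T a.2)
      apply Subtype.ext
      apply Subtype.ext
      by_cases hc : (c.1 : G) ^ 2 = 1 <;> by_cases hd : (d.1 : G) ^ 2 = 1
      · rw [hval1 c hc, hval1 d hd] at hcd'
        exact mul_right_cancel hcd'
      · rw [hval1 c hc, hval2 d hd] at hcd'
        exact absurd hcd' (hnot _ _)
      · rw [hval2 c hc, hval1 d hd] at hcd'
        exact absurd hcd'.symm (hnot _ _)
      · rw [hval2 c hc, hval2 d hd] at hcd'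
        exact mul_right_cancel hcd'
    · rintro ⟨y, hy2, hyC⟩
      have hy2' : y * y = 1 := by rw [← sq]; exact hy2
      have hc' : y * t ∈ C := hCmul y hyC
      by_cases hcT : y * t ∈ T
      · -- first type
        let c : C₀ := ⟨y * t, hc', hcT⟩
        have hct : (c : G) * t = y := by
          show y * t * t = y
          rw [mul_assoc, ht2, mul_one]
        have hc2 : (c : G) ^ 2 = 1 := by
          have h1 : ((c : G) * t) ^ 2 = (c : G) ^ 2 * t ^ 2 :=
            (show Commute (c : G) t from hcomm_t c).mul_pow 2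
          rw [hct, hy2, ht2', mul_one] at h1
          exact h1.symm
        refine ⟨⟨c, Or.inl hc2⟩, ?_⟩
        apply Subtype.ext
        rw [hval1 _ hc2]
        exact hct
      · let c : C₀ := ⟨y * t * r, mul_mem hc' hrC, hTmul _ hcT⟩
        have hct : (c : G) * (r * t) = y := by
          show y * t * r * (r * t) = y
          calc y * t * r * (r * t) = y * t * (r * r) * t := by group
            _ = y * (t * t) := by rw [hr2]; group
            _ = y := by rw [ht2, mul_one]
        have hcomm : Commute (c : G) (r * t) := by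
          show (c : G) * (r * t) = (r * t) * c
          rw [← mul_assoc, hcomm_r, mul_assoc, hcomm_t, mul_assoc]
        have hc2 : (c : G) ^ 2 = z := by
          have h1 : ((c : G) * (r * t)) ^ 2 = (c : G) ^ 2 * (r * t) ^ 2 := hcomm.mul_pow 2
          rw [hct, hy2, sq (r * t), hrtcomm] at h1
          have h3 : (c : G) ^ 2 * z * z = z := by rw [← h1, one_mul]
          rwa [mul_assoc, hz2, mul_one] at h3
        have hc21 : ¬ (c : G) ^ 2 = 1 := by
          rw [hc2]
          exact hz1
        refine ⟨⟨c, Or.inr hc2⟩, ?_⟩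
        apply Subtype.ext
        rw [hval2 _ hc21]
        exact hct
  -- the element `z₀`
  have hzC₀ : z ∈ C₀ := ⟨(hCr z).mpr (hzc r).symm, mem_centralizer_singleton_iff.mpr hzt⟩
  let z₀ : C₀ := ⟨z, hzC₀⟩
  have hz₀c : z₀ ∈ center C₀ := by
    rw [mem_center_iff]
    intro g
    apply Subtype.ext
    exact hzc g
  have hz₀2 : z₀ * z₀ = 1 := Subtype.ext hz2
  have hz₀1 : z₀ ≠ 1 := fun h => hz1 (congrArg Subtype.val h)
  have hC₀p : IsPGroup 2 C₀ := hG.to_subgroup C₀
  by_cases hZ : zpowers z₀ = ⊤
  · -- the small case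
    have hcardC₀ : Nat.card C₀ = 2 := by
      have h1 := Nat.card_zpowers z₀
      rw [hZ, Subgroup.card_top, orderOf_eq_prime (by rw [sq]; exact hz₀2) hz₀1] at h1
      exact h1
    have hidxC₀ : C₀.index ≤ 4 := by
      have := Subgroup.index_inf_le (H := C) (K := T)
      rw [hCidx, hTidx] at this
      exact this
    have hcardG : Nat.card G ≤ 8 := by
      rw [← C₀.card_mul_index, hcardC₀]
      omega
    have hzG' : z ∈ commutator G := by
      have : z = r * t * r⁻¹ * t⁻¹ := by rw [hrinv, htinv]
      rw [this]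
      exact Subgroup.commutator_mem_commutator (mem_top _) (mem_top _)
    have hcardG' : 2 ≤ Nat.card (commutator G) := by
      have h1 : Nontrivial (commutator G) :=
        ⟨⟨⟨z, hzG'⟩, 1, fun h => hz1 (congrArg Subtype.val h)⟩⟩
      exact Finite.one_lt_card
    have hi := (commutator G).card_mul_index
    have hi4 : (commutator G).index ≤ 4 := by
      by_contra hlt
      push Not at hlt
      have : 2 * 5 ≤ Nat.card (commutator G) * (commutator G).index :=
        Nat.mul_le_mul hcardG' hlt
      omega
    have hnc : ¬ (commutator G).index ≤ 2 := by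
      intro h
      have hcyc := Cfsg.Agent.Lib.PGroups.LowerCentral.isCyclic_of_index_commutator_le hG h
      exact hrt ((IsCyclic.isMulCommutative (α := G)).is_comm.comm r t)
    have hdvd : (commutator G).index ∣ Nat.card G := Subgroup.index_dvd_card _
    obtain ⟨k, hk⟩ := hG.exists_card_eq
    rw [hk] at hdvd
    exact eq_four_aux hdvd hi4 hnc
  · exfalso
    have h4 := four_dvd_card hC₀p hz₀c hz₀2 hz₀1 hZ
    have h5 : Nat.card {c : C₀ // c ^ 2 = 1 ∨ c ^ 2 = z₀} = Nat.card M := by
      apply Nat.card_congr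
      apply Equiv.subtypeEquivRight
      intro c
      constructor
      · rintro (h | h)
        · exact Or.inl (congrArg Subtype.val h)
        · exact Or.inr (congrArg Subtype.val h)
      · rintro (h | h)
        · exact Or.inl (Subtype.ext h)
        · exact Or.inr (Subtype.ext h)
    rw [h5, hbij] at h4
    omega

/-- **Theorem.** A finite 2-group with number of involutions `≡ 1 (mod 4)` is cyclic, or has
commutator subgroup of index 4. -/
theorem main (hG : IsPGroup 2 G) (ht : Nat.card {x : G // orderOf x = 2} % 4 = 1) :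
    IsCyclic G ∨ (commutator G).index = 4 := by
  classical
  haveI hp : Fact (Nat.Prime 2) := ⟨Nat.prime_two⟩
  by_cases hcyc : IsCyclic G
  · exact Or.inl hcyc
  right
  have hN : Nat.card {x : G // x ^ 2 = 1} % 4 = 2 := by
    have h1 : {x : G | x ^ 2 = 1} = {1} ∪ {x : G | orderOf x = 2} := by
      ext x
      simp only [Set.mem_setOf_eq, Set.mem_union, Set.mem_singleton_iff]
      constructor
      · intro h
        by_cases hx : x = 1
        · exact Or.inl hx
        · exact Or.inr (orderOf_eq_prime h hx)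
      · rintro (rfl | h)
        · simp
        · rw [← h]; exact pow_orderOf_eq_one x
    have hdisj : Disjoint ({1} : Set G) {x : G | orderOf x = 2} := by
      rw [Set.disjoint_singleton_left]
      simp
    have h2 : Nat.card {x : G // x ^ 2 = 1} = Nat.card ({x : G | x ^ 2 = 1} : Set G) := rfl
    have h3 : Nat.card {x : G // orderOf x = 2} = Nat.card ({x : G | orderOf x = 2} : Set G) := rfl
    rw [h2, h1, Nat.card_coe_set_eq, Set.ncard_union_eq hdisj (Set.toFinite _) (Set.toFinite _),
      Set.ncard_singleton, ← Nat.card_coe_set_eq {x : G | orderOf x = 2}, ← h3]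
    omega
  by_cases hn : ∀ A : Subgroup G, A.Normal → IsMulCommutative A → IsCyclic A
  · obtain ⟨n, a, y, hn2, hao, hcard, hy, hidx, hcases⟩ :=
      Cfsg.Agent.Lib.PGroups.CyclicNormal.classify hG hn hcyc
    -- an element of large order in `G'`
    have hG' : ∃ c ∈ commutator G, 2 ^ (n - 1) ≤ orderOf c := by
      obtain ⟨m, rfl⟩ : ∃ m, n = m + 1 := ⟨n - 1, by omega⟩
      have hm : m + 1 - 1 = m := by omega
      have hmem : y * a * y⁻¹ * a⁻¹ ∈ commutator G :=
        Subgroup.commutator_mem_commutator (mem_top _) (mem_top _)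
      refine ⟨y * a * y⁻¹ * a⁻¹, hmem, ?_⟩
      rw [hm]
      have hinvcase : y * a * y⁻¹ = a⁻¹ → 2 ^ m ≤ orderOf (y * a * y⁻¹ * a⁻¹) := by
        intro h
        rw [h, ← sq, inv_pow, orderOf_inv, orderOf_pow, hao]
        have : Nat.gcd (2 ^ (m + 1)) 2 = 2 := by
          exact Nat.gcd_eq_right (dvd_pow_self 2 (by omega))
        rw [this, pow_succ]
        simp
      rcases hcases with ⟨-, h⟩ | ⟨-, -, h⟩ | ⟨hn3, -, h⟩
      · exact hinvcase h
      · exact hinvcase h
      · -- the semidihedral case
        rw [h]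
        obtain ⟨l, rfl⟩ : ∃ l, m = l + 2 := ⟨m - 2, by omega⟩
        simp only [show l + 2 + 1 - 1 = l + 2 by omega] at h ⊢
        have hpow : (2 : ℕ) ^ (l + 2) - 1 = 2 ^ (l + 2) - 2 + 1 := by
          have : 2 ≤ 2 ^ (l + 2) := by
            have : 2 ^ 1 ≤ 2 ^ (l + 2) := Nat.pow_le_pow_right (by norm_num) (by omega)
            simpa using this
          omega
        have h1 : a ^ (2 ^ (l + 2) - 1) * a⁻¹ = a ^ (2 ^ (l + 2) - 2) := by
          rw [hpow, pow_succ]
          group
        rw [h1, orderOf_pow, hao]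
        have h2 : (2 : ℕ) ^ (l + 2) - 2 = 2 * (2 ^ (l + 1) - 1) := by
          have : 1 ≤ 2 ^ (l + 1) := Nat.one_le_two_pow
          rw [Nat.mul_sub, ← pow_succ']
        have hodd : Nat.Coprime (2 ^ (l + 2)) (2 ^ (l + 1) - 1) := by
          apply Nat.Coprime.pow_left
          rw [Nat.coprime_two_left]
          apply Nat.Even.sub_odd (Nat.one_le_two_pow) _ odd_one
          exact ⟨2 ^ l, by rw [pow_succ]; ring⟩
        have h3 : Nat.gcd (2 ^ (l + 2 + 1)) (2 ^ (l + 2) - 2) = 2 := by
          rw [h2, pow_succ, mul_comm (2 ^ (l + 2)) 2, Nat.gcd_mul_left, hodd.gcd_eq_one, mul_one]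
        rw [h3, show (2 : ℕ) ^ (l + 2 + 1) / 2 = 2 ^ (l + 2) by rw [pow_succ]; simp]
    obtain ⟨c, hcG', hco⟩ := hG'
    have h1 : 2 ^ (n - 1) ≤ Nat.card (commutator G) := by
      refine hco.trans ?_
      have := Subgroup.orderOf_dvd_natCard (commutator G) hcG'
      exact Nat.le_of_dvd Nat.card_pos this
    have hi := (commutator G).card_mul_index
    have hi4 : (commutator G).index ≤ 4 := by
      by_contra hlt
      push Not at hlt
      have h2 : 2 ^ (n - 1) * 5 ≤ Nat.card (commutator G) * (commutator G).index :=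
        Nat.mul_le_mul h1 hlt
      rw [hi, hcard, show n + 1 = (n - 1) + 2 by omega, pow_add] at h2
      have : 0 < 2 ^ (n - 1) := by positivity
      nlinarith
    have hnc : ¬ (commutator G).index ≤ 2 := fun h =>
      hcyc (Cfsg.Agent.Lib.PGroups.LowerCentral.isCyclic_of_index_commutator_le hG h)
    have hdvd : (commutator G).index ∣ Nat.card G := Subgroup.index_dvd_card _
    rw [hcard] at hdvd
    exact eq_four_aux hdvd hi4 hnc
  · push Not at hn
    obtain ⟨A, hAn, hAc, hAnc⟩ := hn
    let K : Subgroup G :=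
      { carrier := {a | a ∈ A ∧ a ^ 2 = 1}
        one_mem' := ⟨one_mem _, one_pow _⟩
        mul_mem' := fun {a b} ha hb => ⟨mul_mem ha.1 hb.1, by
          have : Commute a b := Cfsg.Agent.Lib.QuadAct.Basic.comm_of_isMulCommutative hAc ha.1 hb.1
          rw [this.mul_pow, ha.2, hb.2, one_mul]⟩
        inv_mem' := fun {a} ha => ⟨inv_mem ha.1, by rw [inv_pow, ha.2, inv_one]⟩ }
    haveI hKn : K.Normal := by
      constructor
      intro n hn g
      refine ⟨hAn.conj_mem n hn.1 g, ?_⟩
      rw [conj_pow, hn.2]
      simp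
    have hKdvd : 2 ^ 2 ∣ Nat.card K := by
      obtain ⟨L, -, hLe, hL⟩ := Cfsg.Agent.Lib.PGroups.NormalRankTwo.exists_card_sq_of_comm
        (p := 2) (hG.to_subgroup A)
        (fun a b => Subtype.ext (Cfsg.Agent.Lib.QuadAct.Basic.comm_of_isMulCommutative hAc a.2 b.2)) hAnc
      have hle : L.map A.subtype ≤ K := by
        rintro _ ⟨x, hx, rfl⟩
        refine ⟨x.2, ?_⟩
        have := hLe x hx
        exact congrArg Subtype.val this
      have h1 := Subgroup.card_dvd_of_le hle
      rw [Subgroup.card_map_of_injective A.subtype_injective, hL] at h1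
      exact h1
    obtain ⟨R, hRn, hRK, hR⟩ := Cfsg.Agent.Lib.PGroups.NormalRankTwo.exists_normal_le_card_eq hG K 2 hKdvd
    have hRc : IsMulCommutative R :=
      ⟨⟨fun a b => Subtype.ext
        (Cfsg.Agent.Lib.QuadAct.Basic.comm_of_isMulCommutative hAc (hRK a.2).1 (hRK b.2).1)⟩⟩
    exact index_eq_four_of_normal_klein hG R hRc (fun a ha => (hRK ha).2) (by simpa using hR) hN

end Cfsg.Agent.Lib.PGroups.InvolutionCount
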