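import Cfsg.Agent.Lib.PGroups.Critical
import Cfsg.Agent.Lib.PGroups.CyclicNormal
import Cfsg.Agent.Lib.PGroups.Presentations
import Cfsg.Agent.Lib.PGroups.NormalRankTwo

/-!
# P. Hall's theorem on `p`-groups of symplectic type

If every characteristic abelian subgroup of the finite `p`-group `G` is cyclic, then `G = E ∗ R` with
`E` extraspecial or trivial and `R` cyclic, or dihedral, semidihedral or quaternion of order at least 16.
-/

set_option autoImplicit false
set_option linter.unusedSectionVars false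
set_option linter.unusedVariables false

namespace Cfsg.Agent.Lib.PGroups.Hall

open Subgroup Cfsg.Agent.Lib.PGroups.Basic Cfsg.Agent.Lib.PGroups.ClassTwo
  Cfsg.Agent.Lib.PGroups.Special Cfsg.Agent.Lib.PGroups.Critical
  Cfsg.Agent.Lib.PGroups.NormalRankTwo
open scoped commutatorElement

variable {G : Type*} [Group G] [Finite G] {p : ℕ} [hp : Fact p.Prime]

/-- The setting extracted from a critical subgroup `H`; `Z = C_G(H) = Z(H)` is cyclic and `z₁` a central
element of order `p`. -/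
structure HSetting (p : ℕ) (H : Subgroup G) (z₁ : G) : Prop where
  isP : IsPGroup p G
  hchar : H.Characteristic
  Zle : centralizer (H : Set G) ≤ H
  cyc : IsCyclic (centralizer (H : Set G))
  comm_H : ∀ x ∈ H, ∀ g : G, ⁅x, g⁆ ∈ centralizer (H : Set G)
  pow_H : ∀ x ∈ H, x ^ p ∈ centralizer (H : Set G)
  z₁c : z₁ ∈ center G
  z₁o : orderOf z₁ = p
  hsymp : ∀ A : Subgroup G, A.Characteristic → IsMulCommutative A → IsCyclic A

variable {H : Subgroup G} {z₁ : G}

namespace HSetting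

variable (S : HSetting p H z₁)
include S

theorem z₁Z : z₁ ∈ centralizer (H : Set G) := by
  rw [mem_centralizer_iff]
  intro x _
  exact (mem_center_iff.mp S.z₁c x)

theorem comm_ZH {w x : G} (hw : w ∈ centralizer (H : Set G)) (hx : x ∈ H) : w * x = x * w :=
  (mem_centralizer_iff.mp hw x hx).symm

theorem comm_ZZ {w x : G} (hw : w ∈ centralizer (H : Set G)) (hx : x ∈ centralizer (H : Set G)) :
    w * x = x * w :=
  S.comm_ZH hw (S.Zle hx)

theorem z₁_pow : z₁ ^ p = 1 := by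
  rw [← S.z₁o]
  exact pow_orderOf_eq_one z₁

theorem z₁_ne : z₁ ≠ 1 := by
  intro h
  have := S.z₁o
  rw [h, orderOf_one] at this
  exact hp.out.one_lt.ne this

theorem uniq {w : G} (hw : w ∈ centralizer (H : Set G)) (h1 : w ^ p = 1) : w ∈ zpowers z₁ := by
  have := S.cyc
  have h2 : orderOf (⟨z₁, S.z₁Z⟩ : centralizer (H : Set G)) = p := by
    rw [Subgroup.orderOf_mk]
    exact S.z₁o
  have h3 := mem_zpowers_of_pow_eq_one (w := (⟨z₁, S.z₁Z⟩ : centralizer (H : Set G)))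
    (c := (⟨w, hw⟩ : centralizer (H : Set G))) h2 (Subtype.ext h1)
  obtain ⟨k, hk⟩ := mem_zpowers_iff.mp h3
  exact mem_zpowers_iff.mpr ⟨k, by simpa using congrArg Subtype.val hk⟩

theorem cen_z {x : G} (hx : x ∈ zpowers z₁) : x ∈ center G :=
  (zpowers_le.mpr S.z₁c) hx

theorem comm_z {x : G} (hx : x ∈ zpowers z₁) (g : G) : x * g = g * x :=
  (mem_center_iff.mp (S.cen_z hx) g).symm

theorem z_mem_Z {x : G} (hx : x ∈ zpowers z₁) : x ∈ centralizer (H : Set G) :=
  (zpowers_le.mpr S.z₁Z) hx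

theorem pow_of_z {x : G} (hx : x ∈ zpowers z₁) : x ^ p = 1 := by
  obtain ⟨k, rfl⟩ := mem_zpowers_iff.mp hx
  rw [← zpow_natCast, ← zpow_mul, mul_comm, zpow_mul, zpow_natCast, S.z₁_pow, one_zpow]

theorem comm_HH {x y : G} (hx : x ∈ H) (hy : y ∈ H) : ⁅x, y⁆ ∈ zpowers z₁ := by
  have h1 := S.comm_H x hx y
  apply S.uniq h1
  have h2 : Commute ⁅x, y⁆ x := S.comm_ZH h1 hx
  rw [← comm_pow_left_of_comm h2, commutatorElement_eq_one_iff_mul_comm]
  exact S.comm_ZH (S.pow_H x hx) hy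

theorem comm_t {t : G} (ht : t ∈ H) (htp : t ^ p = 1) (g : G) : ⁅t, g⁆ ∈ zpowers z₁ := by
  have h1 := S.comm_H t ht g
  apply S.uniq h1
  set c := ⁅t, g⁆ with hc
  have h2 : g * t⁻¹ * g⁻¹ = t⁻¹ * c := by
    rw [hc, commutatorElement_def]
    group
  have h3 : Commute t⁻¹ c := (Commute.inv_right (S.comm_ZH h1 ht)).symm
  have h4 : (g * t⁻¹ * g⁻¹) ^ p = 1 := by
    rw [conj_pow, inv_pow, htp]
    simp
  rw [h2, h3.mul_pow, inv_pow, htp] at h4
  simpa using h4

theorem comm_t' {t : G} (ht : t ∈ H) (htp : t ^ p = 1) (g : G) : ⁅g, t⁆ ∈ zpowers z₁ := by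
  rw [← commutatorElement_inv]
  exact inv_mem (S.comm_t ht htp g)

end HSetting

/-- Commutators of a product, with a central value. -/
theorem comm_mul_left_of_central {x y g : G} (h : ⁅y, g⁆ ∈ center G) :
    ⁅x * y, g⁆ = ⁅x, g⁆ * ⁅y, g⁆ := by
  have h1 : ⁅x * y, g⁆ = x * ⁅y, g⁆ * x⁻¹ * ⁅x, g⁆ := by
    simp only [commutatorElement_def]
    group
  rw [h1, (mem_center_iff.mp h) x]
  simp only [mul_inv_cancel_right]
  exact ((mem_center_iff.mp h) _).symm

/-- The subgroup of the elements `x` such that `⁅x, g⁆ ∈ A` for `A` central and all `g ∈ T`. -/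
def actSub (A : Subgroup G) (hA : A ≤ center G) (T : Set G) : Subgroup G where
  carrier := {x | ∀ g ∈ T, ⁅x, g⁆ ∈ A}
  mul_mem' := by
    intro a b ha hb g hg
    rw [comm_mul_left_of_central (hA (hb g hg))]
    exact A.mul_mem (ha g hg) (hb g hg)
  one_mem' := by
    intro g _
    simp
  inv_mem' := by
    intro a ha g hg
    have h1 : ⁅a⁻¹, g⁆ = a⁻¹ * ⁅a, g⁆⁻¹ * a := by
      simp only [commutatorElement_def]
      group
    rw [h1, (mem_center_iff.mp (hA (inv_mem (ha g hg)))) a⁻¹]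
    simpa using inv_mem (ha g hg)

theorem mem_actSub {A : Subgroup G} {hA : A ≤ center G} {T : Set G} {x : G} :
    x ∈ actSub A hA T ↔ ∀ g ∈ T, ⁅x, g⁆ ∈ A := Iff.rfl

/-- A criterion for `ExtraLike`. -/
theorem extraLike_of_props (hG : IsPGroup p G) (hc : z₁ ∈ center G) (ho : orderOf z₁ = p)
    (E : Subgroup G) (hz : z₁ ∈ E)
    (hcen : ∀ x ∈ E, (∀ y ∈ E, x * y = y * x) → x ∈ zpowers z₁)
    (hcomm : ∀ x ∈ E, ∀ y ∈ E, ⁅x, y⁆ ∈ zpowers z₁)
    (hpow : ∀ x ∈ E, x ^ p ∈ zpowers z₁) : ExtraLike p E := by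
  have hmemc : ∀ x : E, (x : G) ∈ zpowers z₁ → x ∈ center E := by
    intro x hx
    rw [mem_center_iff]
    intro g
    apply Subtype.ext
    exact (mem_center_iff.mp ((zpowers_le.mpr hc) hx) g)
  refine ⟨hG.to_subgroup E, ?_, ?_, ?_⟩
  · have h1 : (center E).map E.subtype = zpowers z₁ := by
      ext x
      constructor
      · rintro ⟨y, hy, rfl⟩
        apply hcen _ y.2
        intro u hu
        have := mem_center_iff.mp hy ⟨u, hu⟩
        exact (congrArg Subtype.val this).symm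
      · intro hx
        have hxE : x ∈ E := (zpowers_le.mpr hz) hx
        exact ⟨⟨x, hxE⟩, hmemc ⟨x, hxE⟩ hx, rfl⟩
    have h2 : Nat.card ((center E).map E.subtype) = Nat.card (center E) :=
      Subgroup.card_map_of_injective E.subtype_injective
    rw [← h2, h1, Nat.card_zpowers, ho]
  · intro x y
    exact hmemc _ (hcomm x x.2 y y.2)
  · intro x
    exact hmemc _ (hpow x x.2)

/-- Representing the action on an `ExtraLike` subgroup. -/
theorem exists_rep {E : Subgroup G} (hL : ExtraLike p E) (hc : z₁ ∈ center G) (hzE : z₁ ∈ E)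
    (hcen : ∀ x ∈ E, (∀ y ∈ E, x * y = y * x) → x ∈ zpowers z₁)
    (hact : ∀ x ∈ E, ∀ g : G, ⁅x, g⁆ ∈ zpowers z₁) (g : G) :
    ∃ e ∈ E, ∀ x ∈ E, (e⁻¹ * g) * x = x * (e⁻¹ * g) := by
  have hcc : zpowers z₁ ≤ center G := zpowers_le.mpr hc
  have hle : zpowers z₁ ≤ E := zpowers_le.mpr hzE
  have hact' : ∀ x ∈ E, ⁅g, x⁆ ∈ zpowers z₁ := fun x hx => by
    rw [← commutatorElement_inv]
    exact inv_mem (hact x hx g)
  have hmemc : ∀ x : E, (x : G) ∈ zpowers z₁ → x ∈ center E := by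
    intro x hx
    rw [mem_center_iff]
    intro g
    apply Subtype.ext
    exact (mem_center_iff.mp (hcc hx) g)
  let f : E →* center E :=
    { toFun := fun x => ⟨⟨⁅g, (x : G)⁆, hle (hact' x x.2)⟩, hmemc _ (hact' x x.2)⟩
      map_one' := by
        apply Subtype.ext
        apply Subtype.ext
        simp
      map_mul' := fun x y => by
        apply Subtype.ext
        apply Subtype.ext
        show ⁅g, (x : G) * y⁆ = ⁅g, (x : G)⁆ * ⁅g, (y : G)⁆
        have h1 : ⁅g, (x : G) * y⁆ = ⁅g, (x : G)⁆ * ((x : G) * ⁅g, (y : G)⁆ * (x : G)⁻¹) := by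
          simp only [commutatorElement_def]
          group
        rw [h1, (mem_center_iff.mp (hcc (hact' y y.2))) x]
        simp }
  obtain ⟨e, he⟩ := hL.exists_comm_eq_hom f (by
    intro z hz
    apply Subtype.ext
    apply Subtype.ext
    show ⁅g, (z : G)⁆ = 1
    have h1 : (z : G) ∈ zpowers z₁ := by
      apply hcen _ z.2
      intro u hu
      have := mem_center_iff.mp hz ⟨u, hu⟩
      exact (congrArg Subtype.val this).symm
    rw [commutatorElement_eq_one_iff_mul_comm]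
    exact (mem_center_iff.mp (hcc h1) g))
  refine ⟨e, e.2, fun x hx => ?_⟩
  have h2 : ⁅g, x⁆ = ⁅(e : G), x⁆ := by
    have := congrArg Subtype.val (he ⟨x, hx⟩)
    exact this
  simp only [commutatorElement_def] at h2
  have h3 : g * x * g⁻¹ = (e : G) * x * (e : G)⁻¹ := mul_right_cancel h2
  have h4 : g * x = (e : G) * x * (e : G)⁻¹ * g := by
    rw [← h3]
    group
  rw [mul_assoc, h4]
  group

/-- The family used for the central decomposition. -/
structure IsF (p : ℕ) (K E : Subgroup G) (z₁ : G) : Prop where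
  hz : z₁ ∈ E
  hle : E ≤ K
  hcen : ∀ x ∈ E, (∀ y ∈ E, x * y = y * x) → x ∈ zpowers z₁
  hact : ∀ x ∈ E, ∀ g : G, ⁅x, g⁆ ∈ zpowers z₁
  hexp : p ≠ 2 → ∀ x ∈ E, x ^ p = 1

theorem pow_eq_one_or_comm {x y : G} (hx : x ^ p = 1) (n : ℕ) (h : x ^ n * y = y * x ^ n) :
    x ^ n = 1 ∨ x * y = y * x := by
  by_cases h1 : x ^ n = 1
  · exact Or.inl h1
  right
  have h2 : x ≠ 1 := by
    rintro rfl
    simp at h1
  have h3 : orderOf x = p := orderOf_eq_prime hx h2
  have h4 : Nat.Coprime n (orderOf x) := by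
    rw [h3, Nat.coprime_comm, hp.out.coprime_iff_not_dvd]
    intro h5
    apply h1
    rw [← h3] at h5
    exact orderOf_dvd_iff_pow_eq_one.mp h5
  obtain ⟨m, hm⟩ := exists_pow_eq_self_of_coprime h4
  have h5 : Commute (x ^ n) y := h
  have h6 := h5.pow_left m
  rw [hm] at h6
  exact h6

namespace HSetting

variable (S : HSetting p H z₁)
include S

theorem extraLike_of_isF {K E : Subgroup G} (hKH : K ≤ H) (hF : IsF p K E z₁) : ExtraLike p E := by
  refine extraLike_of_props S.isP S.z₁c S.z₁o E hF.hz hF.hcen (fun x hx y _ => hF.hact x hx y) ?_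
  intro x hx
  apply hF.hcen _ (E.pow_mem hx p)
  intro y hy
  exact S.comm_ZH (S.pow_H x (hKH (hF.hle hx))) (hKH (hF.hle hy))

theorem isF_base {K : Subgroup G} (hK : centralizer (H : Set G) ≤ K) : IsF p K (zpowers z₁) z₁ := by
  refine ⟨mem_zpowers z₁, (zpowers_le.mpr S.z₁Z).trans hK, fun x hx _ => hx, ?_, ?_⟩
  · intro x hx g
    rw [commutatorElement_eq_one_iff_mul_comm.mpr (S.comm_z hx g)]
    exact one_mem _
  · intro _ x hx
    exact S.pow_of_z hx

/-- The subgroup of elements of `H` of order dividing `p`, for odd `p`. -/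
def omegaH (hp2 : p ≠ 2) : Subgroup G where
  carrier := {x | x ∈ H ∧ x ^ p = 1}
  mul_mem' := by
    rintro a b ⟨ha, ha1⟩ ⟨hb, hb1⟩
    refine ⟨H.mul_mem ha hb, ?_⟩
    have h1 := S.comm_H b hb a
    rw [mul_pow_prime_of_comm hp.out hp2 (S.comm_ZH h1 ha) (S.comm_ZH h1 hb)
      (S.pow_of_z (S.comm_HH hb ha)), ha1, hb1, one_mul]
  one_mem' := ⟨one_mem _, one_pow _⟩
  inv_mem' := by
    rintro a ⟨ha, ha1⟩
    exact ⟨inv_mem ha, by rw [inv_pow, ha1, inv_one]⟩

/-- The normal form in `E ⊔ ⟨t, t'⟩`. -/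
theorem nf {E : Subgroup G} (hH : E ≤ H) (hzE : z₁ ∈ E) {t t' : G} (ht : t ∈ H) (ht' : t' ∈ H)
    (htE : ∀ x ∈ E, t * x = x * t) (ht'E : ∀ x ∈ E, t' * x = x * t')
    (htp : t ^ p = 1) (ht'p : t' ^ p = 1) {w : G} (hw : w ∈ E ⊔ closure ({t, t'} : Set G)) :
    ∃ e ∈ E, ∃ a b : ℕ, w = e * t ^ a * t' ^ b := by
  have hle : zpowers z₁ ≤ E := zpowers_le.mpr hzE
  have heq : E ⊔ closure ({t, t'} : Set G) = closure ((E : Set G) ∪ {t, t'}) := by
    rw [Subgroup.closure_union, closure_eq]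
  have hmulE : ∀ u ∈ E, ∀ (e : G), e ∈ E → ∀ a b : ℕ,
      ∃ e' ∈ E, ∃ a' b' : ℕ, (e * t ^ a * t' ^ b) * u = e' * t ^ a' * t' ^ b' := by
    intro u hu e he a b
    refine ⟨e * u, E.mul_mem he hu, a, b, ?_⟩
    have h1 : Commute (t ^ a) u := Commute.pow_left (htE u hu) a
    have h2 : Commute (t' ^ b) u := Commute.pow_left (ht'E u hu) b
    calc e * t ^ a * t' ^ b * u = e * t ^ a * (t' ^ b * u) := by group
      _ = e * (t ^ a * u) * t' ^ b := by rw [h2.eq]; group
      _ = e * (u * t ^ a) * t' ^ b := by rw [h1.eq]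
      _ = _ := by group
  have hmulT : ∀ n : ℕ, ∀ (e : G), e ∈ E → ∀ a b : ℕ,
      ∃ e' ∈ E, ∃ a' b' : ℕ, (e * t ^ a * t' ^ b) * t ^ n = e' * t ^ a' * t' ^ b' := by
    intro n e he a b
    have hc := S.comm_HH ht' (H.pow_mem ht n)
    have h1 : t' ^ b * t ^ n = ⁅t', t ^ n⁆ ^ b * t ^ n * t' ^ b :=
      pow_mul_of_comm (S.comm_z hc t') b
    have hcb : ⁅t', t ^ n⁆ ^ b ∈ zpowers z₁ := pow_mem hc b
    refine ⟨e * ⁅t', t ^ n⁆ ^ b, E.mul_mem he (hle hcb), a + n, b, ?_⟩
    calc e * t ^ a * t' ^ b * t ^ n = e * t ^ a * (t' ^ b * t ^ n) := by group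
      _ = e * t ^ a * (⁅t', t ^ n⁆ ^ b * t ^ n * t' ^ b) := by rw [h1]
      _ = e * (t ^ a * ⁅t', t ^ n⁆ ^ b) * t ^ n * t' ^ b := by group
      _ = e * (⁅t', t ^ n⁆ ^ b * t ^ a) * t ^ n * t' ^ b := by rw [S.comm_z hcb (t ^ a)]
      _ = _ := by rw [pow_add]; group
  have hinvT : t⁻¹ = t ^ (p - 1) := by
    rw [eq_comm, eq_inv_iff_mul_eq_one, ← pow_succ, Nat.sub_add_cancel hp.out.one_lt.le, htp]
  have hinvT' : t'⁻¹ = t' ^ (p - 1) := by
    rw [eq_comm, eq_inv_iff_mul_eq_one, ← pow_succ, Nat.sub_add_cancel hp.out.one_lt.le, ht'p]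
  rw [heq] at hw
  induction hw using closure_induction_right with
  | one => exact ⟨1, one_mem _, 0, 0, by simp⟩
  | mul_right x hx y hy ih =>
    obtain ⟨e, he, a, b, rfl⟩ := ih
    rcases hy with hy | hy
    · exact hmulE y hy e he a b
    · rcases hy with rfl | rfl
      · have := hmulT 1 e he a b
        simpa using this
      · exact ⟨e, he, a, b + 1, by rw [pow_succ]; group⟩
  | mul_inv_cancel x hx y hy ih =>
    obtain ⟨e, he, a, b, rfl⟩ := ih
    rcases hy with hy | hy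
    · exact hmulE y⁻¹ (inv_mem hy) e he a b
    · rcases hy with rfl | rfl
      · rw [hinvT]
        exact hmulT _ e he a b
      · rw [hinvT']
        exact ⟨e, he, a, b + (p - 1), by rw [pow_add]; group⟩

/-- The extension step. -/
theorem extend {K E : Subgroup G} (hKH : K ≤ H) (hF : IsF p K E z₁) {t t' : G} (ht : t ∈ K)
    (ht' : t' ∈ K) (htE : ∀ x ∈ E, t * x = x * t) (ht'E : ∀ x ∈ E, t' * x = x * t')
    (htp : t ^ p = 1) (ht'p : t' ^ p = 1) (hne : t * t' ≠ t' * t) :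
    IsF p K (E ⊔ closure ({t, t'} : Set G)) z₁ := by
  have htmem : t ∈ E ⊔ closure ({t, t'} : Set G) :=
    mem_sup_right (subset_closure (by simp))
  have ht'mem : t' ∈ E ⊔ closure ({t, t'} : Set G) :=
    mem_sup_right (subset_closure (by simp))
  have hzc : zpowers z₁ ≤ center G := zpowers_le.mpr S.z₁c
  refine ⟨mem_sup_left hF.hz, ?_, ?_, ?_, ?_⟩
  · refine sup_le hF.hle ?_
    rw [closure_le]
    rintro x (rfl | rfl)
    · exact ht
    · exact ht'
  · intro w hw hc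
    obtain ⟨e, he, a, b, rfl⟩ := S.nf (hF.hle.trans hKH) hF.hz (hKH ht) (hKH ht') htE ht'E htp ht'p hw
    -- commuting with `t`
    have h1 := hc t htmem
    have hta : Commute (t ^ a) t := (Commute.refl t).pow_left a
    have hte : Commute e t := (htE e he).symm
    have h2 : t' ^ b * t = t * t' ^ b := by
      have h3 : e * t ^ a * (t' ^ b * t) = e * t ^ a * (t * t' ^ b) := by
        calc e * t ^ a * (t' ^ b * t) = e * t ^ a * t' ^ b * t := by group
          _ = t * (e * t ^ a * t' ^ b) := h1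
          _ = (t * e) * t ^ a * t' ^ b := by group
          _ = e * (t * t ^ a) * t' ^ b := by rw [hte.eq.symm]; group
          _ = e * (t ^ a * t) * t' ^ b := by rw [hta.eq]
          _ = _ := by group
      exact mul_left_cancel h3
    have hb : t' ^ b = 1 := by
      rcases pow_eq_one_or_comm ht'p b h2 with h | h
      · exact h
      · exact absurd h.symm hne
    -- commuting with `t'`
    have h4 := hc t' ht'mem
    rw [hb, mul_one] at h4
    have hte' : Commute e t' := (ht'E e he).symm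
    have h5 : t ^ a * t' = t' * t ^ a := by
      have h3 : e * (t ^ a * t') = e * (t' * t ^ a) := by
        calc e * (t ^ a * t') = e * t ^ a * t' := by group
          _ = t' * (e * t ^ a) := h4
          _ = (t' * e) * t ^ a := by group
          _ = (e * t') * t ^ a := by rw [hte'.eq]
          _ = _ := by group
      exact mul_left_cancel h3
    have ha : t ^ a = 1 := by
      rcases pow_eq_one_or_comm htp a h5 with h | h
      · exact h
      · exact absurd h hne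
    rw [hb, ha, mul_one, mul_one] at hc ⊢
    exact hF.hcen e he (fun y hy => hc y (mem_sup_left hy))
  · intro x hx g
    have hle : E ⊔ closure ({t, t'} : Set G) ≤ actSub (zpowers z₁) hzc {g} := by
      refine sup_le ?_ ?_
      · intro y hy u hu
        rw [Set.mem_singleton_iff] at hu
        subst hu
        exact hF.hact y hy _
      · rw [closure_le]
        rintro y (rfl | rfl) u hu
        · rw [Set.mem_singleton_iff] at hu
          subst hu
          exact S.comm_t (hKH ht) htp _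
        · rw [Set.mem_singleton_iff] at hu
          subst hu
          exact S.comm_t (hKH ht') ht'p _
    exact hle hx g rfl
  · intro hp2 x hx
    have hle : E ⊔ closure ({t, t'} : Set G) ≤ S.omegaH hp2 := by
      refine sup_le ?_ ?_
      · intro y hy
        exact ⟨hKH (hF.hle hy), hF.hexp hp2 y hy⟩
      · rw [closure_le]
        rintro y (rfl | rfl)
        · exact ⟨hKH ht, htp⟩
        · exact ⟨hKH ht', ht'p⟩
    exact (hle hx).2

/-- A maximal member of the family has an abelian centralizer in `K`. -/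
theorem exists_F {K : Subgroup G} (hZK : centralizer (H : Set G) ≤ K) (hKH : K ≤ H)
    (nice : ∀ k ∈ K, ∃ w ∈ centralizer (H : Set G), (k * w⁻¹) ^ p = 1) :
    ∃ E : Subgroup G, IsF p K E z₁ ∧ ∀ c ∈ K, ∀ c' ∈ K, (∀ x ∈ E, c * x = x * c) →
      (∀ x ∈ E, c' * x = x * c') → c * c' = c' * c := by
  obtain ⟨E, hE⟩ := (Set.toFinite {E : Subgroup G | IsF p K E z₁}).exists_maximal
    ⟨_, S.isF_base hZK⟩
  refine ⟨E, hE.1, ?_⟩
  intro c hc c' hc' hcE hc'E
  by_contra hne
  obtain ⟨w, hw, hwp⟩ := nice c hc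
  obtain ⟨w', hw', hw'p⟩ := nice c' hc'
  have hwE : ∀ x ∈ E, w⁻¹ * x = x * w⁻¹ := fun x hx =>
    Commute.inv_left (S.comm_ZH hw (hKH (hE.1.hle hx)))
  have hw'E : ∀ x ∈ E, w'⁻¹ * x = x * w'⁻¹ := fun x hx =>
    Commute.inv_left (S.comm_ZH hw' (hKH (hE.1.hle hx)))
  have htE : ∀ x ∈ E, (c * w⁻¹) * x = x * (c * w⁻¹) := fun x hx =>
    Commute.mul_left (hcE x hx) (hwE x hx)
  have ht'E : ∀ x ∈ E, (c' * w'⁻¹) * x = x * (c' * w'⁻¹) := fun x hx =>
    Commute.mul_left (hc'E x hx) (hw'E x hx)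
  have htK : c * w⁻¹ ∈ K := K.mul_mem hc (inv_mem (hZK hw))
  have ht'K : c' * w'⁻¹ ∈ K := K.mul_mem hc' (inv_mem (hZK hw'))
  have hne' : (c * w⁻¹) * (c' * w'⁻¹) ≠ (c' * w'⁻¹) * (c * w⁻¹) := by
    intro h
    apply hne
    have h1 : Commute (c * w⁻¹) (c' * w'⁻¹) := h
    have h2 : c = (c * w⁻¹) * w := by group
    have h3 : c' = (c' * w'⁻¹) * w' := by group
    rw [h2, h3]
    have h4 : Commute w (c' * w'⁻¹) := S.comm_ZH hw (hKH ht'K)
    have h5 : Commute (c * w⁻¹) w' := (S.comm_ZH hw' (hKH htK)).symm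
    have h6 : Commute w w' := S.comm_ZZ hw hw'
    exact ((h1.mul_right h5).mul_left (h4.mul_right h6)).eq
  have hF' := S.extend hKH hE.1 htK ht'K htE ht'E hwp hw'p hne'
  have hle : E ≤ E ⊔ closure ({c * w⁻¹, c' * w'⁻¹} : Set G) := le_sup_left
  have hge := hE.2 hF' hle
  have htmem : c * w⁻¹ ∈ E := hge (mem_sup_right (subset_closure (by simp)))
  have h7 := hE.1.hcen _ htmem (fun y hy => htE y hy)
  exact hne' (S.comm_z h7 _)

/-- Characteristic abelian subgroups containing `z₁`: all solutions of `t ^ p = 1` lie in `⟨z₁⟩`. -/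
theorem mem_of_char (B : Subgroup G) (hB : B.Characteristic) (hab : IsMulCommutative B) (hz : z₁ ∈ B)
    {t : G} (ht : t ∈ B) (htp : t ^ p = 1) : t ∈ zpowers z₁ := by
  have := S.hsymp B hB hab
  have h2 : orderOf (⟨z₁, hz⟩ : B) = p := by
    rw [Subgroup.orderOf_mk]
    exact S.z₁o
  have h3 := mem_zpowers_of_pow_eq_one (w := (⟨z₁, hz⟩ : B)) (c := (⟨t, ht⟩ : B)) h2 (Subtype.ext htp)
  obtain ⟨k, hk⟩ := mem_zpowers_iff.mp h3
  exact mem_zpowers_iff.mpr ⟨k, by simpa using congrArg Subtype.val hk⟩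

theorem Zchar : (centralizer (H : Set G)).Characteristic := by
  have := S.hchar
  infer_instance

/-- The `p`-th power of a product in `H`, modulo `p`-th powers. -/
theorem pow_mul_aux (hz : p ≠ 2 ∨ ∃ j ∈ centralizer (H : Set G), j ^ 2 = z₁) {x y : G} (hx : x ∈ H)
    (hy : y ∈ H) : ∃ v ∈ centralizer (H : Set G), (x * y) ^ p = x ^ p * y ^ p * v ^ p := by
  have h1 := S.comm_H y hy x
  have h2 := mul_pow_of_comm (x := x) (y := y) (S.comm_ZH h1 hx) (S.comm_ZH h1 hy) p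
  by_cases hp2 : p = 2
  · subst hp2
    obtain ⟨j, hj, hj2⟩ := hz.resolve_left (by simp)
    obtain ⟨k, hk⟩ := mem_zpowers_iff.mp (S.comm_HH hy hx)
    refine ⟨j ^ k, zpow_mem hj k, ?_⟩
    have h3 : (j ^ 2) ^ k = (j ^ k) ^ 2 := by
      rw [← zpow_natCast, ← zpow_natCast, ← zpow_mul, ← zpow_mul, mul_comm]
    rw [h2, ← hk, Nat.choose_self, pow_one, ← hj2, h3]
  · refine ⟨1, one_mem _, ?_⟩
    obtain ⟨m, hm⟩ := prime_dvd_choose_two hp.out hp2
    rw [h2, hm, pow_mul, S.pow_of_z (S.comm_HH hy hx)]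
    simp

/-- The kernel of the power map modulo `p`-th powers. -/
def H0 (hz : p ≠ 2 ∨ ∃ j ∈ centralizer (H : Set G), j ^ 2 = z₁) : Subgroup G where
  carrier := {x | x ∈ H ∧ ∃ w ∈ centralizer (H : Set G), x ^ p = w ^ p}
  mul_mem' := by
    rintro a b ⟨ha, w, hw, ha1⟩ ⟨hb, w', hw', hb1⟩
    refine ⟨H.mul_mem ha hb, ?_⟩
    obtain ⟨v, hv, hv1⟩ := S.pow_mul_aux hz ha hb
    refine ⟨w * w' * v, mul_mem (mul_mem hw hw') hv, ?_⟩
    have h1 : Commute w w' := S.comm_ZZ hw hw'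
    have h2 : Commute (w * w') v := (S.comm_ZZ (mul_mem hw hw') hv)
    rw [hv1, ha1, hb1, h2.mul_pow, h1.mul_pow]
  one_mem' := ⟨one_mem _, 1, one_mem _, by simp⟩
  inv_mem' := by
    rintro a ⟨ha, w, hw, ha1⟩
    exact ⟨inv_mem ha, w⁻¹, inv_mem hw, by rw [inv_pow, inv_pow, ha1]⟩

theorem H0_char (hz : p ≠ 2 ∨ ∃ j ∈ centralizer (H : Set G), j ^ 2 = z₁) :
    (S.H0 hz).Characteristic := by
  rw [characteristic_iff_le_comap]
  rintro φ x ⟨hx, w, hw, h1⟩
  have hH := S.hchar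
  have hZ := S.Zchar
  refine ⟨characteristic_iff_le_comap.mp hH φ hx, φ w, characteristic_iff_le_comap.mp hZ φ hw, ?_⟩
  show (φ x) ^ p = (φ w) ^ p
  rw [← map_pow, ← map_pow, h1]

end HSetting

theorem exists_zpow_of_not_pow {C : Type*} [Group C] [Finite C] [IsCyclic C] (hC : IsPGroup p C) {u : C}
    (hu : ∀ v : C, u ≠ v ^ p) (y : C) : ∃ i : ℤ, y = u ^ i := by
  obtain ⟨g, hg⟩ := IsCyclic.exists_generator (α := C)
  obtain ⟨k, hk⟩ := mem_zpowers_iff.mp (hg u)
  obtain ⟨m, hm⟩ := mem_zpowers_iff.mp (hg y)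
  have hpk : ¬ (p : ℤ) ∣ k := by
    rintro ⟨l, rfl⟩
    apply hu (g ^ l)
    rw [← hk, mul_comm, zpow_mul, zpow_natCast]
  obtain ⟨n, hn⟩ := hC g
  have hpp : Prime (p : ℤ) := Nat.prime_iff_prime_int.mp hp.out
  have hco : IsCoprime ((p : ℤ) ^ n) k := ((hpp.irreducible.coprime_iff_not_dvd).mpr hpk).pow_left
  obtain ⟨a, b, hab⟩ := hco
  refine ⟨b * m, ?_⟩
  have h1 : g = u ^ b := by
    have h2 : g ^ ((p : ℤ) ^ n) = 1 := by
      have : ((p : ℤ) ^ n) = ((p ^ n : ℕ) : ℤ) := by push_cast; rfl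
      rw [this, zpow_natCast, hn]
    calc g = g ^ (a * (p : ℤ) ^ n + b * k) := by rw [hab, zpow_one]
      _ = (g ^ ((p : ℤ) ^ n)) ^ a * (g ^ k) ^ b := by
          rw [zpow_add, mul_comm a, zpow_mul, mul_comm b, zpow_mul]
      _ = u ^ b := by rw [h2, hk, one_zpow, one_mul]
  rw [← hm, zpow_mul, ← h1]

/-- The setting after the central decomposition. -/
structure Dec (p : ℕ) (H : Subgroup G) (z₁ : G) (E : Subgroup G) : Prop where
  hF : IsF p H E z₁
  hdec : ∀ h ∈ H, ∃ e ∈ E, ∃ w ∈ centralizer (H : Set G), h = e * w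

namespace HSetting

variable (S : HSetting p H z₁)
include S

/-- The power map is trivial modulo `p`-th powers. -/
theorem H_le_H0 (hz : p ≠ 2 ∨ ∃ j ∈ centralizer (H : Set G), j ^ 2 = z₁) : H ≤ S.H0 hz := by
  have hZK : centralizer (H : Set G) ≤ S.H0 hz := fun w hw => ⟨S.Zle hw, w, hw, rfl⟩
  have hKH : S.H0 hz ≤ H := fun x hx => hx.1
  have hnice : ∀ k ∈ S.H0 hz, ∃ w ∈ centralizer (H : Set G), (k * w⁻¹) ^ p = 1 := by
    rintro k ⟨hk, w, hw, h1⟩
    refine ⟨w, hw, ?_⟩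
    have h2 : Commute k w⁻¹ := (Commute.inv_left (S.comm_ZH hw hk)).symm
    rw [h2.mul_pow, h1, inv_pow]
    simp
  obtain ⟨E, hF, hab⟩ := S.exists_F hZK hKH hnice
  have hL := S.extraLike_of_isF hKH hF
  have hrep := exists_rep hL S.z₁c hF.hz hF.hcen hF.hact
  have hE0 := fun {x : G} (hx : x ∈ E) => hF.hle hx
  -- elements of `H0` commuting with `E` lie in the center
  have claim1 : ∀ c ∈ S.H0 hz, (∀ x ∈ E, c * x = x * c) → c ∈ centralizer (H : Set G) := by
    intro c hc hcE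
    obtain ⟨w, hw, hwp⟩ := hnice c hc
    have htH0 : c * w⁻¹ ∈ S.H0 hz := mul_mem hc (inv_mem (hZK hw))
    have htE : ∀ x ∈ E, (c * w⁻¹) * x = x * (c * w⁻¹) := fun x hx =>
      Commute.mul_left (hcE x hx) (Commute.inv_left (S.comm_ZH hw (hKH (hE0 hx))))
    have htc : ∀ h ∈ S.H0 hz, (c * w⁻¹) * h = h * (c * w⁻¹) := by
      intro h hh
      obtain ⟨e, he, hec⟩ := hrep h
      have h1 : e⁻¹ * h ∈ S.H0 hz := mul_mem (inv_mem (hE0 he)) hh
      have h2 := hab _ htH0 _ h1 htE hec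
      have h3 : h = e * (e⁻¹ * h) := by group
      rw [h3]
      exact Commute.mul_right (htE e he) h2
    have hB : c * w⁻¹ ∈ (S.H0 hz) ⊓ centralizer (S.H0 hz : Set G) :=
      ⟨htH0, mem_centralizer_iff.mpr (fun h hh => (htc h hh).symm)⟩
    have hzH0 : z₁ ∈ S.H0 hz := hE0 hF.hz
    have hzB : z₁ ∈ (S.H0 hz) ⊓ centralizer (S.H0 hz : Set G) :=
      ⟨hzH0, mem_centralizer_iff.mpr (fun h _ => (mem_center_iff.mp S.z₁c h))⟩
    have hchar : ((S.H0 hz) ⊓ centralizer (S.H0 hz : Set G)).Characteristic := by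
      have := S.H0_char hz
      infer_instance
    have habB : IsMulCommutative ((S.H0 hz) ⊓ centralizer (S.H0 hz : Set G) : Subgroup G) := by
      refine ⟨⟨fun a b => Subtype.ext ?_⟩⟩
      exact (mem_centralizer_iff.mp a.2.2 b b.2.1).symm
    have h4 := S.mem_of_char _ hchar habB hzB hB hwp
    have h5 : c * w⁻¹ ∈ centralizer (H : Set G) := S.z_mem_Z h4
    have h6 : c = (c * w⁻¹) * w := by group
    rw [h6]
    exact mul_mem h5 hw
  intro x hx
  by_contra hxH0
  obtain ⟨e, he, hec⟩ := hrep x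
  have hcH : e⁻¹ * x ∈ H := H.mul_mem (inv_mem (hKH (hE0 he))) hx
  have hcH0 : e⁻¹ * x ∉ S.H0 hz := by
    intro h
    apply hxH0
    have h3 : x = e * (e⁻¹ * x) := by group
    rw [h3]
    exact mul_mem (hE0 he) h
  set c := e⁻¹ * x with hc
  have hcp : ∀ w : centralizer (H : Set G), (⟨c ^ p, S.pow_H c hcH⟩ : centralizer (H : Set G)) ≠ w ^ p := by
    intro w hw
    apply hcH0
    refine ⟨hcH, w, w.2, ?_⟩
    have := congrArg Subtype.val hw
    simpa using this
  have hZp : IsPGroup p (centralizer (H : Set G)) := S.isP.to_subgroup _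
  have := S.cyc
  have hcZ : c ∈ centralizer (H : Set G) := by
    rw [mem_centralizer_iff]
    intro y hy
    obtain ⟨i, hi⟩ := exists_zpow_of_not_pow hZp hcp ⟨y ^ p, S.pow_H y hy⟩
    have hi' : y ^ p = (c ^ p) ^ i := by
      have := congrArg Subtype.val hi
      simpa using this
    have hci : c ^ (-i) ∈ H := zpow_mem hcH _
    have hu : y * c ^ (-i) ∈ S.H0 hz := by
      refine ⟨H.mul_mem hy hci, ?_⟩
      obtain ⟨v, hv, hv1⟩ := S.pow_mul_aux hz hy hci
      refine ⟨v, hv, ?_⟩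
      have h2 : (c ^ (-i)) ^ p = ((c ^ p) ^ i)⁻¹ := by
        rw [zpow_neg, inv_pow, ← zpow_natCast, ← zpow_natCast, ← zpow_mul, ← zpow_mul, mul_comm]
      rw [hv1, hi', h2]
      simp
    obtain ⟨e', he', hec'⟩ := hrep (y * c ^ (-i))
    have h3 := claim1 _ (mul_mem (inv_mem (hE0 he')) hu) hec'
    have h4 : Commute c (y * c ^ (-i)) := by
      have h5 : y * c ^ (-i) = e' * (e'⁻¹ * (y * c ^ (-i))) := by group
      rw [h5]
      exact Commute.mul_right (hec e' he') (S.comm_ZH h3 hcH).symm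
    have h6 : y = (y * c ^ (-i)) * c ^ i := by
      rw [zpow_neg]
      group
    have h7 : Commute c y := by
      rw [h6]
      exact h4.mul_right (Commute.zpow_right (Commute.refl c) i)
    exact h7.eq.symm
  exact hcH0 (hZK hcZ)

/-- **The central decomposition of a critical subgroup.** -/
theorem exists_decomp (hz : p ≠ 2 ∨ ∃ j ∈ centralizer (H : Set G), j ^ 2 = z₁) :
    ∃ E : Subgroup G, IsF p H E z₁ ∧ ∀ h ∈ H, ∃ e ∈ E, ∃ w ∈ centralizer (H : Set G), h = e * w := by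
  have hnice : ∀ k ∈ H, ∃ w ∈ centralizer (H : Set G), (k * w⁻¹) ^ p = 1 := by
    intro k hk
    obtain ⟨-, w, hw, h1⟩ := S.H_le_H0 hz hk
    refine ⟨w, hw, ?_⟩
    have h2 : Commute k w⁻¹ := (Commute.inv_left (S.comm_ZH hw hk)).symm
    rw [h2.mul_pow, h1, inv_pow]
    simp
  obtain ⟨E, hF, hab⟩ := S.exists_F S.Zle le_rfl hnice
  have hL := S.extraLike_of_isF le_rfl hF
  have hrep := exists_rep hL S.z₁c hF.hz hF.hcen hF.hact
  refine ⟨E, hF, fun h hh => ?_⟩
  obtain ⟨e, he, hec⟩ := hrep h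
  refine ⟨e, he, e⁻¹ * h, ?_, by group⟩
  rw [mem_centralizer_iff]
  have h1 : e⁻¹ * h ∈ H := H.mul_mem (inv_mem (hF.hle he)) hh
  intro y hy
  obtain ⟨e', he', hec'⟩ := hrep y
  have h2 : e'⁻¹ * y ∈ H := H.mul_mem (inv_mem (hF.hle he')) hy
  have h3 := hab _ h1 _ h2 hec hec'
  have h5 : y = e' * (e'⁻¹ * y) := by group
  rw [h5]
  have h6 : Commute (e⁻¹ * h) (e' * (e'⁻¹ * y)) :=
    Commute.mul_right (hec e' he') h3
  exact h6.symm.eq

variable {E : Subgroup G}

theorem rep (hD : Dec p H z₁ E) (g : G) : ∃ e ∈ E, e⁻¹ * g ∈ centralizer (E : Set G) := by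
  have hL := S.extraLike_of_isF le_rfl hD.hF
  obtain ⟨e, he, h⟩ := exists_rep hL S.z₁c hD.hF.hz hD.hF.hcen hD.hF.hact g
  refine ⟨e, he, mem_centralizer_iff.mpr fun x hx => (h x hx).symm⟩

theorem Z_le (hD : Dec p H z₁ E) : centralizer (H : Set G) ≤ centralizer (E : Set G) := by
  intro w hw
  rw [mem_centralizer_iff]
  intro x hx
  exact mem_centralizer_iff.mp hw x (hD.hF.hle hx)

theorem mem_Z_of (hD : Dec p H z₁ E) {r : G} (hr : r ∈ centralizer (E : Set G))
    (h : ∀ w ∈ centralizer (H : Set G), r * w = w * r) : r ∈ centralizer (H : Set G) := by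
  rw [mem_centralizer_iff]
  intro x hx
  obtain ⟨e, he, w, hw, rfl⟩ := hD.hdec x hx
  have h1 : Commute r e := (mem_centralizer_iff.mp hr e he).symm
  have h2 : Commute r w := h w hw
  exact (h1.mul_right h2).symm.eq

/-- Square roots in the cyclic group. -/
theorem sqrt_aux {j' w : G} (hp2 : p = 2) (hj' : j' ∈ centralizer (H : Set G))
    (hj : (j' ^ 2) ^ 2 = z₁) (hw : w ∈ centralizer (H : Set G)) (h : (w ^ 2) ^ 2 = 1) :
    ∃ v ∈ centralizer (H : Set G), w = v ^ 2 := by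
  subst hp2
  have h1 := S.uniq (pow_mem hw 2) h
  obtain ⟨k, hk⟩ := mem_zpowers_iff.mp h1
  have hc : Commute w ((j' ^ 2) ^ (-k)) := S.comm_ZZ hw (zpow_mem (pow_mem hj' 2) _)
  have h2 : (w * (j' ^ 2) ^ (-k)) ^ 2 = 1 := by
    rw [hc.mul_pow, ← hk, ← hj]
    rw [← zpow_natCast (j' ^ 2) 2, ← zpow_natCast ((j' ^ 2) ^ (-k)) 2, ← zpow_mul, ← zpow_mul,
      ← zpow_add]
    have : (((2 : ℕ) : ℤ) * k + (-k) * (2 : ℕ)) = 0 := by ring
    rw [this, zpow_zero]
  have h3 := S.uniq (mul_mem hw (zpow_mem (pow_mem hj' 2) _)) h2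
  obtain ⟨l, hl⟩ := mem_zpowers_iff.mp h3
  refine ⟨j' ^ (k + 2 * l), zpow_mem hj' _, ?_⟩
  have h4 : w = z₁ ^ l * (j' ^ 2) ^ k := by
    rw [hl, zpow_neg]
    group
  rw [h4, ← hj]
  simp only [← zpow_natCast, ← zpow_mul]
  rw [← zpow_add]
  congr 1
  push_cast
  ring

/-- The key computation. -/
theorem comm_key (hD : Dec p H z₁ E) (hs : p ≠ 2 ∨ ∃ j' ∈ centralizer (H : Set G), (j' ^ 2) ^ 2 = z₁)
    {t : G} (htR : t ∈ centralizer (E : Set G)) (htp : t ^ p = 1)
    (htZ : t ∉ centralizer (H : Set G)) (hact : ∀ r ∈ centralizer (E : Set G), ⁅r, t⁆ ∈ zpowers z₁)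
    {y : G} (hy : ∀ w ∈ centralizer (H : Set G), ⁅y, w⁆ ∈ zpowers z₁) (hyp : y ^ p = 1) :
    t * y = y * t := by
  have hzc : zpowers z₁ ≤ center G := zpowers_le.mpr S.z₁c
  have hFc := hD.hF
  have := S.cyc
  obtain ⟨⟨g₀, hg₀⟩, hgen⟩ := IsCyclic.exists_generator (α := centralizer (H : Set G))
  have hgen' : ∀ w ∈ centralizer (H : Set G), ∃ k : ℤ, g₀ ^ k = w := by
    intro w hw
    obtain ⟨k, hk⟩ := mem_zpowers_iff.mp (hgen ⟨w, hw⟩)
    exact ⟨k, by simpa using congrArg Subtype.val hk⟩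
  have hcomm_of_g₀ : ∀ r : G, r * g₀ = g₀ * r → ∀ w ∈ centralizer (H : Set G), r * w = w * r := by
    intro r hr w hw
    obtain ⟨k, rfl⟩ := hgen' w hw
    exact (Commute.zpow_right (show Commute r g₀ from hr) k).eq
  have hg₀R := S.Z_le hD hg₀
  have hc₀ : ⁅t, g₀⁆ ∈ zpowers z₁ := by
    rw [← commutatorElement_inv]
    exact inv_mem (hact g₀ hg₀R)
  have hc₀1 : ⁅t, g₀⁆ ≠ 1 := by
    intro h
    rw [commutatorElement_eq_one_iff_mul_comm] at h
    exact htZ (S.mem_Z_of hD htR (hcomm_of_g₀ t h))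
  have hc₀o : orderOf ⁅t, g₀⁆ = p := orderOf_eq_prime (S.pow_of_z hc₀) hc₀1
  -- decomposition of `y`
  obtain ⟨e, he, hr⟩ := S.rep hD y
  set r := e⁻¹ * y with hrdef
  have hyer : y = e * r := by rw [hrdef]; group
  have her : Commute e r := (mem_centralizer_iff.mp hr e he)
  have hrg : ⁅r, g₀⁆ ∈ zpowers z₁ := by
    have h3 : ⁅e⁻¹, g₀⁆ = 1 := by
      rw [commutatorElement_eq_one_iff_mul_comm]
      exact Commute.inv_left (S.comm_ZH hg₀ (hFc.hle he)).symm
    have h1 : ⁅r, g₀⁆ = ⁅e⁻¹, g₀⁆ * ⁅y, g₀⁆ := comm_mul_left_of_central (hzc (hy g₀ hg₀))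
    rw [h1, h3, one_mul]
    exact hy g₀ hg₀
  -- `⁅r, g₀⁆` is a power of `⁅t, g₀⁆`
  have hmemc : ⁅r, g₀⁆ ∈ zpowers ⁅t, g₀⁆ := by
    have h1 : zpowers ⁅t, g₀⁆ = zpowers z₁ := by
      apply eq_of_le_of_card_ge (zpowers_le.mpr hc₀)
      rw [Nat.card_zpowers, Nat.card_zpowers, hc₀o, S.z₁o]
    rw [h1]
    exact hrg
  obtain ⟨b, hb⟩ := (mem_powers_iff_mem_zpowers).mpr hmemc
  have hb' : ⁅t, g₀⁆ ^ b = ⁅r, g₀⁆ := hb
  have hcc : Commute ⁅t, g₀⁆ t := (mem_center_iff.mp (hzc hc₀) t).symm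
  have htb : ⁅t ^ b, g₀⁆ = ⁅r, g₀⁆ := by
    rw [comm_pow_left_of_comm hcc, hb']
  -- `w = t^{-b} r ∈ Z`
  have hwR : (t ^ b)⁻¹ * r ∈ centralizer (E : Set G) :=
    mul_mem (inv_mem (pow_mem htR b)) hr
  have hwZ : (t ^ b)⁻¹ * r ∈ centralizer (H : Set G) := by
    apply S.mem_Z_of hD hwR
    apply hcomm_of_g₀
    simp only [commutatorElement_def] at htb
    have h1 : t ^ b * g₀ * (t ^ b)⁻¹ = r * g₀ * r⁻¹ := mul_right_cancel htb
    have h2 : r * g₀ = t ^ b * g₀ * (t ^ b)⁻¹ * r := by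
      rw [h1]
      group
    calc (t ^ b)⁻¹ * r * g₀ = (t ^ b)⁻¹ * (r * g₀) := by group
      _ = (t ^ b)⁻¹ * (t ^ b * g₀ * (t ^ b)⁻¹ * r) := by rw [h2]
      _ = _ := by group
  set w := (t ^ b)⁻¹ * r with hwdef
  have hr2 : r = t ^ b * w := by rw [hwdef]; group
  have hwc : ⁅w, t⁆ ∈ zpowers z₁ := hact w (S.Z_le hD hwZ)
  have hwtb : ⁅w, t ^ b⁆ ∈ zpowers z₁ := by
    have h1 : Commute ⁅w, t⁆ t := (mem_center_iff.mp (hzc hwc) t).symm
    rw [comm_pow_right_of_comm h1]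
    exact pow_mem hwc b
  have htw : t * w = w * t := by
    have hey : (e ^ p) * (r ^ p) = 1 := by
      rw [← her.mul_pow, ← hyer, hyp]
    have hrp : r ^ p = w ^ p * ⁅w, t ^ b⁆ ^ (p.choose 2) := by
      rw [hr2, mul_pow_of_comm (mem_center_iff.mp (hzc hwtb) _).symm
        (mem_center_iff.mp (hzc hwtb) _).symm, ← pow_mul, mul_comm b, pow_mul, htp, one_pow, one_mul]
    by_cases hp2 : p = 2
    · subst hp2
      obtain ⟨j', hj', hj⟩ := hs.resolve_left (by simp)
      have he2 : e ^ 2 ∈ zpowers z₁ := by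
        apply hFc.hcen _ (pow_mem he 2)
        intro u hu
        exact S.comm_ZH (S.pow_H e (hFc.hle he)) (hFc.hle hu)
      have hw2 : w ^ 2 ∈ zpowers z₁ := by
        rw [hrp, Nat.choose_self, pow_one] at hey
        have h0 : w ^ 2 * ⁅w, t ^ b⁆ = (e ^ 2)⁻¹ := eq_inv_of_mul_eq_one_right hey
        have h1 : w ^ 2 = (e ^ 2)⁻¹ * ⁅w, t ^ b⁆⁻¹ := eq_mul_inv_of_mul_eq h0
        rw [h1]
        exact mul_mem (inv_mem he2) (inv_mem hwtb)
      obtain ⟨v, hv, hwv⟩ := S.sqrt_aux rfl hj' hj hwZ (S.pow_of_z hw2)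
      have hvc : ⁅t, v⁆ ∈ zpowers z₁ := by
        rw [← commutatorElement_inv]
        exact inv_mem (hact v (S.Z_le hD hv))
      have h2 : ⁅t, v ^ 2⁆ = 1 := by
        rw [comm_pow_right_of_comm (mem_center_iff.mp (hzc hvc) v).symm, S.pow_of_z hvc]
      rw [commutatorElement_eq_one_iff_mul_comm] at h2
      rw [hwv]
      exact h2
    · have he1 := hFc.hexp hp2 e he
      obtain ⟨m, hm⟩ := prime_dvd_choose_two hp.out hp2
      rw [he1, one_mul, hrp, hm, pow_mul, S.pow_of_z hwtb, one_pow, mul_one] at hey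
      exact (S.comm_z (S.uniq hwZ hey) t).symm
  have h1 : Commute t e := (mem_centralizer_iff.mp htR e he).symm
  have h2 : Commute t (t ^ b) := (Commute.refl t).pow_right b
  have h3 : Commute t w := htw
  rw [hyer, hr2]
  exact (h1.mul_right (h2.mul_right h3)).eq

/-- The contradiction. -/
theorem no_t (hD : Dec p H z₁ E) (hs : p ≠ 2 ∨ ∃ j' ∈ centralizer (H : Set G), (j' ^ 2) ^ 2 = z₁)
    {t : G} (htR : t ∈ centralizer (E : Set G)) (htp : t ^ p = 1)
    (htZ : t ∉ centralizer (H : Set G)) (hact : ∀ r ∈ centralizer (E : Set G), ⁅r, t⁆ ∈ zpowers z₁) :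
    False := by
  have hzc : zpowers z₁ ≤ center G := zpowers_le.mpr S.z₁c
  have hZc := S.Zchar
  let M := actSub (zpowers z₁) hzc (centralizer (H : Set G) : Set G)
  have hφZ₁ : ∀ φ : G ≃* G, ∀ u ∈ zpowers z₁, φ u ∈ zpowers z₁ := by
    intro φ u hu
    apply S.uniq (characteristic_iff_le_comap.mp hZc φ (S.z_mem_Z hu))
    rw [← map_pow, S.pow_of_z hu, map_one]
  have hMc : M.Characteristic := by
    rw [characteristic_iff_le_comap]
    intro φ x hx g hg
    have h1 : φ.symm g ∈ centralizer (H : Set G) :=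
      characteristic_iff_le_comap.mp hZc φ.symm hg
    have h2 := hφZ₁ φ _ (hx _ h1)
    rw [map_commutatorElement, MulEquiv.apply_symm_apply] at h2
    exact h2
  let Ω := closure {y : G | y ∈ M ∧ y ^ p = 1}
  have hΩc : Ω.Characteristic := by
    rw [characteristic_iff_le_comap]
    intro φ
    rw [show Ω = closure {y : G | y ∈ M ∧ y ^ p = 1} from rfl, closure_le]
    rintro y ⟨hy, hy1⟩
    apply Subgroup.subset_closure
    refine ⟨characteristic_iff_le_comap.mp hMc φ hy, ?_⟩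
    show (φ y) ^ p = 1
    rw [← map_pow, hy1, map_one]
  have hBc : (Ω ⊓ centralizer (Ω : Set G)).Characteristic := inferInstance
  have hBa : IsMulCommutative (Ω ⊓ centralizer (Ω : Set G) : Subgroup G) := by
    refine ⟨⟨fun a b => Subtype.ext ?_⟩⟩
    exact (mem_centralizer_iff.mp a.2.2 b b.2.1).symm
  have hzM : z₁ ∈ M := by
    intro g _
    rw [commutatorElement_eq_one_iff_mul_comm.mpr (mem_center_iff.mp S.z₁c g).symm]
    exact one_mem _
  have hzΩ : z₁ ∈ Ω := subset_closure ⟨hzM, S.z₁_pow⟩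
  have hzB : z₁ ∈ Ω ⊓ centralizer (Ω : Set G) :=
    ⟨hzΩ, mem_centralizer_iff.mpr fun h _ => mem_center_iff.mp S.z₁c h⟩
  have htM : t ∈ M := by
    intro g hg
    rw [← commutatorElement_inv]
    exact inv_mem (hact g (S.Z_le hD hg))
  have htΩ : t ∈ Ω := subset_closure ⟨htM, htp⟩
  have htC : t ∈ centralizer (Ω : Set G) := by
    have h1 : Ω ≤ centralizer ({t} : Set G) := by
      rw [show Ω = closure {y : G | y ∈ M ∧ y ^ p = 1} from rfl, closure_le]
      rintro y ⟨hy, hy1⟩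
      rw [SetLike.mem_coe, mem_centralizer_iff]
      rintro u rfl
      exact S.comm_key hD hs htR htp htZ hact hy hy1
    rw [mem_centralizer_iff]
    intro h hh
    have := mem_centralizer_iff.mp (h1 hh) t (by simp)
    exact this.symm
  exact htZ (S.z_mem_Z (S.mem_of_char _ hBc hBa hzB ⟨htΩ, htC⟩ htp))

/-- All normal abelian subgroups of `R` are cyclic. -/
theorem normal_cyclic (hD : Dec p H z₁ E)
    (hs : p ≠ 2 ∨ ∃ j' ∈ centralizer (H : Set G), (j' ^ 2) ^ 2 = z₁)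
    (A : Subgroup (centralizer (E : Set G))) (hA : A.Normal) (hAc : IsMulCommutative A) :
    IsCyclic A := by
  by_contra hnc
  have hzc : zpowers z₁ ≤ center G := zpowers_le.mpr S.z₁c
  have hRp : IsPGroup p (centralizer (E : Set G)) := S.isP.to_subgroup _
  obtain ⟨x, y, hx, hy, hyx⟩ := exists_two_independent_of_comm (G := A)
    (hRp.to_subgroup A) (fun a b => hAc.is_comm.comm a b) hnc
  let Zr : Subgroup (centralizer (E : Set G)) := (zpowers z₁).comap (centralizer (E : Set G)).subtype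
  have hZrn : Zr.Normal := by
    constructor
    intro n hn g
    have h1 : (n : G) ∈ zpowers z₁ := hn
    show ((g * n * g⁻¹ : centralizer (E : Set G)) : G) ∈ zpowers z₁
    have h2 : ((g * n * g⁻¹ : centralizer (E : Set G)) : G) = (n : G) := by
      push_cast
      rw [(mem_center_iff.mp (hzc h1) (g : G))]
      group
    rw [h2]
    exact h1
  let A' : Subgroup (centralizer (E : Set G)) :=
    { carrier := {a | a ∈ A ∧ a ^ p = 1}
      mul_mem' := by
        rintro a b ⟨ha, ha1⟩ ⟨hb, hb1⟩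
        refine ⟨mul_mem ha hb, ?_⟩
        have h1 : Commute a b := by
          have := hAc.is_comm.comm ⟨a, ha⟩ ⟨b, hb⟩
          exact congrArg Subtype.val this
        rw [h1.mul_pow, ha1, hb1, one_mul]
      one_mem' := ⟨one_mem _, one_pow _⟩
      inv_mem' := by
        rintro a ⟨ha, ha1⟩
        exact ⟨inv_mem ha, by rw [inv_pow, ha1, inv_one]⟩ }
  have hA'n : A'.Normal := by
    constructor
    rintro a ⟨ha, ha1⟩ g
    exact ⟨hA.conj_mem a ha g, by rw [conj_pow, ha1]; simp⟩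
  let N := A'.map (QuotientGroup.mk' Zr)
  have hNn : N.Normal := hA'n.map _ (QuotientGroup.mk'_surjective Zr)
  have hNne : N ≠ ⊥ := by
    intro hN
    have hle : A' ≤ Zr := by
      intro a ha
      have h1 : QuotientGroup.mk' Zr a ∈ N := ⟨a, ha, rfl⟩
      rw [hN, mem_bot] at h1
      exact (QuotientGroup.eq_one_iff a).mp h1
    have hx1 : (x : centralizer (E : Set G)) ^ p = 1 := by
      have := pow_orderOf_eq_one x
      rw [hx] at this
      exact congrArg Subtype.val this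
    have hxz : ((x : centralizer (E : Set G)) : G) ∈ zpowers z₁ := hle ⟨x.2, hx1⟩
    have hyz : ((y : centralizer (E : Set G)) : G) ∈ zpowers z₁ := hle ⟨y.2, congrArg Subtype.val hy⟩
    have hxo : orderOf ((x : centralizer (E : Set G)) : G) = p := by
      rw [Subgroup.orderOf_coe, Subgroup.orderOf_coe, hx]
    have h1 : zpowers ((x : centralizer (E : Set G)) : G) = zpowers z₁ := by
      apply eq_of_le_of_card_ge (zpowers_le.mpr hxz)
      rw [Nat.card_zpowers, Nat.card_zpowers, hxo, S.z₁o]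
    rw [← h1] at hyz
    obtain ⟨k, hk⟩ := mem_zpowers_iff.mp hyz
    apply hyx
    refine mem_zpowers_iff.mpr ⟨k, ?_⟩
    apply Subtype.ext
    apply Subtype.ext
    simpa using hk
  have hQp : IsPGroup p (centralizer (E : Set G) ⧸ Zr) := hRp.to_quotient Zr
  obtain ⟨z, hzN, hzC, hzo⟩ := exists_central_orderOf_eq hQp N hNne
  obtain ⟨t, ⟨htA, htp⟩, rfl⟩ := hzN
  have htp' : (t : G) ^ p = 1 := congrArg Subtype.val htp
  have htZ₁ : (t : G) ∉ zpowers z₁ := by
    intro h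
    have h1 : t ∈ Zr := h
    have h2 : QuotientGroup.mk' Zr t = 1 := (QuotientGroup.eq_one_iff t).mpr h1
    rw [h2, orderOf_one] at hzo
    exact hp.out.one_lt.ne hzo
  refine S.no_t hD hs t.2 htp' (fun h => htZ₁ (S.uniq h htp')) ?_
  intro r hr
  have h1 := mem_center_iff.mp hzC (QuotientGroup.mk' Zr ⟨r, hr⟩)
  have h2 : QuotientGroup.mk' Zr ⁅(⟨r, hr⟩ : centralizer (E : Set G)), t⁆ = 1 := by
    rw [map_commutatorElement, commutatorElement_eq_one_iff_mul_comm]
    exact h1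
  have h3 : ⁅(⟨r, hr⟩ : centralizer (E : Set G)), t⁆ ∈ Zr := (QuotientGroup.eq_one_iff _).mp h2
  exact h3

/-- The structure of the second factor, in the case of a large centre. -/
theorem R_structure (hD : Dec p H z₁ E)
    (hs : p ≠ 2 ∨ ∃ j' ∈ centralizer (H : Set G), (j' ^ 2) ^ 2 = z₁) :
    IsCyclic (centralizer (E : Set G)) ∨ (p = 2 ∧ 16 ≤ Nat.card (centralizer (E : Set G)) ∧
      ((∃ m : ℕ, Nonempty ((centralizer (E : Set G)) ≃* DihedralGroup m)) ∨
       (∃ m : ℕ, Nonempty ((centralizer (E : Set G)) ≃* QuaternionGroup m)) ∨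
       Cfsg.IsQuasiDihedral (centralizer (E : Set G)))) := by
  by_cases hc : IsCyclic (centralizer (E : Set G))
  · exact Or.inl hc
  right
  have hn := S.normal_cyclic hD hs
  have hRp : IsPGroup p (centralizer (E : Set G)) := S.isP.to_subgroup _
  have hp2 : p = 2 := Cfsg.Agent.Lib.PGroups.CyclicNormal.eq_two_of_not_isCyclic hRp hn hc
  subst hp2
  obtain ⟨j', hj', hj⟩ := hs.resolve_left (by simp)
  refine ⟨rfl, ?_, ?_⟩
  · have h8 : orderOf j' = 2 ^ (2 + 1) := by
      apply orderOf_eq_prime_pow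
      · have : j' ^ 2 ^ 2 = z₁ := by rw [← hj, ← pow_mul]; rfl
        rw [this]
        exact S.z₁_ne
      · have : j' ^ 2 ^ (2 + 1) = z₁ ^ 2 := by rw [← hj, ← pow_mul, ← pow_mul]; rfl
        rw [this]
        exact S.z₁_pow
    have h1 : (8 : ℕ) ∣ Nat.card (centralizer (H : Set G)) := by
      have := Subgroup.orderOf_dvd_natCard _ hj'
      rw [h8] at this
      exact this
    have h2 : Nat.card (centralizer (H : Set G)) ∣ Nat.card (centralizer (E : Set G)) :=
      Subgroup.card_dvd_of_le (S.Z_le hD)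
    have h3 := h1.trans h2
    have hpos : 0 < Nat.card (centralizer (E : Set G)) := Nat.card_pos
    obtain ⟨k, hk⟩ := h3
    have hk1 : k ≠ 1 := by
      rintro rfl
      have h4 : Nat.card (centralizer (H : Set G)) = 8 := by
        apply Nat.dvd_antisymm
        · rw [hk] at h2
          simpa using h2
        · exact h1
      have h5 : centralizer (H : Set G) = centralizer (E : Set G) := by
        apply eq_of_le_of_card_ge (S.Z_le hD)
        omega
      apply hc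
      rw [← h5]
      exact S.cyc
    have hk0 : k ≠ 0 := by
      rintro rfl
      omega
    have : 2 ≤ k := by omega
    omega
  · obtain ⟨n, a, y, hn2, ha, hcard, hy, hidx, h⟩ :=
      Cfsg.Agent.Lib.PGroups.CyclicNormal.classify hRp hn hc
    obtain ⟨m, rfl⟩ : ∃ m, n = m + 1 := ⟨n - 1, by omega⟩
    simp only [Nat.add_sub_cancel] at h
    rcases h with ⟨h1, h2⟩ | ⟨h0, h1, h2⟩ | ⟨h0, h1, h2⟩
    · right; left
      refine ⟨2 ^ m, ?_⟩
      obtain ⟨e⟩ := Cfsg.Agent.Lib.PGroups.Presentations.nonempty_quaternion_equiv (m := 2 ^ m)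
        (a := a) (y := y) (by rw [ha]; ring) h1 h2 hy (by rw [hcard]; ring)
      exact ⟨e.symm⟩
    · left
      refine ⟨2 ^ (m + 1), ?_⟩
      obtain ⟨e⟩ := Cfsg.Agent.Lib.PGroups.Presentations.nonempty_dihedral_equiv (m := 2 ^ (m + 1))
        (a := a) (y := y) ha h1 h2 hy (by rw [hcard]; ring)
      exact ⟨e.symm⟩
    · right; right
      refine ⟨m + 1, h0, hcard, a, y, ha, ?_, ?_⟩
      · apply orderOf_eq_prime h1
        rintro rfl
        exact hy (one_mem _)
      · simpa using h2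

/-- The first factor. -/
theorem out_of_E (hD : Dec p H z₁ E) :
    ∃ E' : Subgroup G, (∀ e ∈ E', ∀ r ∈ centralizer (E : Set G), e * r = r * e) ∧
      E' ⊔ centralizer (E : Set G) = ⊤ ∧ (E' = ⊥ ∨ Cfsg.IsExtraspecial p E') := by
  by_cases hEc : IsMulCommutative E
  · refine ⟨⊥, ?_, ?_, Or.inl rfl⟩
    · intro e he r _
      rw [mem_bot] at he
      simp [he]
    · rw [bot_sup_eq, eq_top_iff]
      intro g _
      rw [mem_centralizer_iff]
      intro x hx
      have h1 := hD.hF.hcen x hx (fun y hy => by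
        have := hEc.is_comm.comm ⟨x, hx⟩ ⟨y, hy⟩
        exact congrArg Subtype.val this)
      exact S.comm_z h1 g
  · refine ⟨E, fun e he r hr => (mem_centralizer_iff.mp hr e he), ?_, Or.inr ?_⟩
    · rw [eq_top_iff]
      intro g _
      obtain ⟨e, he, hr⟩ := S.rep hD g
      have h1 : g = e * (e⁻¹ * g) := by group
      rw [h1]
      exact mul_mem (mem_sup_left he) (mem_sup_right hr)
    · exact (S.extraLike_of_isF le_rfl hD.hF).isExtraspecial hEc

theorem eq_one_or_eq (hp2 : p = 2) {x : G} (hx : x ∈ zpowers z₁) : x = 1 ∨ x = z₁ := by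
  subst hp2
  obtain ⟨k, rfl⟩ := mem_zpowers_iff.mp hx
  have h1 : z₁ ^ k = z₁ ^ (k % 2) := by
    conv_lhs => rw [← zpow_mod_orderOf, S.z₁o]
    rfl
  rcases Int.emod_two_eq_zero_or_one k with h | h
  · left
    rw [h1, h, zpow_zero]
  · right
    rw [h1, h, zpow_one]

/-- The case `|Z| = 2`. -/
theorem branch_O (hp2 : p = 2) (hZ : centralizer (H : Set G) ≤ zpowers z₁) :
    ∃ E R : Subgroup G, (∀ e ∈ E, ∀ r ∈ R, e * r = r * e) ∧ E ⊔ R = ⊤ ∧
      (E = ⊥ ∨ Cfsg.IsExtraspecial p E) ∧ IsCyclic R := by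
  by_cases hH : H ≤ zpowers z₁
  · have h1 : (⊤ : Subgroup G) = zpowers z₁ := by
      rw [eq_comm, eq_top_iff]
      intro g _
      apply hZ
      rw [mem_centralizer_iff]
      intro x hx
      exact S.comm_z (hH hx) g
    refine ⟨⊥, ⊤, ?_, by simp, Or.inl rfl, ?_⟩
    · intro e he r _
      rw [mem_bot] at he
      simp [he]
    · rw [h1]
      infer_instance
  · have hF : IsF p H H z₁ := by
      refine ⟨S.Zle S.z₁Z, le_rfl, ?_, fun x hx g => hZ (S.comm_H x hx g), fun h => absurd hp2 h⟩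
      intro x hx hc
      apply hZ
      rw [mem_centralizer_iff]
      intro y hy
      exact (hc y hy).symm
    have hL := S.extraLike_of_isF le_rfl hF
    have hnc : ¬ IsMulCommutative H := by
      intro hc
      apply hH
      intro x hx
      apply hZ
      rw [mem_centralizer_iff]
      intro y hy
      have := hc.is_comm.comm ⟨y, hy⟩ ⟨x, hx⟩
      exact congrArg Subtype.val this
    have htop : H = ⊤ := by
      rw [eq_top_iff]
      intro g _
      obtain ⟨e, he, h⟩ := exists_rep hL S.z₁c hF.hz hF.hcen hF.hact g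
      have h1 : e⁻¹ * g ∈ H := S.Zle (mem_centralizer_iff.mpr fun x hx => (h x hx).symm)
      have h2 : g = e * (e⁻¹ * g) := by group
      rw [h2]
      exact mul_mem he h1
    refine ⟨H, ⊥, ?_, by simp [htop], Or.inr (hL.isExtraspecial hnc), inferInstance⟩
    intro e he r hr
    rw [mem_bot] at hr
    simp [hr]

/-- The case `|Z| = 4`. -/
theorem branch_N (hp2 : p = 2) (hD : Dec p H z₁ E) {j : G} (hj : j ∈ centralizer (H : Set G))
    (hj2 : j ^ 2 = z₁) (hZ : centralizer (H : Set G) ≤ zpowers j) :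
    ∃ E R : Subgroup G, (∀ e ∈ E, ∀ r ∈ R, e * r = r * e) ∧ E ⊔ R = ⊤ ∧
      (E = ⊥ ∨ Cfsg.IsExtraspecial p E) ∧ IsCyclic R := by
  subst hp2
  by_cases hR : centralizer (E : Set G) ≤ centralizer (H : Set G)
  · obtain ⟨E', h1, h2, h3⟩ := S.out_of_E hD
    refine ⟨E', centralizer (E : Set G), h1, h2, h3, ?_⟩
    rw [le_antisymm hR (S.Z_le hD)]
    exact S.cyc
  obtain ⟨t, htR, htZ⟩ := SetLike.not_le_iff_exists.mp hR
  have hZc := S.Zchar
  have hZn : (centralizer (H : Set G)).Normal := inferInstance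
  have hz2 : z₁ ^ 2 = 1 := S.z₁_pow
  have hj4 : j * j * (j * j) = 1 := by
    have : j * j * (j * j) = (j ^ 2) ^ 2 := by simp [pow_two]
    rw [this, hj2, hz2]
  have hcomm_of_j : ∀ r : G, r * j = j * r → ∀ w ∈ centralizer (H : Set G), r * w = w * r := by
    intro r hr w hw
    obtain ⟨k, rfl⟩ := mem_zpowers_iff.mp (hZ hw)
    exact (Commute.zpow_right (show Commute r j from hr) k).eq
  -- elements outside `Z` invert `j`
  have hinv : ∀ r ∈ centralizer (E : Set G), r ∉ centralizer (H : Set G) → r * j * r⁻¹ = j⁻¹ := by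
    intro r hr hrZ
    have hu : r * j * r⁻¹ ∈ centralizer (H : Set G) := hZn.conj_mem j hj r
    have hcu : Commute (r * j * r⁻¹) j⁻¹ := Commute.inv_right (S.comm_ZZ hu hj)
    have h1 : (r * j * r⁻¹ * j⁻¹) ^ 2 = 1 := by
      rw [hcu.mul_pow, conj_pow, hj2, inv_pow, hj2]
      have : r * z₁ * r⁻¹ = z₁ := by
        rw [mem_center_iff.mp S.z₁c r]
        group
      rw [this]
      group
    rcases S.eq_one_or_eq rfl (S.uniq (mul_mem hu (inv_mem hj)) h1) with h2 | h2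
    · exfalso
      apply hrZ
      apply S.mem_Z_of hD hr
      apply hcomm_of_j
      have h3 : r * j * r⁻¹ = j := by
        rw [mul_inv_eq_one] at h2
        exact h2
      rw [mul_inv_eq_iff_eq_mul] at h3
      exact h3
    · have h3 : r * j * r⁻¹ = z₁ * j := by
        rw [← h2]
        group
      rw [h3, ← hj2, eq_inv_iff_mul_eq_one]
      rw [← hj4]
      simp [pow_two]
      group
  -- squares
  have hconj : ∀ r ∈ centralizer (E : Set G), r ∉ centralizer (H : Set G) → ∀ k : ℤ,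
      r * j ^ k * r⁻¹ = (j ^ k)⁻¹ := by
    intro r hr hrZ k
    rw [← conj_zpow, hinv r hr hrZ]
    simp
  have hsqZ : ∀ w ∈ centralizer (H : Set G), w ^ 2 ∈ zpowers z₁ := by
    intro w hw
    apply S.uniq (pow_mem hw 2)
    obtain ⟨k, rfl⟩ := mem_zpowers_iff.mp (hZ hw)
    have h1 : ((j ^ k) ^ 2) ^ 2 = ((j ^ 2) ^ 2) ^ k := by
      simp only [← zpow_natCast, ← zpow_mul]
      congr 1
      ring
    rw [h1, hj2, hz2, one_zpow]
  have hsqR : ∀ r ∈ centralizer (E : Set G), r ^ 2 ∈ zpowers z₁ := by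
    intro r hr
    by_cases hrZ : r ∈ centralizer (H : Set G)
    · exact hsqZ r hrZ
    · have hr2 : r ^ 2 ∈ centralizer (H : Set G) := by
        apply S.mem_Z_of hD (pow_mem hr 2)
        apply hcomm_of_j
        have h1 := hinv r hr hrZ
        have h2 : r ^ 2 * j * (r ^ 2)⁻¹ = j := by
          calc r ^ 2 * j * (r ^ 2)⁻¹ = r * (r * j * r⁻¹) * r⁻¹ := by
                rw [pow_two]
                group
            _ = r * j⁻¹ * r⁻¹ := by rw [h1]
            _ = (r * j * r⁻¹)⁻¹ := by group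
            _ = j := by rw [h1, inv_inv]
        rw [mul_inv_eq_iff_eq_mul] at h2
        exact h2
      apply S.uniq hr2
      obtain ⟨k, hk⟩ := mem_zpowers_iff.mp (hZ hr2)
      have h1 := hconj r hr hrZ k
      rw [hk] at h1
      have h2 : r * r ^ 2 * r⁻¹ = r ^ 2 := by
        rw [pow_two]
        group
      rw [h2] at h1
      have h3 : r ^ 2 * r ^ 2 = 1 := by
        nth_rewrite 1 [h1]
        simp
      rw [pow_two (r ^ 2)]
      exact h3
  have hsqG : ∀ a : G, a ^ 2 ∈ zpowers z₁ := by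
    intro a
    obtain ⟨e, he, hr⟩ := S.rep hD a
    have h1 : a = e * (e⁻¹ * a) := by group
    have h2 : Commute e (e⁻¹ * a) := mem_centralizer_iff.mp hr e he
    rw [h1, h2.mul_pow]
    refine mul_mem ?_ (hsqR _ hr)
    apply hD.hF.hcen _ (pow_mem he 2)
    intro u hu
    exact S.comm_ZH (S.pow_H e (hD.hF.hle he)) (hD.hF.hle hu)
  have hL : ExtraLike 2 (⊤ : Subgroup G) := by
    refine extraLike_of_props S.isP S.z₁c S.z₁o ⊤ (mem_top _) ?_ ?_ (fun x _ => hsqG x)
    · intro x _ hx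
      have hxZ : x ∈ centralizer (H : Set G) :=
        mem_centralizer_iff.mpr fun y _ => (hx y (mem_top y)).symm
      apply S.uniq hxZ
      obtain ⟨k, rfl⟩ := mem_zpowers_iff.mp (hZ hxZ)
      have h1 := hconj t htR htZ k
      have h2 : t * j ^ k * t⁻¹ = j ^ k := by
        rw [← hx t (mem_top t)]
        group
      rw [h2] at h1
      rw [pow_two]
      nth_rewrite 1 [h1]
      simp
    · intro x _ y _
      have h1 : ⁅x, y⁆ = (x * y) ^ 2 * (y⁻¹ * x⁻¹ * y) ^ 2 * (y⁻¹) ^ 2 := by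
        rw [commutatorElement_def]
        simp only [pow_two]
        group
      rw [h1]
      exact mul_mem (mul_mem (hsqG _) (hsqG _)) (hsqG _)
  have hnc : ¬ IsMulCommutative (⊤ : Subgroup G) := by
    intro hc
    apply htZ
    apply S.mem_Z_of hD htR
    intro w _
    have := hc.is_comm.comm ⟨t, mem_top t⟩ ⟨w, mem_top w⟩
    exact congrArg Subtype.val this
  refine ⟨⊤, ⊥, ?_, by simp, Or.inr (hL.isExtraspecial hnc), inferInstance⟩
  intro e he r hr
  rw [mem_bot] at hr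
  simp [hr]

end HSetting

/-- **P. Hall's theorem.** -/
theorem hall (hG : IsPGroup p G)
    (hsymp : ∀ A : Subgroup G, A.Characteristic → IsMulCommutative A → IsCyclic A) :
    ∃ E R : Subgroup G, (∀ e ∈ E, ∀ r ∈ R, e * r = r * e) ∧ E ⊔ R = ⊤ ∧
      (E = ⊥ ∨ Cfsg.IsExtraspecial p E) ∧
      (IsCyclic R ∨ (p = 2 ∧ 16 ≤ Nat.card R ∧ ((∃ m : ℕ, Nonempty (R ≃* DihedralGroup m)) ∨
        (∃ m : ℕ, Nonempty (R ≃* QuaternionGroup m)) ∨ Cfsg.IsQuasiDihedral R))) := by
  rcases subsingleton_or_nontrivial G with hsub | hnt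
  · refine ⟨⊥, ⊤, ?_, bot_sup_eq _, Or.inl rfl, Or.inl ?_⟩
    · intro e he r _
      exact Subsingleton.elim _ _
    · infer_instance
  obtain ⟨H, hHchar, hfrat, hcomm, hC⟩ := exists_critical hG
  obtain ⟨z₁, -, hz₁c, hz₁o⟩ := exists_central_orderOf_eq hG (⊤ : Subgroup G) top_ne_bot
  have hZcyc : IsCyclic (centralizer (H : Set G)) := by
    apply hsymp _ inferInstance
    refine ⟨⟨fun a b => Subtype.ext ?_⟩⟩
    exact (mem_centralizer_iff.mp a.2 b (hC b.2)).symm
  have S : HSetting p H z₁ :=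
    { isP := hG
      hchar := hHchar
      Zle := hC
      cyc := hZcyc
      comm_H := fun x hx g => (hcomm (commutator_mem_commutator hx (mem_top g))).2
      pow_H := fun x hx => (pow_mem_of_frat hG hfrat hx).2
      z₁c := hz₁c
      z₁o := hz₁o
      hsymp := hsymp }
  have main : ∀ (hz : p ≠ 2 ∨ ∃ j ∈ centralizer (H : Set G), j ^ 2 = z₁)
      (hs : p ≠ 2 ∨ ∃ j' ∈ centralizer (H : Set G), (j' ^ 2) ^ 2 = z₁),
      ∃ E R : Subgroup G, (∀ e ∈ E, ∀ r ∈ R, e * r = r * e) ∧ E ⊔ R = ⊤ ∧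
      (E = ⊥ ∨ Cfsg.IsExtraspecial p E) ∧
      (IsCyclic R ∨ (p = 2 ∧ 16 ≤ Nat.card R ∧ ((∃ m : ℕ, Nonempty (R ≃* DihedralGroup m)) ∨
        (∃ m : ℕ, Nonempty (R ≃* QuaternionGroup m)) ∨ Cfsg.IsQuasiDihedral R))) := by
    intro hz hs
    obtain ⟨E, hF, hdec⟩ := S.exists_decomp hz
    have hD : Dec p H z₁ E := ⟨hF, hdec⟩
    obtain ⟨E', h1, h2, h3⟩ := S.out_of_E hD
    exact ⟨E', centralizer (E : Set G), h1, h2, h3, S.R_structure hD hs⟩
  by_cases hp2 : p = 2
  · obtain ⟨⟨g₀, hg₀⟩, hgen⟩ := IsCyclic.exists_generator (α := centralizer (H : Set G))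
    have hgen' : ∀ w ∈ centralizer (H : Set G), w ∈ zpowers g₀ := by
      intro w hw
      obtain ⟨k, hk⟩ := mem_zpowers_iff.mp (hgen ⟨w, hw⟩)
      exact mem_zpowers_iff.mpr ⟨k, by simpa using congrArg Subtype.val hk⟩
    obtain ⟨n, hn⟩ := hG g₀
    obtain ⟨s, -, hs⟩ := (Nat.dvd_prime_pow hp.out).mp (orderOf_dvd_of_pow_eq_one hn)
    have hlast : ∀ k : ℕ, s = k + 1 → g₀ ^ (2 ^ k) = z₁ := by
      intro k hk
      have h1 : (g₀ ^ (2 ^ k)) ^ p = 1 := by
        rw [hp2, ← pow_mul, ← pow_succ, ← hk, ← hp2, ← hs, pow_orderOf_eq_one]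
      have h2 : g₀ ^ (2 ^ k) ≠ 1 := by
        intro h
        have h3 := orderOf_dvd_of_pow_eq_one h
        rw [hs, hk, hp2] at h3
        have := (Nat.pow_dvd_pow_iff_le_right (by norm_num : 1 < 2)).mp h3
        omega
      rcases S.eq_one_or_eq hp2 (S.uniq (pow_mem hg₀ _) h1) with h3 | h3
      · exact absurd h3 h2
      · exact h3
    rcases s with _ | _ | _ | k
    · exfalso
      have h1 : g₀ = 1 := by
        rw [← orderOf_eq_one_iff, hs]
        simp
      have h2 := hgen' z₁ S.z₁Z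
      rw [h1, zpowers_one_eq_bot, mem_bot] at h2
      exact S.z₁_ne h2
    · have h1 := hlast 0 rfl
      simp only [pow_zero, pow_one] at h1
      subst h1
      obtain ⟨E, R, h2, h3, h4, h5⟩ := S.branch_O hp2 hgen'
      exact ⟨E, R, h2, h3, h4, Or.inl h5⟩
    · have h1 := hlast 1 rfl
      simp only [pow_one] at h1
      obtain ⟨E, hF, hdec⟩ := S.exists_decomp (Or.inr ⟨g₀, hg₀, h1⟩)
      have hD : Dec p H z₁ E := ⟨hF, hdec⟩
      obtain ⟨E', R, h2, h3, h4, h5⟩ := S.branch_N hp2 hD hg₀ h1 hgen'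
      exact ⟨E', R, h2, h3, h4, Or.inl h5⟩
    · have h1 := hlast (k + 2) (by omega)
      have h2 : ((g₀ ^ (2 ^ k)) ^ 2) ^ 2 = z₁ := by
        rw [← h1, ← pow_mul, ← pow_mul]
        congr 1
        ring
      exact main (Or.inr ⟨(g₀ ^ (2 ^ k)) ^ 2, pow_mem (pow_mem hg₀ _) _, h2⟩)
        (Or.inr ⟨g₀ ^ (2 ^ k), pow_mem hg₀ _, h2⟩)
  · exact main (Or.inl hp2) (Or.inl hp2)

end Cfsg.Agent.Lib.PGroups.Hall
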