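import Cfsg.Agent.Lib.PGroups.DStar

/-!
# A weak replacement theorem for metabelian groups
-/

set_option autoImplicit false

namespace Cfsg.Agent.Lib.PGroups.MetabelianReplacement

open Subgroup Cfsg.Agent.Lib.QuadAct.Replacement Cfsg.Agent.Lib.QuadAct.Basic
  Cfsg.Agent.Lib.PGroups.DStar
open scoped commutatorElement

variable {S : Type*} [Group S] [Finite S]

theorem mem_of_mem_centralizer {D : Subgroup S} (hD : D ∈ Cfsg.maxAbelianSubgroups S) {x : S}
    (hx : x ∈ centralizer (D : Set S)) : x ∈ D := by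
  have hcomm : ∀ a ∈ (D : Set S) ∪ {x}, ∀ b ∈ (D : Set S) ∪ {x}, a * b = b * a := by
    rintro a (ha | rfl) b (hb | rfl)
    · exact comm_of hD.1 ha hb
    · exact mem_centralizer_iff.mp hx a ha
    · exact (mem_centralizer_iff.mp hx b hb).symm
    · rfl
  have hc := isMulCommutative_closure hcomm
  have hle : D ≤ closure ((D : Set S) ∪ {x}) := fun y hy => subset_closure (Or.inl hy)
  have heq : D = closure ((D : Set S) ∪ {x}) := Subgroup.eq_of_le_of_card_ge hle (hD.2 _ hc)
  rw [heq]
  exact subset_closure (Or.inr rfl)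

omit [Finite S] in
theorem sup_comm_of {B Y : Subgroup S} (hB : IsMulCommutative B) (hY : IsMulCommutative Y)
    (h : ∀ b ∈ B, ∀ y ∈ Y, b * y = y * b) : IsMulCommutative (B ⊔ Y : Subgroup S) := by
  have hcomm : ∀ x ∈ (B ∪ Y : Set S), ∀ y ∈ (B ∪ Y : Set S), x * y = y * x := by
    rintro x (hx | hx) y (hy | hy)
    · exact comm_of hB hx hy
    · exact h x hx y hy
    · exact (h y hy x hx).symm
    · exact comm_of hY hx hy
  have hsup : B ⊔ Y = closure (B ∪ Y : Set S) := by
    rw [Subgroup.closure_union, closure_eq, closure_eq]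
  rw [hsup]
  exact Subgroup.isMulCommutative_closure hcomm

theorem card_sup_of_comm {B Y : Subgroup S} (h : ∀ b ∈ B, ∀ y ∈ Y, b * y = y * b) :
    Nat.card (B ⊔ Y : Subgroup S) * Nat.card (B ⊓ Y : Subgroup S) = Nat.card B * Nat.card Y := by
  apply card_sup_mul_card_inf_of_le_normalizer
  refine le_trans ?_ (centralizer_le_normalizer (Y : Set S))
  intro b hb
  rw [mem_centralizer_iff]
  intro y hy
  exact (h b hb y hy).symm

theorem inf_centralizer_eq {D V : Subgroup S} (hD : D ∈ Cfsg.maxAbelianSubgroups S)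
    (hV : IsMulCommutative V) : V ⊓ centralizer (D : Set S) = D ⊓ V := by
  apply le_antisymm
  · rintro x ⟨h1, h2⟩
    exact ⟨mem_of_mem_centralizer hD h2, h1⟩
  · rintro x ⟨h1, h2⟩
    refine ⟨h2, mem_centralizer_iff.mpr fun y hy => comm_of hD.1 hy h1⟩

omit [Finite S] in
theorem commutator_self_eq_bot {D : Subgroup S} (hD : IsMulCommutative D) : ⁅D, D⁆ = ⊥ := by
  rw [commutator_eq_bot_iff_le_centralizer]
  intro x hx
  rw [mem_centralizer_iff]
  intro y hy
  exact comm_of hD hy hx

/-- Replacement: there is a member of the family normalized by `V`. -/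
theorem exists_normalized (V N : Subgroup S) (hVn : V.Normal) (hVa : IsMulCommutative V)
    (hVN : V ≤ N) (A : Subgroup S) (hA : A ∈ Cfsg.maxAbelianSubgroups S) (hAN : A ≤ N) :
    ∃ D ∈ Cfsg.maxAbelianSubgroups S, D ≤ N ∧ ⁅V, D⁆ ≤ D ⊓ V := by
  obtain ⟨D, ⟨hD, hDN⟩, hmax⟩ := Set.exists_max_image
    {D : Subgroup S | D ∈ Cfsg.maxAbelianSubgroups S ∧ D ≤ N}
    (fun D => Nat.card (D ⊓ V : Subgroup S)) (Set.toFinite _) ⟨A, hA, hAN⟩
  refine ⟨D, hD, hDN, ?_⟩
  have hbest : IsBest V D := isBest_of_max hD hVa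
  have hAV : D ≤ normalizer (V : Set S) := by
    rw [normalizer_eq_top_iff.mpr hVn]
    exact le_top
  have hab : ⁅D, D⁆ ≤ centralizer (V : Set S) := by
    rw [commutator_self_eq_bot hD.1]
    exact bot_le
  obtain ⟨h1, h2⟩ := replacement_of_best hVa hAV hab hbest (U := V) le_rfl
  set B := D ⊓ centralizer ((⁅V, D⁆ : Subgroup S) : Set S) with hB
  set Y := V ⊓ centralizer (B : Set S) with hY
  have hE := inf_centralizer_eq hD hVa
  rw [hE] at h2
  have hBD : B ≤ D := inf_le_left
  have hYV : Y ≤ V := inf_le_left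
  have hcomm : ∀ b ∈ B, ∀ y ∈ Y, b * y = y * b := fun b hb y hy =>
    mem_centralizer_iff.mp hy.2 b hb
  have hBa : IsMulCommutative B :=
    ⟨⟨fun a b => Subtype.ext (comm_of hD.1 (hBD a.2) (hBD b.2))⟩⟩
  have hYa : IsMulCommutative Y :=
    ⟨⟨fun a b => Subtype.ext (comm_of hVa (hYV a.2) (hYV b.2))⟩⟩
  have hA'a := sup_comm_of hBa hYa hcomm
  have hcard := card_sup_of_comm hcomm
  have hoff : Nat.card B * Nat.card Y = Nat.card D * Nat.card (D ⊓ V : Subgroup S) := by
    have := h1
    unfold offProd at this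
    rw [hE] at this
    exact this
  have hinf : B ⊓ Y ≤ D ⊓ V := fun x hx => ⟨hBD hx.1, hYV hx.2⟩
  have hinfc := Nat.card_le_card_of_injective _ (inclusion_injective hinf)
  have hEpos : 0 < Nat.card (D ⊓ V : Subgroup S) := Nat.card_pos
  have hge : Nat.card D ≤ Nat.card (B ⊔ Y : Subgroup S) := by
    by_contra hlt
    push Not at hlt
    have h3 : Nat.card (B ⊔ Y : Subgroup S) * Nat.card (B ⊓ Y : Subgroup S) <
        Nat.card D * Nat.card (D ⊓ V : Subgroup S) :=
      Nat.mul_lt_mul_of_lt_of_le hlt hinfc hEpos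
    omega
  have hmem : (B ⊔ Y : Subgroup S) ∈ Cfsg.maxAbelianSubgroups S :=
    ⟨hA'a, fun B' hB' => (hD.2 B' hB').trans hge⟩
  have hle := hmax (B ⊔ Y) ⟨hmem, sup_le (hBD.trans hDN) (hYV.trans hVN)⟩
  have hYle : Y ≤ (B ⊔ Y) ⊓ V := le_inf le_sup_right hYV
  have hYc := Nat.card_le_card_of_injective _ (inclusion_injective hYle)
  have hEY : D ⊓ V ≤ Y := by
    rw [h2]
    exact le_sup_right
  have hYE : D ⊓ V = Y := Subgroup.eq_of_le_of_card_ge hEY (hYc.trans hle)
  rw [hYE, h2]
  exact le_sup_left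

/-- The order of a preimage in a quotient. -/
theorem card_comap_mk (Y : Subgroup S) [Y.Normal] (H : Subgroup (S ⧸ Y)) :
    Nat.card (H.comap (QuotientGroup.mk' Y)) = Nat.card Y * Nat.card H := by
  have h1 := (H.comap (QuotientGroup.mk' Y)).card_mul_index
  have h2 : (H.comap (QuotientGroup.mk' Y)).index = H.index :=
    Subgroup.index_comap_of_surjective _ (QuotientGroup.mk'_surjective _)
  have h3 := H.card_mul_index
  have h4 := Subgroup.card_eq_card_quotient_mul_card_subgroup Y
  have h5 : H.index ≠ 0 := Subgroup.index_ne_zero_of_finite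
  rw [h2, h4, ← h3] at h1
  have : Nat.card (H.comap (QuotientGroup.mk' Y)) * H.index = (Nat.card Y * Nat.card H) * H.index := by
    rw [h1]; ring
  exact Nat.eq_of_mul_eq_mul_right (Nat.pos_of_ne_zero h5) this

/-- The structure step. -/
theorem exists_normal (V : Subgroup S) (hVn : V.Normal) (hVa : IsMulCommutative V) {D : Subgroup S}
    (hD : D ∈ Cfsg.maxAbelianSubgroups S) (hVD : ⁅V, D⁆ ≤ D ⊓ V)
    (hSD : ∀ s : S, ∀ d ∈ D, s * d * s⁻¹ * d⁻¹ ∈ V) :
    ∃ B ∈ Cfsg.maxAbelianSubgroups S, B.Normal ∧ B ≤ D ⊔ V := by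
  classical
  have hbest : IsBest V D := isBest_of_max hD hVa
  have hDD := commutator_self_eq_bot hD.1
  have hmemO : ∀ B : Subgroup S, B ≤ D → offProd V D ≤ offProd V B → Opt V D B := fun B hB h =>
    ⟨hB, by rw [hDD]; exact bot_le, le_antisymm (hbest B hB) h⟩
  obtain ⟨B₀, hB₀, hmin⟩ := Set.exists_min_image {B : Subgroup S | Opt V D B}
    (fun B => Nat.card B) (Set.toFinite _) ⟨D, hmemO D le_rfl le_rfl⟩
  have hB₀' : Opt V D B₀ := hB₀
  have hsmall : ∀ B : Subgroup S, Opt V D B → B₀ ≤ B := by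
    intro B hB
    have h1 := (opt_inf hVa hbest hB₀' hB).1
    have h2 := hmin _ h1
    have h3 : B₀ ⊓ B = B₀ := Subgroup.eq_of_le_of_card_ge inf_le_left h2
    rw [← h3]
    exact inf_le_right
  have hE := inf_centralizer_eq hD hVa
  set Y := V ⊓ centralizer (B₀ : Set S) with hY
  have hB₀D : B₀ ≤ D := hB₀'.le
  have hYV : Y ≤ V := inf_le_left
  have hcommBY : ∀ b ∈ B₀, ∀ y ∈ Y, b * y = y * b := fun b hb y hy =>
    mem_centralizer_iff.mp hy.2 b hb
  have hoff : Nat.card B₀ * Nat.card Y = offProd V D := hB₀'.eq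
  have hYpos : 0 < Nat.card Y := Nat.card_pos
  have hEY : D ⊓ V ≤ Y := fun x hx =>
    ⟨hx.2, mem_centralizer_iff.mpr fun b hb => comm_of hD.1 (hB₀D hb) hx.1⟩
  -- `E ≤ B₀`
  have hB₁ : D ⊓ centralizer (Y : Set S) = B₀ := by
    symm
    apply Subgroup.eq_of_le_of_card_ge
    · refine le_inf hB₀D ?_
      intro b hb
      rw [mem_centralizer_iff]
      intro y hy
      exact (hcommBY b hb y hy).symm
    · have hYle : Y ≤ V ⊓ centralizer ((D ⊓ centralizer (Y : Set S) : Subgroup S) : Set S) := by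
        intro y hy
        refine ⟨hYV hy, mem_centralizer_iff.mpr fun b hb => ?_⟩
        exact (mem_centralizer_iff.mp hb.2 y hy).symm
      have h1 := Nat.card_le_card_of_injective _ (inclusion_injective hYle)
      have h2 := hbest (D ⊓ centralizer (Y : Set S)) inf_le_left
      unfold offProd at h2
      have h3 := Nat.mul_le_mul_left (Nat.card (D ⊓ centralizer (Y : Set S) : Subgroup S)) h1
      have h4 : Nat.card (D ⊓ centralizer (Y : Set S) : Subgroup S) * Nat.card Y ≤
          Nat.card B₀ * Nat.card Y := by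
        rw [hoff]
        exact h3.trans h2
      exact Nat.le_of_mul_le_mul_right h4 hYpos
  have hEB : D ⊓ V ≤ B₀ := by
    rw [← hB₁]
    intro x hx
    refine ⟨hx.1, mem_centralizer_iff.mpr fun y hy => ?_⟩
    exact comm_of hVa (hYV hy) hx.2
  have hinf : B₀ ⊓ Y = D ⊓ V := by
    apply le_antisymm
    · exact fun x hx => ⟨hB₀D hx.1, hYV hx.2⟩
    · exact le_inf hEB hEY
  have hBa : IsMulCommutative B₀ :=
    ⟨⟨fun a b => Subtype.ext (comm_of hD.1 (hB₀D a.2) (hB₀D b.2))⟩⟩
  have hYa : IsMulCommutative Y :=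
    ⟨⟨fun a b => Subtype.ext (comm_of hVa (hYV a.2) (hYV b.2))⟩⟩
  have hGa := sup_comm_of hBa hYa hcommBY
  have hcard := card_sup_of_comm hcommBY
  have hGc : Nat.card (B₀ ⊔ Y : Subgroup S) = Nat.card D := by
    have h1 : offProd V D = Nat.card D * Nat.card (D ⊓ V : Subgroup S) := by
      unfold offProd
      rw [hE]
    rw [hoff, h1, hinf] at hcard
    exact Nat.eq_of_mul_eq_mul_right Nat.card_pos hcard
  have hGmem : (B₀ ⊔ Y : Subgroup S) ∈ Cfsg.maxAbelianSubgroups S :=
    ⟨hGa, fun B' hB' => by rw [hGc]; exact hD.2 B' hB'⟩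
  -- `Y` is normal in `S`
  haveI hYn : Y.Normal := by
    constructor
    intro y hy s
    refine ⟨hVn.conj_mem y (hYV hy) s, mem_centralizer_iff.mpr fun b hb => ?_⟩
    have hv := hSD s⁻¹ b (hB₀D hb)
    rw [inv_inv] at hv
    set v := s⁻¹ * b * s * b⁻¹ with hvdef
    have h1 : s⁻¹ * b * s = v * b := by rw [hvdef]; group
    have h2 : v * y = y * v := comm_of hVa hv (hYV hy)
    have h3 : (s⁻¹ * b * s) * y = y * (s⁻¹ * b * s) := by
      rw [h1, mul_assoc, hcommBY b hb y hy, ← mul_assoc, h2, mul_assoc]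
    calc b * (s * y * s⁻¹) = s * ((s⁻¹ * b * s) * y) * s⁻¹ := by group
      _ = s * (y * (s⁻¹ * b * s)) * s⁻¹ := by rw [h3]
      _ = s * y * s⁻¹ * b := by group
  -- the commutators lie in `Y`
  have hkey : ∀ s : S, ∀ b ∈ B₀, s * b * s⁻¹ * b⁻¹ ∈ Y := by
    intro s
    let v : S → S := fun b => s * b * s⁻¹ * b⁻¹
    have hvV : ∀ b ∈ B₀, v b ∈ V := fun b hb => hSD s b (hB₀D hb)
    have hvconj : ∀ b b' : S, v (b * b') = v b * (b * v b' * b⁻¹) := fun b b' => by
      simp only [v]
      group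
    have hcY : ∀ b ∈ B₀, ∀ u ∈ V, b * u * b⁻¹ * u⁻¹ ∈ Y := by
      intro b hb u hu
      apply hEY
      apply hVD
      have h1 : b * u * b⁻¹ * u⁻¹ = ⁅u, b⁆⁻¹ := by
        rw [commutatorElement_inv]
        rfl
      rw [h1]
      exact inv_mem (Subgroup.commutator_mem_commutator hu (hB₀D hb))
    let π := QuotientGroup.mk' Y
    let φ : B₀ →* S ⧸ Y :=
      { toFun := fun b => π (v b)
        map_one' := by
          show π (s * 1 * s⁻¹ * 1⁻¹) = 1
          simp
        map_mul' := fun b b' => by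
          show π (v (b * b')) = π (v b) * π (v b')
          rw [hvconj, map_mul]
          congr 1
          show ((b * v b' * (b : S)⁻¹ : S) : S ⧸ Y) = ((v b' : S) : S ⧸ Y)
          rw [QuotientGroup.eq_iff_div_mem, div_eq_mul_inv]
          exact hcY b b.2 (v b') (hvV b' b'.2) }
    have hφ : ∀ b : B₀, φ b = π (v b) := fun b => rfl
    have hker : ∀ b : B₀, b ∈ φ.ker ↔ v b ∈ Y := by
      intro b
      rw [MonoidHom.mem_ker, hφ]
      exact QuotientGroup.eq_one_iff _
    set K := φ.ker with hK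
    set K' := K.map B₀.subtype with hK'
    set W := φ.range.comap π with hW
    have hWV : W ≤ V := by
      intro x hx
      obtain ⟨b, hb⟩ := (hx : π x ∈ φ.range)
      rw [hφ] at hb
      have h1 : (v b)⁻¹ * x ∈ Y := QuotientGroup.eq.mp hb
      have h2 := mul_mem (hvV b b.2) (hYV h1)
      simpa using h2
    have hK'C : W ≤ centralizer (K' : Set S) := by
      intro x hx
      rw [mem_centralizer_iff]
      rintro _ ⟨b', hb', rfl⟩
      obtain ⟨b, hb⟩ := (hx : π x ∈ φ.range)
      rw [hφ] at hb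
      have h1 : (v b)⁻¹ * x ∈ Y := QuotientGroup.eq.mp hb
      have hb'Y : v b' ∈ Y := (hker b').mp hb'
      -- `b'` commutes with `v b`
      have hbb' : (b : S) * b' = b' * b := comm_of hBa b.2 b'.2
      have h2 : (s * b * s⁻¹) * (s * b' * s⁻¹) = (s * b' * s⁻¹) * (s * b * s⁻¹) := by
        calc (s * b * s⁻¹) * (s * b' * s⁻¹) = s * ((b : S) * b') * s⁻¹ := by group
          _ = s * ((b' : S) * b) * s⁻¹ := by rw [hbb']
          _ = _ := by group
      have e1 : s * b * s⁻¹ = v b * b := by simp only [v]; group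
      have e2 : s * b' * s⁻¹ = v b' * b' := by simp only [v]; group
      rw [e1, e2] at h2
      have e3 : (b : S) * v b' = v b' * b := hcommBY b b.2 _ hb'Y
      have e4 : v b * v b' = v b' * v b := comm_of hVa (hvV b b.2) (hvV b' b'.2)
      have h3 : v b * (b' : S) = b' * v b := by
        have h4 : v b * (b * (v b' * b')) = v b' * (b' * (v b * b)) := by
          simpa [mul_assoc] using h2
        have h5 : v b * (b * (v b' * b')) = v b' * (v b * (b' * b)) := by
          calc v b * (b * (v b' * b')) = v b * ((b * v b') * b') := by group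
            _ = v b * ((v b' * b) * b') := by rw [e3]
            _ = (v b * v b') * (b * b') := by group
            _ = (v b' * v b) * (b' * b) := by rw [e4, hbb']
            _ = _ := by group
        rw [h5] at h4
        have h6 := mul_left_cancel h4
        have h7 : (v b * b') * b = (b' * v b) * b := by
          simpa [mul_assoc] using h6
        exact mul_right_cancel h7
      -- conclude
      set y := (v b)⁻¹ * x with hy
      have hx' : x = v b * y := by rw [hy]; group
      have h8 : (b' : S) * y = y * b' := hcommBY b' b'.2 y h1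
      show (b' : S) * x = x * b'
      rw [hx']
      calc (b' : S) * (v b * y) = (b' * v b) * y := by group
        _ = (v b * b') * y := by rw [h3]
        _ = v b * (b' * y) := by group
        _ = v b * (y * b') := by rw [h8]
        _ = v b * y * b' := by group
    have hWle : W ≤ V ⊓ centralizer (K' : Set S) := le_inf hWV hK'C
    have hcK' : Nat.card K' = Nat.card K := Subgroup.card_map_of_injective B₀.subtype_injective
    have hcW : Nat.card W = Nat.card Y * Nat.card φ.range := card_comap_mk Y φ.range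
    have hcK : Nat.card K * Nat.card φ.range = Nat.card B₀ := by
      rw [← Subgroup.index_ker, ← hK]
      exact K.card_mul_index
    have hK'D : K' ≤ D := by
      rintro _ ⟨b', -, rfl⟩
      exact hB₀D b'.2
    have hOpt : Opt V D K' := by
      apply hmemO K' hK'D
      have h1 := Nat.card_le_card_of_injective _ (inclusion_injective hWle)
      have h2 : offProd V D = Nat.card K' * Nat.card W := by
        rw [← hoff, hcK', hcW, ← hcK]
        ring
      rw [h2]
      show _ ≤ Nat.card K' * Nat.card ↥(V ⊓ centralizer (K' : Set S))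
      exact Nat.mul_le_mul_left _ h1
    intro b hb
    have h1 := hsmall K' hOpt hb
    obtain ⟨b', hb', hbb'⟩ := h1
    have h2 := (hker b').mp hb'
    have h3 : (b' : S) = b := hbb'
    show v b ∈ Y
    rw [← h3]
    exact h2
  refine ⟨B₀ ⊔ Y, hGmem, ?_, sup_le_sup hB₀D hYV⟩
  constructor
  intro n hn g
  have hle : B₀ ⊔ Y ≤ (B₀ ⊔ Y).comap (MulAut.conj g).toMonoidHom := by
    refine sup_le ?_ ?_
    · intro b hb
      show g * b * g⁻¹ ∈ B₀ ⊔ Y
      have h1 := hkey g b hb
      have h2 : g * b * g⁻¹ = (g * b * g⁻¹ * b⁻¹) * b := by group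
      rw [h2]
      exact mul_mem (mem_sup_right h1) (mem_sup_left hb)
    · intro y hy
      show g * y * g⁻¹ ∈ B₀ ⊔ Y
      exact mem_sup_right (hYn.conj_mem y hy g)
  exact hle hn

/-- **Weak replacement.** -/
theorem main (hmeta : IsMulCommutative (commutator S)) (A : Subgroup S)
    (hA : A ∈ Cfsg.maxAbelianSubgroups S) :
    ∃ B ∈ Cfsg.maxAbelianSubgroups S, B.Normal ∧ B ≤ normalClosure (A : Set S) := by
  set N := normalClosure (A : Set S) with hN
  have hNn : N.Normal := normalClosure_normal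
  let V : Subgroup S := ⁅N, (⊤ : Subgroup S)⁆
  have hVn : V.Normal := Subgroup.commutator_normal _ _
  have hVN : V ≤ N := Subgroup.commutator_le_left _ _
  have hVc : V ≤ commutator S := Subgroup.commutator_mono le_top le_rfl
  have hVa : IsMulCommutative V :=
    ⟨⟨fun a b => Subtype.ext (comm_of hmeta (hVc a.2) (hVc b.2))⟩⟩
  obtain ⟨D, hD, hDN, hVD⟩ := exists_normalized V N hVn hVa hVN A hA (fun x hx => subset_normalClosure hx)
  obtain ⟨B, hB, hBn, hBle⟩ := exists_normal V hVn hVa hD hVD (by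
    intro s d hd
    have h1 : ⁅d, s⁆ ∈ V := Subgroup.commutator_mem_commutator (hDN hd) (mem_top _)
    have h2 : s * d * s⁻¹ * d⁻¹ = ⁅d, s⁆⁻¹ := by
      rw [commutatorElement_inv]
      rfl
    rw [h2]
    exact inv_mem h1)
  exact ⟨B, hB, hBn, hBle.trans (sup_le hDN hVN)⟩

end Cfsg.Agent.Lib.PGroups.MetabelianReplacement
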