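import Cfsg.Agent.Lib.PGroups.SectionalTwoClass
import Cfsg.Agent.Lib.FG7.BurnsideBasis
import Cfsg.Agent.Lib.PGroups.MaximalClass

/-!
# Metacyclic 2-groups whose automorphism group is not a 2-group
-/

set_option autoImplicit false

namespace Cfsg.Agent.Lib.PGroups.MetacyclicAut

open Subgroup
open Cfsg.Agent.Lib.PGroups.CyclicNormal Cfsg.Agent.Lib.PGroups.Presentations
  Cfsg.Agent.Lib.PGroups.SectionalTwo Cfsg.Agent.Lib.PGroups.SectionalTwoClass
open scoped commutatorElement

universe u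

variable {X : Type u} [Group X] [Finite X]

theorem exists_odd_aut (hA : ¬ IsPGroup 2 (MulAut X)) : ∃ σ : MulAut X, σ ≠ 1 ∧ Odd (orderOf σ) := by
  unfold IsPGroup at hA
  push Not at hA
  obtain ⟨σ₀, h0⟩ := hA
  have hpos : orderOf σ₀ ≠ 0 := (orderOf_pos σ₀).ne'
  obtain ⟨e, m, hm, hem⟩ := Nat.exists_eq_two_pow_mul_odd hpos
  refine ⟨σ₀ ^ (2 ^ e), h0 e, ?_⟩
  rw [orderOf_pow_of_dvd (by positivity) (by rw [hem]; exact dvd_mul_right _ _), hem,
    Nat.mul_div_cancel_left _ (by positivity)]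
  exact hm

theorem char_mem {H : Subgroup X} [hH : H.Characteristic] (σ : MulAut X) {x : X} :
    σ x ∈ H ↔ x ∈ H := by
  have h1 := (Subgroup.characteristic_iff_comap_eq.1 hH) σ
  constructor
  · intro h
    rw [← h1]
    exact h
  · intro h
    rw [← h1] at h
    exact h

/-- A metacyclic group in terms of elements. -/
theorem exists_gens (hm : Cfsg.IsMetacyclic X) :
    ∃ g h : X, (zpowers g).Normal ∧ commutator X ≤ zpowers g ∧ ∀ x : X, ∃ i j : ℤ, x = h ^ j * g ^ i := by
  obtain ⟨N, hN, hNc, hQc⟩ := hm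
  obtain ⟨⟨g, hgN⟩, hgen⟩ := hNc.exists_generator
  obtain ⟨q, hq⟩ := hQc.exists_generator
  obtain ⟨h, rfl⟩ := QuotientGroup.mk_surjective q
  have hNg : N = zpowers g := by
    apply le_antisymm
    · intro x hx
      obtain ⟨j, hj⟩ := mem_zpowers_iff.1 (hgen ⟨x, hx⟩)
      have := congrArg Subtype.val hj
      simp only [coe_zpow] at this
      rw [← this]
      exact zpow_mem (mem_zpowers g) j
    · exact zpowers_le.2 hgN
  subst hNg
  refine ⟨g, h, hN, ?_, ?_⟩
  · rw [_root_.commutator_def, commutator_le]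
    intro x _ y _
    rw [← QuotientGroup.eq_one_iff]
    obtain ⟨i, hi⟩ := mem_zpowers_iff.1 (hq (x : X ⧸ zpowers g))
    obtain ⟨j, hj⟩ := mem_zpowers_iff.1 (hq (y : X ⧸ zpowers g))
    rw [commutatorElement_def, QuotientGroup.mk_mul, QuotientGroup.mk_mul, QuotientGroup.mk_mul,
      QuotientGroup.mk_inv, QuotientGroup.mk_inv, ← hi, ← hj]
    have hc := (Commute.refl ((h : X ⧸ zpowers g))).zpow_zpow i j
    rw [show ((h : X ⧸ zpowers g)) ^ i * (h : X ⧸ zpowers g) ^ j
      = (h : X ⧸ zpowers g) ^ j * (h : X ⧸ zpowers g) ^ i from hc]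
    group
  · intro x
    obtain ⟨j, hj⟩ := mem_zpowers_iff.1 (hq (x : X ⧸ zpowers g))
    have h1 : (h ^ j)⁻¹ * x ∈ zpowers g := by
      rw [← QuotientGroup.eq, ← hj, QuotientGroup.mk_zpow]
    obtain ⟨i, hi⟩ := mem_zpowers_iff.1 h1
    exact ⟨i, j, by rw [hi]; group⟩

/-- The bound on the Frattini quotient of a metacyclic 2-group. -/
theorem index_frattini_le (hX : IsPGroup 2 X) (hm : Cfsg.IsMetacyclic X) : (frattini X).index ≤ 4 := by
  classical
  haveI : Fact (Nat.Prime 2) := ⟨Nat.prime_two⟩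
  obtain ⟨g, h, -, -, hform⟩ := exists_gens hm
  let π : X → X ⧸ frattini X := QuotientGroup.mk
  have hsq : ∀ y : X, ((y : X ⧸ frattini X)) ^ 2 = 1 := by
    intro y
    rw [← QuotientGroup.mk_pow, QuotientGroup.eq_one_iff]
    exact Cfsg.Agent.Lib.PGroups.Basic.pow_mem_frattini hX y
  have hz : ∀ (y : X) (k : ℤ), (y : X ⧸ frattini X) ^ k = 1 ∨
      (y : X ⧸ frattini X) ^ k = (y : X ⧸ frattini X) := by
    intro y k
    rcases Int.even_or_odd' k with ⟨e, rfl | rfl⟩
    · left
      rw [zpow_mul, zpow_ofNat, hsq, one_zpow]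
    · right
      rw [zpow_add, zpow_mul, zpow_ofNat, hsq, one_zpow, one_mul, zpow_one]
  let F : Bool × Bool → X ⧸ frattini X := fun p =>
    (if p.1 then (h : X ⧸ frattini X) else 1) * (if p.2 then (g : X ⧸ frattini X) else 1)
  have hF : Function.Surjective F := by
    intro q
    obtain ⟨x, rfl⟩ := QuotientGroup.mk_surjective q
    obtain ⟨i, j, rfl⟩ := hform x
    rw [QuotientGroup.mk_mul, QuotientGroup.mk_zpow, QuotientGroup.mk_zpow]
    rcases hz h j with h1 | h1 <;> rcases hz g i with h2 | h2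
    · exact ⟨(false, false), by simp [F, h1, h2]⟩
    · exact ⟨(false, true), by simp [F, h1, h2]⟩
    · exact ⟨(true, false), by simp [F, h1, h2]⟩
    · exact ⟨(true, true), by simp [F, h1, h2]⟩
  have h1 := Nat.card_le_card_of_surjective F hF
  rw [Subgroup.index]
  simpa using h1

/-- No maximal subgroup is invariant under a nontrivial automorphism of odd order. -/
theorem no_invariant_max (hX : IsPGroup 2 X) (hΦ : (frattini X).index ≤ 4) {σ : MulAut X}
    (hσ1 : σ ≠ 1) (hodd : Odd (orderOf σ)) (M : Subgroup X) (hM : M.index = 2) :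
    ∃ x ∈ M, σ x ∉ M := by
  classical
  haveI : Fact (Nat.Prime 2) := ⟨Nat.prime_two⟩
  by_contra hno
  push Not at hno
  haveI hMn : M.Normal := Subgroup.normal_of_index_eq_two hM
  have hCo : IsCoatom M := Cfsg.Agent.Lib.PGroups.Basic.isCoatom_of_index_prime (by rw [hM]; exact Nat.prime_two)
  have hΦM : frattini X ≤ M := frattini_le_coatom hCo
  have hcharΦ : (frattini X).Characteristic := inferInstance
  -- `σ` preserves `M` exactly
  have hmapM : M.map σ.toMonoidHom = M := by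
    apply Subgroup.eq_of_le_of_card_ge
    · rintro _ ⟨x, hx, rfl⟩
      exact hno x hx
    · rw [Subgroup.card_map_of_injective σ.injective]
  have hinv' : ∀ x, σ x ∈ M ↔ x ∈ M := by
    intro x
    constructor
    · intro h
      rw [← hmapM] at h
      obtain ⟨y, hy, hyx⟩ := h
      have : y = x := σ.injective hyx
      rwa [← this]
    · exact hno x
  -- two elements of `M` outside `Φ`
  have hA : ∀ x ∈ M, ∀ y ∈ M, x ∉ frattini X → y ∉ frattini X → x⁻¹ * y ∈ frattini X := by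
    intro x hx y hy hx' hy'
    have h1 := Subgroup.relIndex_mul_index hΦM
    rw [hM] at h1
    have h2 : (frattini X).relIndex M ≠ 0 := by
      intro h0
      rw [h0] at h1
      have : (frattini X).index ≠ 0 := Subgroup.index_ne_zero_of_finite
      omega
    have h3 : (frattini X).relIndex M = 1 ∨ (frattini X).relIndex M = 2 := by omega
    rcases h3 with h3 | h3
    · exact absurd ((Subgroup.relIndex_eq_one.1 h3) hx) hx'
    · have h4 := (Subgroup.mul_mem_iff_of_index_two (H := (frattini X).subgroupOf M) h3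
        (a := ⟨x⁻¹, M.inv_mem hx⟩) (b := ⟨y, hy⟩)).2 (by
          simp only [Subgroup.mem_subgroupOf, inv_mem_iff]
          exact iff_of_false hx' hy')
      rw [Subgroup.mem_subgroupOf] at h4
      exact h4
  have hkey : ∀ x ∈ M, σ x * x⁻¹ ∈ frattini X := by
    intro x hx
    by_cases hxΦ : x ∈ frattini X
    · exact mul_mem ((char_mem σ).2 hxΦ) (inv_mem hxΦ)
    · have h1 := hA x hx (σ x) (hno x hx) hxΦ (fun h => hxΦ ((char_mem σ).1 h))
      have h2 : σ x * x⁻¹ = x * (x⁻¹ * σ x) * x⁻¹ := by group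
      rw [h2]
      exact (inferInstance : (frattini X).Normal).conj_mem _ h1 x
  let τ : X ⧸ frattini X →* X ⧸ frattini X :=
    QuotientGroup.map (frattini X) (frattini X) σ.toMonoidHom (fun y hy => (char_mem σ).2 hy)
  have hτ : ∀ y : X, τ (y : X ⧸ frattini X) = ((σ y : X) : X ⧸ frattini X) := fun y => rfl
  have hall1 : ∀ x : X, σ x * x⁻¹ ∈ frattini X := by
    intro x
    by_cases hxM : x ∈ M
    · exact hkey x hxM
    set w := σ x * x⁻¹ with hw
    have hwM : w ∈ M := by
      rw [hw]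
      have h1 := (Subgroup.mul_mem_iff_of_index_two hM (a := σ x) (b := x⁻¹)).2 (by
        rw [inv_mem_iff]
        exact iff_of_false (fun h => hxM ((hinv' x).1 h)) hxM)
      exact h1
    by_contra hwΦ
    have h1 : ((σ x : X) : X ⧸ frattini X) = (w : X ⧸ frattini X) * (x : X ⧸ frattini X) := by
      rw [← QuotientGroup.mk_mul, hw]
      group
    have h2 : ((σ w : X) : X ⧸ frattini X) = (w : X ⧸ frattini X) := by
      have h3 := hkey w hwM
      have h4 : (σ w : X) = (σ w * w⁻¹) * w := by group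
      rw [h4, QuotientGroup.mk_mul, (QuotientGroup.eq_one_iff _).2 h3, one_mul]
    have hpow : ∀ k : ℕ, (((σ ^ k) x : X) : X ⧸ frattini X)
        = (w : X ⧸ frattini X) ^ k * (x : X ⧸ frattini X) := by
      intro k
      induction k with
      | zero => simp
      | succ k ih =>
        rw [pow_succ', MulAut.mul_apply, ← hτ, ih, map_mul, map_pow, hτ, hτ, h1, h2, pow_succ, mul_assoc]
    have h3 := hpow (orderOf σ)
    rw [pow_orderOf_eq_one, MulAut.one_apply] at h3
    have h4 : (w : X ⧸ frattini X) ^ orderOf σ = 1 := by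
      have := h3.symm
      rwa [mul_eq_right] at this
    have h5 : (w : X ⧸ frattini X) ^ 2 = 1 := by
      rw [← QuotientGroup.mk_pow, QuotientGroup.eq_one_iff]
      exact Cfsg.Agent.Lib.PGroups.Basic.pow_mem_frattini hX w
    obtain ⟨e, he⟩ := hodd
    rw [he, pow_succ, pow_mul, h5, one_pow, one_mul, QuotientGroup.eq_one_iff] at h4
    exact hwΦ h4
  apply hσ1
  obtain ⟨n, hn⟩ := hX.exists_card_eq
  have hQp : IsPGroup 2 (X ⧸ frattini X) := hX.to_quotient _
  obtain ⟨r, hr⟩ := hQp.exists_card_eq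
  have hdvd := Cfsg.Agent.Lib.FG7.BurnsideBasis.card_dvd (p := 2) (n := n) (r := r) hn hr (zpowers σ)
    (by
      intro α hα x
      obtain ⟨k, rfl⟩ := Cfsg.Agent.Lib.Metacyclic.Basic.exists_natPow_of_mem_zpowers hα
      have h1 : ∀ k : ℕ, ((σ ^ k) x * x⁻¹) ∈ frattini X := by
        intro k
        induction k with
        | zero => simp
        | succ k ih =>
          have h2 := hall1 ((σ ^ k) x)
          rw [pow_succ', MulAut.mul_apply]
          have h3 : σ ((σ ^ k) x) * x⁻¹ = (σ ((σ ^ k) x) * ((σ ^ k) x)⁻¹) * ((σ ^ k) x * x⁻¹) := by group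
          rw [h3]
          exact mul_mem h2 ih
      exact h1 k)
  rw [Nat.card_zpowers] at hdvd
  have h1 : orderOf σ = 1 := by
    have hco : Nat.Coprime (orderOf σ) (2 ^ (r * (n - r))) :=
      Nat.Coprime.pow_right _ (Nat.coprime_two_right.2 hodd)
    exact Nat.Coprime.eq_one_of_dvd hco hdvd
  exact orderOf_eq_one_iff.1 h1

/-- An abelian group with a homocyclic basis. -/
theorem equiv_of_basis {B : Type*} [CommGroup B] {u v : B} {n : ℕ} (hu : orderOf u = 2 ^ n)
    (hv : orderOf v = 2 ^ n) (gen : ∀ y : B, ∃ i j : ℤ, y = u ^ i * v ^ j)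
    (ind : ∀ i j : ℤ, u ^ i * v ^ j = 1 → u ^ i = 1 ∧ v ^ j = 1) :
    Nonempty (B ≃* Multiplicative (ZMod (2 ^ n)) × Multiplicative (ZMod (2 ^ n))) := by
  haveI : NeZero (2 ^ n) := ⟨by positivity⟩
  let F : Multiplicative (ZMod (2 ^ n)) × Multiplicative (ZMod (2 ^ n)) →* B := MonoidHom.mk'
    (fun p => u ^ (Multiplicative.toAdd p.1).val * v ^ (Multiplicative.toAdd p.2).val) (by
      rintro ⟨s, t⟩ ⟨s', t'⟩
      simp only [Prod.mk_mul_mk, toAdd_mul]
      rw [pow_val_add hu, pow_val_add hv]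
      ac_rfl)
  have hinj : Function.Injective F := by
    rw [injective_iff_map_eq_one]
    rintro ⟨s, t⟩ h1
    have h2 : u ^ (Multiplicative.toAdd s).val * v ^ (Multiplicative.toAdd t).val = 1 := h1
    have h3 := ind ((Multiplicative.toAdd s).val : ℤ) ((Multiplicative.toAdd t).val : ℤ) (by
      rw [zpow_natCast, zpow_natCast]
      exact h2)
    rw [zpow_natCast, zpow_natCast] at h3
    have h4 : (Multiplicative.toAdd s).val = 0 := by
      apply Nat.eq_zero_of_dvd_of_lt _ (ZMod.val_lt _)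
      have := orderOf_dvd_of_pow_eq_one h3.1
      rwa [hu] at this
    have h5 : (Multiplicative.toAdd t).val = 0 := by
      apply Nat.eq_zero_of_dvd_of_lt _ (ZMod.val_lt _)
      have := orderOf_dvd_of_pow_eq_one h3.2
      rwa [hv] at this
    rw [ZMod.val_eq_zero] at h4 h5
    exact Prod.ext h4 h5
  have hsurj : Function.Surjective F := by
    intro y
    obtain ⟨i, j, rfl⟩ := gen y
    refine ⟨(Multiplicative.ofAdd (i : ZMod (2 ^ n)), Multiplicative.ofAdd (j : ZMod (2 ^ n))), ?_⟩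
    have key : ∀ (w : B), orderOf w = 2 ^ n → ∀ k : ℤ, w ^ ((k : ZMod (2 ^ n))).val = w ^ k := by
      intro w hw k
      have h1 : (((k : ZMod (2 ^ n))).val : ℤ) = k % ((2 ^ n : ℕ) : ℤ) := ZMod.val_intCast k
      have h2 := zpow_mod_orderOf w k
      rw [hw] at h2
      rw [← zpow_natCast, h1, h2]
    change u ^ ((i : ZMod (2 ^ n))).val * v ^ ((j : ZMod (2 ^ n))).val = _
    rw [key u hu, key v hv]
  exact ⟨(MulEquiv.ofBijective F ⟨hinj, hsurj⟩).symm⟩

/-- A nonabelian-or-not group acted on: the basis of the abelianization is homocyclic. -/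
theorem not_lt_of_basis {σ : MulAut X} (H : ∀ M : Subgroup X, M.index = 2 → ∃ x ∈ M, σ x ∉ M)
    {u v : Abelianization X} {m n : ℕ} (hu : orderOf u = 2 ^ m) (hv : orderOf v = 2 ^ n)
    (gen : ∀ y : Abelianization X, ∃ i j : ℤ, y = u ^ i * v ^ j) : ¬ n < m := by
  intro hlt
  haveI : Fact (Nat.Prime 2) := ⟨Nat.prime_two⟩
  obtain ⟨k, rfl⟩ : ∃ k, m = k + 1 := ⟨m - 1, by omega⟩
  let f : X →* Abelianization X := Abelianization.of
  have hf : Function.Surjective f := fun q => QuotientGroup.induction_on q (fun g => ⟨g, rfl⟩)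
  let θ : X →* Abelianization X := (powMonoidHom (2 ^ k)).comp f
  have hθ : ∀ x, θ x = f x ^ (2 ^ k) := fun x => rfl
  set t := u ^ (2 ^ k) with ht
  have ht2 : t ^ 2 = 1 := by
    rw [ht, ← pow_mul, ← pow_succ, ← hu, pow_orderOf_eq_one]
  have ht1 : t ≠ 1 := by
    intro h
    have h1 := orderOf_dvd_of_pow_eq_one h
    rw [hu] at h1
    have := (Nat.pow_dvd_pow_iff_le_right (by norm_num)).1 h1
    omega
  have hv1 : v ^ (2 ^ k) = 1 := by
    rw [← orderOf_dvd_iff_pow_eq_one, hv]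
    exact pow_dvd_pow 2 (by omega)
  have hrange : θ.range = zpowers t := by
    apply le_antisymm
    · rintro _ ⟨x, rfl⟩
      obtain ⟨i, j, hij⟩ := gen (f x)
      rw [hθ, hij, mul_pow, ← zpow_natCast (v ^ j), ← zpow_natCast (u ^ i)]
      rw [← zpow_mul, ← zpow_mul, mul_comm j, mul_comm i, zpow_mul, zpow_mul v, zpow_natCast,
        zpow_natCast, hv1, one_zpow, mul_one, ← ht]
      exact zpow_mem (mem_zpowers t) i
    · rw [zpowers_le]
      obtain ⟨x, hx⟩ := hf u
      exact ⟨x, by rw [hθ, hx]⟩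
  have hidx : θ.ker.index = 2 := by
    rw [Subgroup.index_ker, hrange, Nat.card_zpowers]
    exact orderOf_eq_prime ht2 ht1
  have hmem : ∀ y, y ∈ θ.ker ↔ y ^ (2 ^ k) ∈ commutator X := by
    intro y
    rw [MonoidHom.mem_ker, hθ, ← map_pow, ← MonoidHom.mem_ker, Abelianization.ker_of]
  obtain ⟨x, hx, hσx⟩ := H θ.ker hidx
  apply hσx
  rw [hmem] at hx ⊢
  rw [← map_pow]
  exact (char_mem σ).2 hx

theorem exists_gen_of_le_zpowers {C : Subgroup X} {g : X} (h : C ≤ zpowers g) :
    ∃ c, C = zpowers c := by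
  have hcy : IsCyclic (C.subgroupOf (zpowers g)) := inferInstance
  obtain ⟨⟨⟨c, hcg⟩, hc⟩, hgen⟩ := hcy.exists_generator
  have hcC : c ∈ C := hc
  refine ⟨c, le_antisymm ?_ (zpowers_le.2 hcC)⟩
  intro x hx
  have h1 : (⟨x, h hx⟩ : zpowers g) ∈ C.subgroupOf (zpowers g) := hx
  obtain ⟨j, hj⟩ := mem_zpowers_iff.1 (hgen ⟨⟨x, h hx⟩, h1⟩)
  have h2 : c ^ j = x := by
    have := congrArg (fun w : C.subgroupOf (zpowers g) => ((w : zpowers g) : X)) hj
    simpa using this
  rw [← h2]
  exact zpow_mem (mem_zpowers c) j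

/-- Exclusion of large exponent. -/
theorem false_of_two_le (hX : IsPGroup 2 X) {σ : MulAut X}
    (H : ∀ M : Subgroup X, M.index = 2 → ∃ x ∈ M, σ x ∉ M) {g h : X}
    (hCg : commutator X ≤ zpowers g) (hform : ∀ x : X, ∃ i j : ℤ, x = h ^ j * g ^ i)
    {u v : Abelianization X} {n : ℕ} (hu : orderOf u = 2 ^ n) (hv : orderOf v = 2 ^ n)
    (gen : ∀ y : Abelianization X, ∃ i j : ℤ, y = u ^ i * v ^ j)
    (ind : ∀ i j : ℤ, u ^ i * v ^ j = 1 → u ^ i = 1 ∧ v ^ j = 1) (hn : 2 ≤ n)
    (hC : commutator X ≠ ⊥) : False := by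
  haveI : Fact (Nat.Prime 2) := ⟨Nat.prime_two⟩
  let f : X →* Abelianization X := Abelianization.of
  have hf : Function.Surjective f := fun q => QuotientGroup.induction_on q (fun g => ⟨g, rfl⟩)
  haveI : Finite (Abelianization X) := Finite.of_surjective f hf
  have hker : ∀ g, f g = 1 ↔ g ∈ commutator X := fun g => by
    rw [← MonoidHom.mem_ker, Abelianization.ker_of]
  have hexp : ∀ y : Abelianization X, y ^ (2 ^ n) = 1 := by
    intro y
    obtain ⟨i, j, rfl⟩ := gen y
    have e1 : u ^ (2 ^ n) = 1 := by rw [← hu, pow_orderOf_eq_one]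
    have e2 : v ^ (2 ^ n) = 1 := by rw [← hv, pow_orderOf_eq_one]
    rw [mul_pow, ← zpow_natCast (u ^ i), ← zpow_natCast (v ^ j), ← zpow_mul, ← zpow_mul,
      mul_comm i, mul_comm j, zpow_mul, zpow_mul v, zpow_natCast, zpow_natCast, e1, e2]
    simp
  obtain ⟨c, hc⟩ := exists_gen_of_le_zpowers hCg
  have hCn : (commutator X).Normal := inferInstance
  have hZn : (zpowers c).Normal := hc ▸ hCn
  have hc1 : c ≠ 1 := by
    rintro rfl
    apply hC
    rw [hc]
    simp
  have hw : ∀ x : X, ∃ w : ℕ, w ≡ 1 [MOD 2] ∧ x * c * x⁻¹ = c ^ w :=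
    Cfsg.Agent.Lib.Metacyclic.Basic.exists_conj_eq_pow hX c hZn
  haveI hYn : (zpowers (c ^ 2)).Normal := by
    constructor
    intro y hy x
    obtain ⟨k, rfl⟩ := mem_zpowers_iff.1 hy
    obtain ⟨w, -, hw'⟩ := hw x
    rw [← MulAut.conj_apply, map_zpow, map_pow, MulAut.conj_apply, hw']
    apply zpow_mem
    rw [← pow_mul, mul_comm, pow_mul]
    exact Subgroup.pow_mem _ (mem_zpowers _) _
  let Y := zpowers (c ^ 2)
  have hπc2 : ((c : X) : X ⧸ Y) ^ 2 = 1 := by
    rw [← QuotientGroup.mk_pow, QuotientGroup.eq_one_iff]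
    exact mem_zpowers _
  have hπcen : ∀ z : X, (z : X ⧸ Y) * (c : X ⧸ Y) = (c : X ⧸ Y) * (z : X ⧸ Y) := by
    intro z
    obtain ⟨w, hw1, hw'⟩ := hw z
    obtain ⟨e, he⟩ : ∃ e, w = 2 * e + 1 := by
      have : w % 2 = 1 := hw1
      exact ⟨w / 2, by omega⟩
    have h1 : ((c ^ w : X) : X ⧸ Y) = (c : X ⧸ Y) := by
      rw [QuotientGroup.mk_pow, he, pow_succ, pow_mul, hπc2, one_pow, one_mul]
    rw [← hw'] at h1
    rw [QuotientGroup.mk_mul, QuotientGroup.mk_mul, QuotientGroup.mk_inv] at h1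
    calc (z : X ⧸ Y) * (c : X ⧸ Y)
        = ((z : X ⧸ Y) * (c : X ⧸ Y) * (z : X ⧸ Y)⁻¹) * (z : X ⧸ Y) := by group
      _ = _ := by rw [h1]
  have hcomm_mem : ∀ x y : X, ∃ i : ℤ, ⁅x, y⁆ = c ^ i := by
    intro x y
    have h1 : ⁅x, y⁆ ∈ commutator X :=
      Subgroup.commutator_mem_commutator (mem_top x) (mem_top y)
    rw [hc] at h1
    obtain ⟨i, hi⟩ := mem_zpowers_iff.1 h1
    exact ⟨i, hi.symm⟩
  have hZbar : ∀ a b : X ⧸ Y, ⁅a, b⁆ ∈ center (X ⧸ Y) := by
    intro a b
    obtain ⟨x, rfl⟩ := QuotientGroup.mk_surjective a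
    obtain ⟨y, rfl⟩ := QuotientGroup.mk_surjective b
    obtain ⟨i, hi⟩ := hcomm_mem x y
    have h1 : ⁅(x : X ⧸ Y), (y : X ⧸ Y)⁆ = (c : X ⧸ Y) ^ i := by
      rw [← QuotientGroup.mk_zpow, ← hi, commutatorElement_def, commutatorElement_def,
        QuotientGroup.mk_mul, QuotientGroup.mk_mul, QuotientGroup.mk_mul, QuotientGroup.mk_inv,
        QuotientGroup.mk_inv]
    rw [h1, mem_center_iff]
    intro q
    obtain ⟨z, rfl⟩ := QuotientGroup.mk_surjective q
    exact (Commute.zpow_right (hπcen z) i)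
  have hEbar : ∀ a b : X ⧸ Y, ⁅a, b⁆ ^ 2 = 1 := by
    intro a b
    obtain ⟨x, rfl⟩ := QuotientGroup.mk_surjective a
    obtain ⟨y, rfl⟩ := QuotientGroup.mk_surjective b
    obtain ⟨i, hi⟩ := hcomm_mem x y
    have h1 : ⁅(x : X ⧸ Y), (y : X ⧸ Y)⁆ = (c : X ⧸ Y) ^ i := by
      rw [← QuotientGroup.mk_zpow, ← hi, commutatorElement_def, commutatorElement_def,
        QuotientGroup.mk_mul, QuotientGroup.mk_mul, QuotientGroup.mk_mul, QuotientGroup.mk_inv,
        QuotientGroup.mk_inv]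
    rw [h1, ← zpow_natCast, ← zpow_mul, mul_comm, zpow_mul, zpow_natCast, hπc2, one_zpow]
  have hdvd2 : 2 ∣ (2 ^ n).choose 2 :=
    Cfsg.Agent.Lib.PGroups.ClassTwo.prime_dvd_choose_pow_two Nat.prime_two (by omega) (by
      intro h2
      have : 2 ^ 2 ≤ 2 ^ n := Nat.pow_le_pow_right (by norm_num) hn
      omega)
  let θ : X →* X ⧸ Y := MonoidHom.mk' (fun x => (x : X ⧸ Y) ^ (2 ^ n)) (by
    intro x y
    rw [QuotientGroup.mk_mul, Cfsg.Agent.Lib.PGroups.ClassTwo.mul_pow hZbar]
    obtain ⟨e, he⟩ := hdvd2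
    rw [he, pow_mul, hEbar, one_pow, mul_one])
  have hθ : ∀ x : X, θ x = (x : X ⧸ Y) ^ (2 ^ n) := fun x => rfl
  have hrange : θ.range ≤ zpowers (c : X ⧸ Y) := by
    rintro _ ⟨x, rfl⟩
    have h1 : x ^ (2 ^ n) ∈ commutator X := by
      rw [← hker, map_pow, hexp]
    rw [hc] at h1
    obtain ⟨i, hi⟩ := mem_zpowers_iff.1 h1
    rw [hθ, ← QuotientGroup.mk_pow, ← hi, QuotientGroup.mk_zpow]
    exact zpow_mem (mem_zpowers _) i
  have hidx : θ.ker.index ≤ 2 := by
    rw [Subgroup.index_ker]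
    refine (Subgroup.card_le_of_le hrange).trans ?_
    rw [Nat.card_zpowers]
    exact Nat.le_of_dvd (by norm_num) (orderOf_dvd_of_pow_eq_one hπc2)
  have hmem : ∀ y, y ∈ θ.ker ↔ y ^ (2 ^ n) ∈ Y := by
    intro y
    rw [MonoidHom.mem_ker, hθ, ← QuotientGroup.mk_pow, QuotientGroup.eq_one_iff]
  have hYσ : ∀ y ∈ Y, σ y ∈ Y := by
    intro y hy
    obtain ⟨k, rfl⟩ := mem_zpowers_iff.1 hy
    rw [map_zpow, map_pow]
    apply zpow_mem
    have h1 : σ c ∈ commutator X := (char_mem σ).2 (by rw [hc]; exact mem_zpowers c)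
    rw [hc] at h1
    obtain ⟨l, hl⟩ := mem_zpowers_iff.1 h1
    rw [← hl, ← zpow_natCast (c ^ l), ← zpow_mul, mul_comm, zpow_mul, zpow_natCast]
    exact zpow_mem (mem_zpowers _) l
  have hMtop : θ.ker = ⊤ := by
    have h0 : θ.ker.index ≠ 0 := Subgroup.index_ne_zero_of_finite
    have h1 : θ.ker.index = 1 ∨ θ.ker.index = 2 := by omega
    rcases h1 with h1 | h1
    · exact Subgroup.index_eq_one.1 h1
    · exfalso
      obtain ⟨x, hx, hσx⟩ := H _ h1
      apply hσx
      rw [hmem] at hx ⊢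
      rw [← map_pow]
      exact hYσ _ hx
  have hgY : g ^ (2 ^ n) ∈ Y := by
    rw [← hmem, hMtop]
    exact mem_top g
  -- the order of the image of `g`
  obtain ⟨φ⟩ := equiv_of_basis hu hv gen ind
  haveI : NeZero (2 ^ n) := ⟨by positivity⟩
  have hcardB : Nat.card (Abelianization X) = 2 ^ n * 2 ^ n := by
    rw [Nat.card_congr φ.toEquiv, Nat.card_prod, Nat.card_eq_fintype_card (α := Multiplicative _),
      Fintype.card_multiplicative, ZMod.card]
  have hle : Nat.card (Abelianization X) ≤ orderOf (f h) * orderOf (f g) := by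
    let G₁ : zpowers (f h) × zpowers (f g) → Abelianization X := fun p => (p.1 : Abelianization X) * p.2
    have hG₁ : Function.Surjective G₁ := by
      intro y
      obtain ⟨x, rfl⟩ := hf y
      obtain ⟨i, j, rfl⟩ := hform x
      refine ⟨(⟨f h ^ j, zpow_mem (mem_zpowers _) j⟩, ⟨f g ^ i, zpow_mem (mem_zpowers _) i⟩), ?_⟩
      simp [G₁]
    have h1 := Nat.card_le_card_of_surjective G₁ hG₁
    rwa [Nat.card_prod, Nat.card_zpowers, Nat.card_zpowers] at h1
  have hoh : orderOf (f h) ≤ 2 ^ n :=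
    Nat.le_of_dvd (by positivity) (orderOf_dvd_of_pow_eq_one (hexp _))
  have hog : orderOf (f g) = 2 ^ n := by
    have hd : orderOf (f g) ∣ 2 ^ n := orderOf_dvd_of_pow_eq_one (hexp _)
    have hge : 2 ^ n ≤ orderOf (f g) := by
      rw [hcardB] at hle
      have h1 : 2 ^ n * 2 ^ n ≤ 2 ^ n * orderOf (f g) :=
        hle.trans (Nat.mul_le_mul_right _ hoh)
      exact Nat.le_of_mul_le_mul_left h1 (by positivity)
    exact le_antisymm (Nat.le_of_dvd (by positivity) hd) hge
  -- `c` is a power of `g ^ (2 ^ n)`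
  have hcmem : c ∈ commutator X := by
    rw [hc]
    exact mem_zpowers c
  obtain ⟨t, ht⟩ := mem_zpowers_iff.1 (hCg hcmem)
  have hft : f g ^ t = 1 := by
    rw [← map_zpow, ht]
    exact (hker c).2 hcmem
  have hdt := orderOf_dvd_iff_zpow_eq_one.2 hft
  rw [hog] at hdt
  obtain ⟨s, hs⟩ := hdt
  have hcY : c ∈ Y := by
    rw [← ht, hs, zpow_mul, zpow_natCast]
    exact zpow_mem hgY s
  obtain ⟨k, hk⟩ := mem_zpowers_iff.1 hcY
  have h1 : c ^ (2 * k - 1) = 1 := by
    rw [zpow_sub, zpow_mul, zpow_ofNat, zpow_one, hk, mul_inv_cancel]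
  obtain ⟨a, ha⟩ := IsPGroup.iff_orderOf.1 hX c
  have h2 := orderOf_dvd_iff_zpow_eq_one.2 h1
  rw [ha] at h2
  have ha0 : a = 0 := by
    by_contra ha0
    obtain ⟨a', rfl⟩ := Nat.exists_eq_succ_of_ne_zero ha0
    have h3 : (2 : ℤ) ∣ ((2 ^ (a' + 1) : ℕ) : ℤ) := by
      push_cast
      exact dvd_pow_self 2 (by omega)
    have h4 := h3.trans h2
    omega
  rw [ha0, pow_zero] at ha
  exact hc1 (orderOf_eq_one_iff.1 ha)

/-- The case of abelianization of order four. -/
theorem quaternion_of_index_four (hX : IsPGroup 2 X) {σ : MulAut X}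
    (H : ∀ M : Subgroup X, M.index = 2 → ∃ x ∈ M, σ x ∉ M)
    (h4 : (commutator X).index = 4) (hC : commutator X ≠ ⊥) : Nonempty (X ≃* QuaternionGroup 2) := by
  haveI : Fact (Nat.Prime 2) := ⟨Nat.prime_two⟩
  obtain ⟨N, hN⟩ := hX.exists_card_eq
  obtain ⟨a, ha⟩ := Cfsg.Agent.Lib.PGroups.MaximalClass.exists_zpowers_index_two N hN h4
  set y := σ a with hy
  have hyK : y ∉ zpowers a := by
    intro h1
    obtain ⟨x, hx, hσx⟩ := H _ ha
    apply hσx
    obtain ⟨i, rfl⟩ := mem_zpowers_iff.1 hx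
    rw [map_zpow]
    exact zpow_mem h1 i
  have hoy : orderOf y = orderOf a := MulEquiv.orderOf_eq σ a
  have hb : (zpowers y).index = 2 := by
    have h1 := (zpowers a).card_mul_index
    have h2 := (zpowers y).card_mul_index
    rw [Nat.card_zpowers, ha] at h1
    rw [Nat.card_zpowers, hoy] at h2
    have h3 : 0 < orderOf a := orderOf_pos a
    exact (Nat.eq_of_mul_eq_mul_left h3 (h2.trans h1.symm))
  haveI hKn : (zpowers a).Normal := Subgroup.normal_of_index_eq_two ha
  haveI hLn : (zpowers y).Normal := Subgroup.normal_of_index_eq_two hb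
  have ha2 : a * a ∈ zpowers y := (Subgroup.mul_mem_iff_of_index_two hb).2 Iff.rfl
  have hy2 : y * y ∈ zpowers a := (Subgroup.mul_mem_iff_of_index_two ha).2 Iff.rfl
  -- normal form
  have hform : ∀ x : X, ∃ (e : ℕ) (i : ℤ), x = y ^ e * a ^ i := by
    intro x
    by_cases hx : x ∈ zpowers a
    · obtain ⟨i, rfl⟩ := mem_zpowers_iff.1 hx
      exact ⟨0, i, by simp⟩
    · have h1 := (Subgroup.mul_mem_iff_of_index_two ha (a := y⁻¹) (b := x)).2 (by
        rw [inv_mem_iff]
        exact iff_of_false hyK hx)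
      obtain ⟨i, hi⟩ := mem_zpowers_iff.1 h1
      exact ⟨1, i, by rw [hi]; group⟩
  have hca : Commute (a * a) a := by
    rw [Commute, SemiconjBy, mul_assoc]
  have hcy : Commute (a * a) y := by
    obtain ⟨i, hi⟩ := mem_zpowers_iff.1 ha2
    rw [← hi]
    exact ((Commute.refl y).zpow_left i)
  set d := ⁅a, y⁆ with hd
  have hdK : d ∈ zpowers a := by
    rw [hd, commutatorElement_def]
    have : a * y * a⁻¹ * y⁻¹ = a * (y * a⁻¹ * y⁻¹) := by group
    rw [this]
    exact mul_mem (mem_zpowers a) (hKn.conj_mem _ (inv_mem (mem_zpowers a)) y)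
  have hdL : d ∈ zpowers y := by
    rw [hd, commutatorElement_def]
    exact mul_mem (hLn.conj_mem _ (mem_zpowers y) a) (inv_mem (mem_zpowers y))
  have hda : Commute d a := by
    obtain ⟨i, hi⟩ := mem_zpowers_iff.1 hdK
    rw [← hi]
    exact (Commute.refl a).zpow_left i
  have hdy : Commute d y := by
    obtain ⟨i, hi⟩ := mem_zpowers_iff.1 hdL
    rw [← hi]
    exact (Commute.refl y).zpow_left i
  have hdcen : ∀ x : X, Commute d x := by
    intro x
    obtain ⟨e, i, rfl⟩ := hform x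
    exact (hdy.pow_right e).mul_right (hda.zpow_right i)
  have hd2 : d ^ 2 = 1 := by
    have h1 := Cfsg.Agent.Lib.PGroups.ClassTwo.comm_pow_left_of_comm (x := a) (y := y) hda 2
    rw [← hd] at h1
    rw [← h1, sq, commutatorElement_eq_one_iff_mul_comm]
    exact hcy
  haveI hZd : (zpowers d).Normal := by
    constructor
    intro w hw x
    obtain ⟨i, rfl⟩ := mem_zpowers_iff.1 hw
    have h1 : x * d ^ i * x⁻¹ = d ^ i := by
      rw [← ((hdcen x).zpow_left i).eq]
      group
    rw [h1]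
    exact hw
  have hCd : commutator X ≤ zpowers d := by
    rw [_root_.commutator_def, commutator_le]
    intro g₁ _ g₂ _
    let ρ := QuotientGroup.mk' (zpowers d)
    have hay : Commute (ρ a) (ρ y) := by
      have hmem : a * y * a⁻¹ * y⁻¹ ∈ zpowers d := by
        rw [← commutatorElement_def]
        exact mem_zpowers d
      have h1 : ρ (a * y * a⁻¹ * y⁻¹) = 1 := (QuotientGroup.eq_one_iff _).2 hmem
      rw [map_mul, map_mul, map_mul, map_inv, map_inv] at h1
      change ρ a * ρ y = ρ y * ρ a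
      calc ρ a * ρ y = (ρ a * ρ y * (ρ a)⁻¹ * (ρ y)⁻¹) * (ρ y * ρ a) := by group
        _ = _ := by rw [h1, one_mul]
    have hc1 : ∀ g, Commute (ρ g) (ρ a) ∧ Commute (ρ g) (ρ y) := by
      intro g
      obtain ⟨e, i, rfl⟩ := hform g
      rw [map_mul, map_pow, map_zpow]
      constructor
      · exact (hay.symm.pow_left e).mul_left ((Commute.refl _).zpow_left i)
      · exact ((Commute.refl _).pow_left e).mul_left (hay.zpow_left i)
    have hc2 : Commute (ρ g₁) (ρ g₂) := by
      obtain ⟨e, i, hh⟩ := hform g₂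
      rw [hh, map_mul, map_pow, map_zpow]
      exact ((hc1 g₁).2.pow_right e).mul_right ((hc1 g₁).1.zpow_right i)
    have h3 : ρ ⁅g₁, g₂⁆ = 1 := by
      rw [commutatorElement_def, map_mul, map_mul, map_mul, map_inv, map_inv]
      rw [show ρ g₁ * ρ g₂ = ρ g₂ * ρ g₁ from hc2]
      group
    have h5 : ⁅g₁, g₂⁆ ∈ ρ.ker := h3
    rwa [QuotientGroup.ker_mk'] at h5
  have hd1 : d ≠ 1 := by
    intro h1
    apply hC
    rw [eq_bot_iff]
    refine hCd.trans ?_
    rw [h1]
    simp
  have hod : orderOf d = 2 := orderOf_eq_prime hd2 hd1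
  have hCeq : commutator X = zpowers d := by
    apply le_antisymm hCd
    rw [zpowers_le]
    exact Subgroup.commutator_mem_commutator (mem_top a) (mem_top y)
  have hcard : Nat.card X = 8 := by
    have h1 := (commutator X).card_mul_index
    rw [h4, hCeq, Nat.card_zpowers, hod] at h1
    omega
  have hoa : orderOf a = 4 := by
    have h1 := (zpowers a).card_mul_index
    rw [ha, hcard, Nat.card_zpowers] at h1
    omega
  have hoy4 : orderOf y = 4 := hoy.trans hoa
  have hconj : y * a * y⁻¹ = a⁻¹ := by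
    rcases conj_order_four hX hKn (mem_zpowers a) hoa y with h1 | h1
    · exfalso
      apply hd1
      rw [hd, commutatorElement_eq_one_iff_mul_comm]
      exact (Cfsg.Agent.Lib.PGroups.CentralizerIndex.comm_of_conj_eq h1).symm
    · exact h1
  have hyy : y ^ 2 = a ^ 2 := by
    rw [pow_two]
    obtain ⟨i, hi⟩ := mem_zpowers_iff.1 hy2
    have hne : y * y ≠ 1 := by
      intro h1
      have h2 : y ^ 2 = 1 := by rw [pow_two]; exact h1
      have h3 := orderOf_dvd_of_pow_eq_one h2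
      rw [hoy4] at h3
      omega
    have hfour : y ^ 4 = 1 := by rw [← hoy4, pow_orderOf_eq_one]
    have hsq : (a ^ i) ^ 2 = 1 := by
      rw [hi, ← pow_two, ← pow_mul]
      exact hfour
    have hoa' : orderOf a = 2 ^ 2 := hoa
    have h3 : (2 : ℤ) ^ 2 ∣ i * 2 := by
      rw [← zpow_eq_one_iff_dvd hoa', zpow_mul, zpow_ofNat]
      exact hsq
    have hi0 : ¬ (2 : ℤ) ^ 2 ∣ i := by
      intro h5
      apply hne
      rw [← hi]
      exact (zpow_eq_one_iff_dvd hoa' i).2 h5
    have h6 : a ^ i = a ^ (2 : ℤ) := by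
      rw [zpow_eq_zpow_iff_dvd hoa']
      omega
    rw [← hi, h6, zpow_ofNat]
  obtain ⟨φ⟩ := nonempty_quaternion_equiv (m := 2) (a := a) (y := y) hoa hyy hconj hyK hcard
  exact ⟨φ.symm⟩

/-- S1896. -/
theorem main (hX : IsPGroup 2 X) (hm : Cfsg.IsMetacyclic X) (hA : ¬ IsPGroup 2 (MulAut X)) :
    Nonempty (X ≃* QuaternionGroup 2) ∨
      ∃ n : ℕ, Nonempty (X ≃* Multiplicative (ZMod (2 ^ n)) × Multiplicative (ZMod (2 ^ n))) := by
  haveI : Fact (Nat.Prime 2) := ⟨Nat.prime_two⟩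
  obtain ⟨σ, hσ1, hodd⟩ := exists_odd_aut hA
  have H := no_invariant_max hX (index_frattini_le hX hm) hσ1 hodd
  obtain ⟨g, h, -, hCg, hform⟩ := exists_gens hm
  let f : X →* Abelianization X := Abelianization.of
  have hf : Function.Surjective f := fun q => QuotientGroup.induction_on q (fun g => ⟨g, rfl⟩)
  haveI : Finite (Abelianization X) := Finite.of_surjective f hf
  have hB : IsPGroup 2 (Abelianization X) := hX.of_surjective f hf
  have hgenB : ∀ y : Abelianization X, ∃ i j : ℤ, y = f h ^ i * f g ^ j := by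
    intro y
    obtain ⟨x, rfl⟩ := hf y
    obtain ⟨i, j, hij⟩ := hform x
    exact ⟨j, i, by rw [hij, map_mul, map_zpow, map_zpow]⟩
  obtain ⟨u, v, ⟨m, hu⟩, ⟨n, hv⟩, gen, ind⟩ := exists_basis hB _ _ hgenB
  have hmn : m = n := by
    apply le_antisymm
    · exact not_lt.1 (not_lt_of_basis (σ := σ) H hu hv gen)
    · exact not_lt.1 (not_lt_of_basis (σ := σ) H hv hu (fun y => by
        obtain ⟨i, j, hij⟩ := gen y
        exact ⟨j, i, by rw [hij, mul_comm]⟩))
  subst hmn
  obtain ⟨φ⟩ := equiv_of_basis hu hv gen ind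
  by_cases hC : commutator X = ⊥
  · right
    refine ⟨m, ?_⟩
    have hinj : Function.Injective f := by
      rw [injective_iff_map_eq_one]
      intro x hx
      have h1 : x ∈ f.ker := hx
      rw [Abelianization.ker_of, hC, Subgroup.mem_bot] at h1
      exact h1
    exact ⟨(MulEquiv.ofBijective f ⟨hinj, hf⟩).trans φ⟩
  · left
    haveI : NeZero (2 ^ m) := ⟨by positivity⟩
    have hcardB : Nat.card (Abelianization X) = 2 ^ m * 2 ^ m := by
      rw [Nat.card_congr φ.toEquiv, Nat.card_prod, Nat.card_eq_fintype_card (α := Multiplicative _),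
        Fintype.card_multiplicative, ZMod.card]
    have hidx : (commutator X).index = 2 ^ m * 2 ^ m := by
      rw [← hcardB]
      rfl
    rcases Nat.lt_or_ge m 2 with hlt | hge
    · have hm' : m = 0 ∨ m = 1 := by omega
      rcases hm' with rfl | rfl
      · exfalso
        have h1 : commutator X = ⊤ := Subgroup.index_eq_one.1 (by rw [hidx]; norm_num)
        haveI := hX.isNilpotent
        have h2 := Cfsg.Agent.Lib.PGroups.LowerCentral.commutator_top_lt (⊤ : Subgroup X) (by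
          intro h3
          apply hC
          rw [h1, h3])
        rw [← _root_.commutator_def, h1] at h2
        exact lt_irrefl _ h2
      · exact quaternion_of_index_four hX H (by rw [hidx]; norm_num) hC
    · exact (false_of_two_le hX H hCg hform hu hv gen ind hge hC).elim

end Cfsg.Agent.Lib.PGroups.MetacyclicAut
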