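import Cfsg.Prelude.Def_CaseTheorems
import Cfsg.Agent.Lib.TwoFusion.SecRank
import Cfsg.Agent.Lib.PGroups.Basic
import Cfsg.Agent.Lib.QuadAct.Basic

/-!
# Centralizers of central involutions of normal subgroups, in 2-groups of small sectional rank
-/

set_option autoImplicit false

namespace Cfsg.Agent.Lib.PGroups.CentralizerIndex

open Cfsg.Agent.Lib.TwoFusion.SecRank (exists_mul_of_mem_sup relIndex_le_of_fun exists_step
  sectional_of_secBd SecBd card_eq_relIndex_mul_inf)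

variable {S : Type*} [Group S]

/-- `H/K` is a section which is elementary abelian. -/
structure Sec (H K : Subgroup S) : Prop where
  le : K ≤ H
  comm : ∀ x ∈ H, ∀ y ∈ H, x * y * x⁻¹ * y⁻¹ ∈ K
  sq : ∀ x ∈ H, x * x ∈ K

theorem card_le_of_sectional [Finite S] {k : ℕ} (hr : Cfsg.SectionalPRankLE 2 k S)
    {H K : Subgroup S} (s : Sec H K) : Nat.card H ≤ 2 ^ k * Nat.card K := by
  have hN : (K.subgroupOf H).Normal := ⟨fun n hn g => by
    rw [Subgroup.mem_subgroupOf] at hn ⊢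
    have h1 := s.comm g g.2 n (s.le hn)
    have h2 : ((g * n * g⁻¹ : H) : S) = (g : S) * n * (g : S)⁻¹ * (n : S)⁻¹ * n := by simp
    rw [h2]
    exact K.mul_mem h1 hn⟩
  have h1 := hr H (K.subgroupOf H) ⊤ ⟨⟨by
      rintro ⟨a, _⟩ ⟨b, _⟩
      apply Subtype.ext
      obtain ⟨a, rfl⟩ := QuotientGroup.mk_surjective a
      obtain ⟨b, rfl⟩ := QuotientGroup.mk_surjective b
      change ((a : H ⧸ K.subgroupOf H)) * b = b * a
      rw [← QuotientGroup.mk_mul, ← QuotientGroup.mk_mul, QuotientGroup.eq, Subgroup.mem_subgroupOf]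
      have h3 := s.comm _ (H.inv_mem b.2) _ (H.inv_mem a.2)
      have h4 : (((a * b)⁻¹ * (b * a) : H) : S) = (b : S)⁻¹ * (a : S)⁻¹ * ((b : S)⁻¹)⁻¹ * ((a : S)⁻¹)⁻¹ := by
        simp [mul_assoc]
      rw [h4]
      exact h3⟩⟩ (by
      rintro a -
      obtain ⟨a, rfl⟩ := QuotientGroup.mk_surjective a
      rw [← QuotientGroup.mk_pow, QuotientGroup.eq_one_iff, Subgroup.mem_subgroupOf, sq]
      exact s.sq _ a.2)
  rw [Subgroup.card_top] at h1
  have h2 := Subgroup.card_eq_card_quotient_mul_card_subgroup (K.subgroupOf H)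
  have h3 : Nat.card (K.subgroupOf H) = Nat.card K :=
    Nat.card_congr (Subgroup.subgroupOfEquivOfLe s.le).toEquiv
  rw [h2, h3]
  exact Nat.mul_le_mul_right _ h1

theorem Sec.sup {H₁ K₁ H₂ K₂ : Subgroup S} (s₁ : Sec H₁ K₁) (s₂ : Sec H₂ K₂)
    (hc : ∀ a ∈ H₁, ∀ b ∈ H₂, a * b = b * a) : Sec (H₁ ⊔ H₂) (K₁ ⊔ K₂) := by
  refine ⟨sup_le_sup s₁.le s₂.le, ?_, ?_⟩
  · intro x hx y hy
    obtain ⟨a, ha, b, hb, rfl⟩ := exists_mul_of_mem_sup hc hx
    obtain ⟨c, hc', d, hd, rfl⟩ := exists_mul_of_mem_sup hc hy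
    have h1 : b * c = c * b := (hc c hc' b hb).symm
    have h2 : (b * d * b⁻¹) * a⁻¹ = a⁻¹ * (b * d * b⁻¹) :=
      (hc a⁻¹ (H₁.inv_mem ha) _ (H₂.mul_mem (H₂.mul_mem hb hd) (H₂.inv_mem hb))).symm
    have h3 : (b * d * b⁻¹ * d⁻¹) * c⁻¹ = c⁻¹ * (b * d * b⁻¹ * d⁻¹) :=
      (hc c⁻¹ (H₁.inv_mem hc') _
        (H₂.mul_mem (H₂.mul_mem (H₂.mul_mem hb hd) (H₂.inv_mem hb)) (H₂.inv_mem hd))).symm
    have key : a * b * (c * d) * (a * b)⁻¹ * (c * d)⁻¹
        = (a * c * a⁻¹ * c⁻¹) * (b * d * b⁻¹ * d⁻¹) := by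
      calc a * b * (c * d) * (a * b)⁻¹ * (c * d)⁻¹
          = a * (b * c) * d * b⁻¹ * a⁻¹ * d⁻¹ * c⁻¹ := by group
        _ = a * c * (b * d * b⁻¹ * a⁻¹) * d⁻¹ * c⁻¹ := by rw [h1]; group
        _ = a * c * (a⁻¹ * (b * d * b⁻¹)) * d⁻¹ * c⁻¹ := by rw [h2]
        _ = a * c * a⁻¹ * ((b * d * b⁻¹ * d⁻¹) * c⁻¹) := by group
        _ = a * c * a⁻¹ * (c⁻¹ * (b * d * b⁻¹ * d⁻¹)) := by rw [h3]
        _ = _ := by group
    rw [key]
    exact (K₁ ⊔ K₂).mul_mem (Subgroup.mem_sup_left (s₁.comm a ha c hc'))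
      (Subgroup.mem_sup_right (s₂.comm b hb d hd))
  · intro x hx
    obtain ⟨a, ha, b, hb, rfl⟩ := exists_mul_of_mem_sup hc hx
    have key : a * b * (a * b) = (a * a) * (b * b) := by
      calc a * b * (a * b) = a * (b * a) * b := by group
        _ = a * (a * b) * b := by rw [hc a ha b hb]
        _ = _ := by group
    rw [key]
    exact (K₁ ⊔ K₂).mul_mem (Subgroup.mem_sup_left (s₁.sq a ha)) (Subgroup.mem_sup_right (s₂.sq b hb))

theorem card_sup_of_comm [Finite S] {H₁ H₂ : Subgroup S} (hc : ∀ a ∈ H₁, ∀ b ∈ H₂, a * b = b * a)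
    (hi : H₁ ⊓ H₂ = ⊥) : Nat.card (H₁ ⊔ H₂ : Subgroup S) = Nat.card H₁ * Nat.card H₂ := by
  have h1 := Cfsg.Agent.Lib.QuadAct.Basic.card_sup_mul_card_inf_of_le_normalizer H₁ H₂ (by
    intro a ha
    rw [Subgroup.mem_normalizer_iff]
    intro b
    constructor
    · intro hb
      have : a * b * a⁻¹ = b := by rw [hc a ha b hb]; group
      rwa [this]
    · intro hb
      have h2 : b = a⁻¹ * (a * b * a⁻¹) * a := by group
      have h3 : a⁻¹ * (a * b * a⁻¹) * a = a * b * a⁻¹ := by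
        rw [hc a⁻¹ (H₁.inv_mem ha) _ hb]; group
      rw [h2, h3]
      exact hb)
  rw [hi, Subgroup.card_bot, mul_one] at h1
  exact h1

/-- Combining two sections. -/
theorem card_sec_sup [Finite S] {H₁ K₁ H₂ K₂ : Subgroup S} (s₁ : Sec H₁ K₁) (s₂ : Sec H₂ K₂)
    (hc : ∀ a ∈ H₁, ∀ b ∈ H₂, a * b = b * a) (hi : H₁ ⊓ H₂ = ⊥) {a b : ℕ}
    (ha : a * Nat.card K₁ ≤ Nat.card H₁) (hb : b * Nat.card K₂ ≤ Nat.card H₂) :
    (a * b) * Nat.card (K₁ ⊔ K₂ : Subgroup S) ≤ Nat.card (H₁ ⊔ H₂ : Subgroup S) := by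
  have h1 : K₁ ⊓ K₂ = ⊥ := by
    rw [eq_bot_iff, ← hi]
    exact inf_le_inf s₁.le s₂.le
  rw [card_sup_of_comm hc hi, card_sup_of_comm (fun x hx y hy => hc x (s₁.le hx) y (s₂.le hy)) h1]
  calc a * b * (Nat.card K₁ * Nat.card K₂) = (a * Nat.card K₁) * (b * Nat.card K₂) := by ring
    _ ≤ _ := Nat.mul_le_mul ha hb

/-- Conjugate of a subgroup. -/
def conjS (g : S) (P : Subgroup S) : Subgroup S := P.map (MulAut.conj g).toMonoidHom

theorem mem_conjS {g x : S} {P : Subgroup S} : x ∈ conjS g P ↔ g⁻¹ * x * g ∈ P := by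
  constructor
  · rintro ⟨p, hp, rfl⟩
    simpa [mul_assoc] using hp
  · intro h
    exact ⟨g⁻¹ * x * g, h, by simp [mul_assoc]⟩

theorem conj_mem_conjS {g x : S} {P : Subgroup S} (h : x ∈ P) : g * x * g⁻¹ ∈ conjS g P := by
  rw [mem_conjS]
  simpa [mul_assoc] using h

theorem card_conjS (g : S) (P : Subgroup S) : Nat.card (conjS g P) = Nat.card P :=
  Subgroup.card_map_of_injective (MulEquiv.injective _)

theorem conjS_mono (g : S) {P Q : Subgroup S} (h : P ≤ Q) : conjS g P ≤ conjS g Q :=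
  Subgroup.map_mono h

theorem conjS_eq_of_mem_normalizer {g : S} {C : Subgroup S} (hg : g ∈ Subgroup.normalizer (C : Set S)) :
    conjS g C = C := by
  ext x
  rw [mem_conjS]
  rw [Subgroup.mem_normalizer_iff] at hg
  rw [hg (g⁻¹ * x * g)]
  have : g * (g⁻¹ * x * g) * g⁻¹ = x := by group
  change _ ↔ x ∈ (C : Set S)
  rw [this]
  rfl

theorem Sec.conj {H K : Subgroup S} (s : Sec H K) (g : S) : Sec (conjS g H) (conjS g K) := by
  refine ⟨conjS_mono g s.le, ?_, ?_⟩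
  · intro x hx y hy
    rw [mem_conjS] at hx hy ⊢
    have := s.comm _ hx _ hy
    convert this using 1
    group
  · intro x hx
    rw [mem_conjS] at hx ⊢
    have := s.sq _ hx
    convert this using 1
    group

/-- The data attached to a nonabelian subgroup with centre of order two. -/
structure ZData (P : Subgroup S) (z : S) : Prop where
  mem : z ∈ P
  ne : z ≠ 1
  cen : ∀ x ∈ P, x * z = z * x
  uniq : ∀ w ∈ P, (∀ x ∈ P, w * x = x * w) → w = 1 ∨ w = z
  nt : ∀ N : Subgroup S, N ≤ P → N ≠ ⊥ → (∀ x ∈ P, ∀ n ∈ N, x * n * x⁻¹ ∈ N) → z ∈ N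
  ex : ∃ x ∈ P, x ≠ 1 ∧ x ≠ z
  sec : ∃ K : Subgroup S, Sec P K ∧ 4 * Nat.card K ≤ Nat.card P

theorem ZData.sq_eq {P : Subgroup S} {z : S} (h : ZData P z) : z * z = 1 := by
  rcases h.uniq (z * z) (P.mul_mem h.mem h.mem) (fun x hx => by
    rw [mul_assoc, ← h.cen x hx, ← mul_assoc, ← h.cen x hx, mul_assoc]) with h1 | h1
  · exact h1
  · exact absurd (by simpa using h1) h.ne

theorem ZData.conj {P : Subgroup S} {z : S} (h : ZData P z) (g : S) :
    ZData (conjS g P) (g * z * g⁻¹) := by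
  refine ⟨conj_mem_conjS h.mem, ?_, ?_, ?_, ?_, ?_, ?_⟩
  · intro h1
    exact h.ne (by simpa using h1)
  · intro x hx
    have h1 := h.cen _ (mem_conjS.1 hx)
    calc x * (g * z * g⁻¹) = g * ((g⁻¹ * x * g) * z) * g⁻¹ := by group
      _ = g * (z * (g⁻¹ * x * g)) * g⁻¹ := by rw [h1]
      _ = _ := by group
  · intro w hw hc
    have h1 : ∀ x ∈ P, (g⁻¹ * w * g) * x = x * (g⁻¹ * w * g) := by
      intro x hx
      have h2 := hc _ (conj_mem_conjS (g := g) hx)
      calc (g⁻¹ * w * g) * x = g⁻¹ * (w * (g * x * g⁻¹)) * g := by group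
        _ = g⁻¹ * ((g * x * g⁻¹) * w) * g := by rw [h2]
        _ = _ := by group
    rcases h.uniq _ (mem_conjS.1 hw) h1 with h3 | h3
    · left
      have : w = g * (g⁻¹ * w * g) * g⁻¹ := by group
      rw [this, h3]
      group
    · right
      have : w = g * (g⁻¹ * w * g) * g⁻¹ := by group
      rw [this, h3]
  · intro N hN hne hnorm
    have h1 : z ∈ conjS g⁻¹ N := by
      apply h.nt
      · intro x hx
        rw [mem_conjS] at hx
        have := hN hx
        rw [mem_conjS] at this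
        convert this using 1
        group
      · intro hb
        apply hne
        rw [eq_bot_iff]
        intro n hn
        have h2 : g⁻¹ * n * g ∈ conjS g⁻¹ N := by
          rw [mem_conjS]
          convert hn using 1
          group
        rw [hb, Subgroup.mem_bot] at h2
        have : n = g * (g⁻¹ * n * g) * g⁻¹ := by group
        rw [this, h2]
        simp
      · intro x hx n hn
        rw [mem_conjS] at hn ⊢
        have := hnorm _ (conj_mem_conjS (g := g) hx) _ hn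
        convert this using 1
        group
    rw [mem_conjS] at h1
    simpa using h1
  · obtain ⟨x, hx, h1, h2⟩ := h.ex
    refine ⟨g * x * g⁻¹, conj_mem_conjS hx, ?_, ?_⟩
    · intro h3
      exact h1 (by simpa using h3)
    · intro h3
      exact h2 (by simpa using h3)
  · obtain ⟨K, hK, hc⟩ := h.sec
    refine ⟨conjS g K, hK.conj g, ?_⟩
    rwa [card_conjS, card_conjS]

/-- Obtain the data from the hypotheses on the centre. -/
theorem exists_zdata [Finite S] (h2 : IsPGroup 2 S) {P : Subgroup S} (hP : ¬ IsMulCommutative P)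
    (hZ : Nat.card (Subgroup.center P) = 2) :
    ∃ z, ZData P z ∧ ∀ s, s ∈ Subgroup.centralizer
      (((Subgroup.center P).map P.subtype : Subgroup S) : Set S) ↔ s * z = z * s := by
  haveI : Fact (Nat.Prime 2) := ⟨Nat.prime_two⟩
  have hPp : IsPGroup 2 P := h2.to_subgroup P
  obtain ⟨c, hc1, hcu⟩ := (Nat.card_eq_two_iff' (1 : Subgroup.center P)).1 hZ
  have hcu' : ∀ w : P, w ∈ Subgroup.center P → w = 1 ∨ w = c := by
    intro w hw
    by_cases h1 : (⟨w, hw⟩ : Subgroup.center P) = 1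
    · left
      exact congrArg Subtype.val h1
    · right
      exact congrArg Subtype.val (hcu ⟨w, hw⟩ h1)
  have hc1' : ((c : P) : S) ≠ 1 := by
    intro h3
    apply hc1
    apply Subtype.ext
    apply Subtype.ext
    exact h3
  have hcen : ∀ x ∈ P, x * ((c : P) : S) = ((c : P) : S) * x := by
    intro x hx
    have := (Subgroup.mem_center_iff.1 c.2) ⟨x, hx⟩
    exact congrArg Subtype.val this
  refine ⟨((c : P) : S), ⟨(c : P).2, hc1', hcen, ?_, ?_, ?_, ?_⟩, ?_⟩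
  · intro w hw hc
    have h3 : (⟨w, hw⟩ : P) ∈ Subgroup.center P := by
      rw [Subgroup.mem_center_iff]
      intro g
      apply Subtype.ext
      exact (hc g g.2).symm
    rcases hcu' _ h3 with h4 | h4
    · left
      exact congrArg Subtype.val h4
    · right
      exact congrArg Subtype.val h4
  · intro N hNP hne hnorm
    have hN' : (N.subgroupOf P).Normal := ⟨fun n hn g => by
      rw [Subgroup.mem_subgroupOf] at hn ⊢
      exact hnorm g g.2 n hn⟩
    have hne' : N.subgroupOf P ≠ ⊥ := by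
      intro hb
      apply hne
      rw [eq_bot_iff]
      intro n hn
      have h3 : (⟨n, hNP hn⟩ : P) ∈ N.subgroupOf P := by
        rw [Subgroup.mem_subgroupOf]
        exact hn
      rw [hb, Subgroup.mem_bot] at h3
      exact congrArg Subtype.val h3
    obtain ⟨w, hwN, hwc, hw2⟩ := Cfsg.Agent.Lib.PGroups.Basic.exists_central_orderOf_eq hPp _ hne'
    rcases hcu' w hwc with h3 | h3
    · rw [h3] at hw2
      simp at hw2
    · rw [Subgroup.mem_subgroupOf] at hwN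
      rw [h3] at hwN
      exact hwN
  · by_contra hno
    push Not at hno
    apply hP
    refine ⟨⟨?_⟩⟩
    rintro ⟨a, ha⟩ ⟨b, hb⟩
    apply Subtype.ext
    change a * b = b * a
    by_cases ha1 : a = 1
    · rw [ha1]; simp
    · rw [hno a ha ha1]
      exact (hcen b hb).symm
  · -- Frattini
    have hne : frattini P ≠ ⊤ := by
      intro h3
      have h4 : (⊥ : Subgroup P) ⊔ frattini P = ⊤ := by rw [h3]; simp
      have h5 := frattini_nongenerating h4
      apply hc1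
      have h6 : (c : P) ∈ (⊥ : Subgroup P) := by rw [h5]; exact Subgroup.mem_top _
      rw [Subgroup.mem_bot] at h6
      exact Subtype.ext h6
    have hidx : (frattini P).index ≠ 2 := by
      intro h3
      obtain ⟨a, ha⟩ := Subgroup.index_eq_two_iff.1 h3
      have h4 : Subgroup.closure ({a} : Set P) ⊔ frattini P = ⊤ := by
        rw [eq_top_iff]
        intro b _
        rcases (ha b) with ⟨h5, _⟩ | ⟨h5, _⟩
        · have : b = (b * a) * a⁻¹ := by group
          rw [this]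
          exact Subgroup.mul_mem _ (Subgroup.mem_sup_right h5)
            (Subgroup.inv_mem _ (Subgroup.mem_sup_left (Subgroup.mem_closure_singleton_self a)))
        · exact Subgroup.mem_sup_right h5
      have h5 := frattini_nongenerating h4
      apply hP
      refine ⟨⟨?_⟩⟩
      intro u v
      have hu : u ∈ Subgroup.closure ({a} : Set P) := by rw [h5]; exact Subgroup.mem_top _
      have hv : v ∈ Subgroup.closure ({a} : Set P) := by rw [h5]; exact Subgroup.mem_top _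
      obtain ⟨i, rfl⟩ := Subgroup.mem_closure_singleton.1 hu
      obtain ⟨j, rfl⟩ := Subgroup.mem_closure_singleton.1 hv
      rw [← zpow_add, ← zpow_add, add_comm]
    have hi1 : (frattini P).index ≠ 1 := fun h3 => hne (Subgroup.index_eq_one.1 h3)
    have hdvd : (frattini P).index ∣ Nat.card P := Subgroup.index_dvd_card _
    obtain ⟨n, hn⟩ := hPp.exists_card_eq
    rw [hn] at hdvd
    obtain ⟨i, hi, hi2⟩ := (Nat.dvd_prime_pow Nat.prime_two).1 hdvd
    have hi3 : 2 ≤ i := by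
      by_contra hlt
      have : i = 0 ∨ i = 1 := by omega
      rcases this with rfl | rfl
      · exact hi1 (by simpa using hi2)
      · exact hidx (by simpa using hi2)
    have hidx4 : 4 ≤ (frattini P).index := by
      rw [hi2]
      calc 4 = 2 ^ 2 := by norm_num
        _ ≤ 2 ^ i := Nat.pow_le_pow_right (by norm_num) hi3
    refine ⟨(frattini P).map P.subtype, ⟨?_, ?_, ?_⟩, ?_⟩
    · rintro _ ⟨x, _, rfl⟩
      exact x.2
    · intro x hx y hy
      refine ⟨⟨x, hx⟩ * ⟨y, hy⟩ * (⟨x, hx⟩ : P)⁻¹ * (⟨y, hy⟩ : P)⁻¹, ?_, by simp⟩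
      apply Cfsg.Agent.Lib.PGroups.Basic.commutator_le_frattini hPp
      exact Subgroup.commutator_mem_commutator (Subgroup.mem_top _) (Subgroup.mem_top _)
    · intro x hx
      refine ⟨⟨x, hx⟩ * ⟨x, hx⟩, ?_, by simp⟩
      rw [← sq]
      exact Cfsg.Agent.Lib.PGroups.Basic.pow_mem_frattini hPp _
    · rw [Subgroup.card_map_of_injective P.subtype_injective]
      calc 4 * Nat.card (frattini P) ≤ (frattini P).index * Nat.card (frattini P) :=
            Nat.mul_le_mul_right _ hidx4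
        _ = Nat.card P := Subgroup.index_mul_card _
  · intro s
    rw [Subgroup.mem_centralizer_iff]
    constructor
    · intro h3
      exact (h3 _ ⟨c, c.2, rfl⟩).symm
    · rintro h3 _ ⟨w, hw, rfl⟩
      rcases hcu' _ hw with h4 | h4
      · rw [h4]; simp
      · rw [h4]; exact h3.symm

/-- Two data with mutual normalization commute. -/
theorem comm_of_zdata {P Q : Subgroup S} {z w : S} (hP : ZData P z) (hQ : ZData Q w) (hne : z ≠ w)
    (hzQ : ∀ x ∈ Q, x * z = z * x) (hPQ : ∀ a ∈ P, ∀ b ∈ Q, a * b * a⁻¹ ∈ Q)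
    (hQP : ∀ b ∈ Q, ∀ a ∈ P, b * a * b⁻¹ ∈ P) :
    P ⊓ Q = ⊥ ∧ ∀ a ∈ P, ∀ b ∈ Q, a * b = b * a := by
  have h1 : P ⊓ Q = ⊥ := by
    by_contra hb
    have h2 := hP.nt (P ⊓ Q) inf_le_left hb
      (fun x hx n hn => ⟨P.mul_mem (P.mul_mem hx hn.1) (P.inv_mem hx), hPQ x hx n hn.2⟩)
    rcases hQ.uniq z h2.2 (fun x hx => (hzQ x hx).symm) with h3 | h3
    · exact hP.ne h3
    · exact hne h3
  refine ⟨h1, fun a ha b hb => ?_⟩
  have h2 : a * b * a⁻¹ * b⁻¹ ∈ P ⊓ Q := ⟨by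
      have : a * b * a⁻¹ * b⁻¹ = a * (b * a⁻¹ * b⁻¹) := by group
      rw [this]
      exact P.mul_mem ha (hQP b hb _ (P.inv_mem ha)), Q.mul_mem (hPQ a ha b hb) (Q.inv_mem hb)⟩
  rw [h1, Subgroup.mem_bot] at h2
  have : a * b = (a * b * a⁻¹ * b⁻¹) * (b * a) := by group
  rw [this, h2, one_mul]

theorem sup_inf_eq_bot {P₁ P₂ Q : Subgroup S} {z₁ z₂ w : S} (h₁ : ZData P₁ z₁) (h₂ : ZData P₂ z₂)
    (hQ : ZData Q w) (c12 : ∀ a ∈ P₁, ∀ b ∈ P₂, a * b = b * a)
    (hw1 : ∀ x ∈ P₁, x * w = w * x) (hw2 : ∀ x ∈ P₂, x * w = w * x)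
    (hn1 : ∀ b ∈ Q, ∀ a ∈ P₁, b * a * b⁻¹ ∈ P₁) (hn2 : ∀ b ∈ Q, ∀ a ∈ P₂, b * a * b⁻¹ ∈ P₂)
    (hne1 : w ≠ z₁) (hne2 : w ≠ z₂) (hne3 : w ≠ z₁ * z₂) : (P₁ ⊔ P₂) ⊓ Q = ⊥ := by
  by_contra hb
  have h3 := hQ.nt ((P₁ ⊔ P₂) ⊓ Q) inf_le_right hb (fun x hx n hn => ⟨by
    obtain ⟨a, ha, b, hb', hab⟩ := exists_mul_of_mem_sup c12 hn.1
    rw [hab]
    have : x * (a * b) * x⁻¹ = (x * a * x⁻¹) * (x * b * x⁻¹) := by group
    rw [this]
    exact Subgroup.mul_mem _ (Subgroup.mem_sup_left (hn1 x hx a ha))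
      (Subgroup.mem_sup_right (hn2 x hx b hb')), Q.mul_mem (Q.mul_mem hx hn.2) (Q.inv_mem hx)⟩)
  obtain ⟨a, ha, b, hb', hab⟩ := exists_mul_of_mem_sup c12 h3.1
  have ha1 : ∀ x ∈ P₁, a * x = x * a := by
    intro x hx
    have h4 := hw1 x hx
    rw [hab] at h4
    have h5 := c12 x hx b hb'
    have : a * x * b = x * a * b := by
      calc a * x * b = a * (x * b) := by group
        _ = a * (b * x) := by rw [h5]
        _ = (a * b) * x := by group
        _ = x * (a * b) := h4.symm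
        _ = _ := by group
    exact mul_right_cancel this
  have hb1 : ∀ x ∈ P₂, b * x = x * b := by
    intro x hx
    have h4 := hw2 x hx
    rw [hab] at h4
    have h5 := c12 a ha x hx
    have : a * (b * x) = a * (x * b) := by
      calc a * (b * x) = (a * b) * x := by group
        _ = x * (a * b) := h4.symm
        _ = (x * a) * b := by group
        _ = (a * x) * b := by rw [h5]
        _ = _ := by group
    exact mul_left_cancel this
  rcases h₁.uniq a ha ha1 with h5 | h5 <;> rcases h₂.uniq b hb' hb1 with h6 | h6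
  · exact hQ.ne (by simpa [h5, h6] using hab)
  · exact hne2 (by simpa [h5, h6] using hab)
  · exact hne1 (by simpa [h5, h6] using hab)
  · exact hne3 (by simpa [h5, h6] using hab)

theorem false_of_three [Finite S] (hr : Cfsg.SectionalPRankLE 2 4 S) {P₁ P₂ Q : Subgroup S}
    {z₁ z₂ w : S} (h₁ : ZData P₁ z₁) (h₂ : ZData P₂ z₂) (hQ : ZData Q w)
    (c12 : ∀ a ∈ P₁, ∀ b ∈ P₂, a * b = b * a) (i12 : P₁ ⊓ P₂ = ⊥)
    (c13 : ∀ a ∈ P₁, ∀ b ∈ Q, a * b = b * a) (c23 : ∀ a ∈ P₂, ∀ b ∈ Q, a * b = b * a)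
    (i3 : (P₁ ⊔ P₂) ⊓ Q = ⊥) : False := by
  obtain ⟨K₁, s₁, b₁⟩ := h₁.sec
  obtain ⟨K₂, s₂, b₂⟩ := h₂.sec
  obtain ⟨K₃, s₃, b₃⟩ := hQ.sec
  have s12 := s₁.sup s₂ c12
  have c123 : ∀ a ∈ P₁ ⊔ P₂, ∀ b ∈ Q, a * b = b * a := by
    intro a ha b hb
    obtain ⟨u, hu, v, hv, rfl⟩ := exists_mul_of_mem_sup c12 ha
    calc u * v * b = u * (v * b) := by group
      _ = u * (b * v) := by rw [c23 v hv b hb]
      _ = (u * b) * v := by group
      _ = (b * u) * v := by rw [c13 u hu b hb]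
      _ = _ := by group
  have b12 := card_sec_sup s₁ s₂ c12 i12 b₁ b₂
  have b123 := card_sec_sup s12 s₃ c123 i3 b12 b₃
  have hle := card_le_of_sectional hr (s12.sup s₃ c123)
  have hpos : 0 < Nat.card (K₁ ⊔ K₂ ⊔ K₃ : Subgroup S) := Nat.card_pos
  omega

/-- A subgroup normal in the centralizer of its central involution. -/
structure Nice (C Q : Subgroup S) (w : S) : Prop where
  zd : ZData Q w
  c : ∀ s, s ∈ C ↔ s * w = w * s
  le : Q ≤ C
  nor : ∀ s ∈ C, ∀ x ∈ Q, s * x * s⁻¹ ∈ Q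

theorem Nice.conj {C Q : Subgroup S} {w : S} (h : Nice C Q w) (g : S) :
    Nice (conjS g C) (conjS g Q) (g * w * g⁻¹) := by
  refine ⟨h.zd.conj g, ?_, conjS_mono g h.le, ?_⟩
  · intro s
    rw [mem_conjS, h.c]
    constructor
    · intro h1
      calc s * (g * w * g⁻¹) = g * ((g⁻¹ * s * g) * w) * g⁻¹ := by group
        _ = g * (w * (g⁻¹ * s * g)) * g⁻¹ := by rw [h1]
        _ = _ := by group
    · intro h1
      calc (g⁻¹ * s * g) * w = g⁻¹ * (s * (g * w * g⁻¹)) * g := by group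
        _ = g⁻¹ * ((g * w * g⁻¹) * s) * g := by rw [h1]
        _ = _ := by group
  · intro s hs x hx
    rw [mem_conjS] at hs hx ⊢
    have := h.nor _ hs _ hx
    convert this using 1
    group

theorem Nice.conj' {C Q : Subgroup S} {w g : S} (h : Nice C Q w)
    (hg : g ∈ Subgroup.normalizer (C : Set S)) : Nice C (conjS g Q) (g * w * g⁻¹) := by
  have := h.conj g
  rwa [conjS_eq_of_mem_normalizer hg] at this

theorem Nice.pair {C Q₁ Q₂ : Subgroup S} {w₁ w₂ : S} (h₁ : Nice C Q₁ w₁) (h₂ : Nice C Q₂ w₂)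
    (hne : w₁ ≠ w₂) : Q₁ ⊓ Q₂ = ⊥ ∧ ∀ a ∈ Q₁, ∀ b ∈ Q₂, a * b = b * a :=
  comm_of_zdata h₁.zd h₂.zd hne (fun x hx => (h₁.c x).1 (h₂.le hx))
    (fun a ha b hb => h₂.nor a (h₁.le ha) b hb) (fun b hb a ha => h₁.nor b (h₂.le hb) a ha)

/-- Three independent conjugates are impossible. -/
theorem Nice.false_of_three [Finite S] (hr : Cfsg.SectionalPRankLE 2 4 S) {C Q₁ Q₂ Q₃ : Subgroup S}
    {w₁ w₂ w₃ : S} (h₁ : Nice C Q₁ w₁) (h₂ : Nice C Q₂ w₂) (h₃ : Nice C Q₃ w₃)
    (h12 : w₁ ≠ w₂) (h13 : w₃ ≠ w₁) (h23 : w₃ ≠ w₂) (h123 : w₃ ≠ w₁ * w₂) : False := by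
  have p12 := h₁.pair h₂ h12
  have p13 := h₁.pair h₃ h13.symm
  have p23 := h₂.pair h₃ h23.symm
  refine CentralizerIndex.false_of_three hr h₁.zd h₂.zd h₃.zd p12.2 p12.1 p13.2 p23.2
    (sup_inf_eq_bot h₁.zd h₂.zd h₃.zd p12.2 (fun x hx => (h₃.c x).1 (h₁.le hx))
      (fun x hx => (h₃.c x).1 (h₂.le hx)) (fun b hb a ha => h₁.nor b (h₃.le hb) a ha)
      (fun b hb a ha => h₂.nor b (h₃.le hb) a ha) h13 h23 h123)

/-- The sectional rank of a subgroup with a commuting conjugate. -/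
theorem sectional_of_conj [Finite S] (hr : Cfsg.SectionalPRankLE 2 4 S) {P : Subgroup S} {g : S}
    (hc : ∀ a ∈ P, ∀ b ∈ conjS g P, a * b = b * a) (hi : P ⊓ conjS g P = ⊥) :
    Cfsg.SectionalPRankLE 2 2 P := by
  apply sectional_of_secBd
  intro H K hKH hcomm hsq
  let H' := H.map P.subtype
  let K' := K.map P.subtype
  have hH'P : H' ≤ P := by
    rintro _ ⟨x, _, rfl⟩
    exact x.2
  have s : Sec H' K' := by
    refine ⟨Subgroup.map_mono hKH, ?_, ?_⟩
    · rintro _ ⟨x, hx, rfl⟩ _ ⟨y, hy, rfl⟩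
      exact ⟨_, hcomm x hx y hy, by simp⟩
    · rintro _ ⟨x, hx, rfl⟩
      exact ⟨_, hsq x hx, by simp⟩
  have hc' : ∀ a ∈ H', ∀ b ∈ conjS g H', a * b = b * a := fun a ha b hb =>
    hc a (hH'P ha) b (conjS_mono g hH'P hb)
  have hi' : H' ⊓ conjS g H' = ⊥ := by
    rw [eq_bot_iff, ← hi]
    exact inf_le_inf hH'P (conjS_mono g hH'P)
  have hi'' : K' ⊓ conjS g K' = ⊥ := by
    rw [eq_bot_iff, ← hi']
    exact inf_le_inf s.le (conjS_mono g s.le)
  have hle := card_le_of_sectional hr (s.sup (s.conj g) hc')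
  rw [card_sup_of_comm hc' hi', card_sup_of_comm (fun a ha b hb =>
    hc' a (s.le ha) b (conjS_mono g s.le hb)) hi'', card_conjS, card_conjS] at hle
  have e1 : Nat.card H' = Nat.card H := Subgroup.card_map_of_injective P.subtype_injective
  have e2 : Nat.card K' = Nat.card K := Subgroup.card_map_of_injective P.subtype_injective
  rw [e1, e2] at hle
  by_contra hlt
  push Not at hlt
  nlinarith

theorem comm_of_conj_eq {a b : S} (h : a * b * a⁻¹ = b) : a * b = b * a := by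
  calc a * b = (a * b * a⁻¹) * a := by group
    _ = b * a := by rw [h]

/-- Central element of a permuted pair. -/
theorem pair_central {y y₁ q : S} (hy : q * y * q⁻¹ = y ∨ q * y * q⁻¹ = y₁)
    (hy1 : q * y₁ * q⁻¹ = y ∨ q * y₁ * q⁻¹ = y₁) (hne : y ≠ y₁) (hc : y * y₁ = y₁ * y) :
    q * (y * y₁) * q⁻¹ = y * y₁ := by
  have h1 : q * (y * y₁) * q⁻¹ = (q * y * q⁻¹) * (q * y₁ * q⁻¹) := by group
  rw [h1]
  rcases hy with h2 | h2 <;> rcases hy1 with h3 | h3
  · exact absurd (MulAut.conj q).injective (fun hi => hne (hi (by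
      simp only [MulAut.conj_apply]; rw [h2, h3])))
  · rw [h2, h3]
  · rw [h2, h3, hc]
  · exact absurd (MulAut.conj q).injective (fun hi => hne (hi (by
      simp only [MulAut.conj_apply]; rw [h2, h3])))

/-- Elements of `P` fix `y`. -/
theorem comm_of_pair {P N : Subgroup S} {z y y₁ g : S} (hP : ZData P z) (hPN : P ≤ N)
    (hy : ∀ q ∈ N, q * y * q⁻¹ = y ∨ q * y * q⁻¹ = y₁)
    (hy1 : ∀ q ∈ N, q * y₁ * q⁻¹ = y ∨ q * y₁ * q⁻¹ = y₁)
    (hne : y ≠ y₁) (hyy : y * y = 1) (hc : y * y₁ = y₁ * y)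
    (hnor : ∀ x ∈ P, y * x * y⁻¹ ∈ P) (hg : g ∈ N) (hgz : g * z * g⁻¹ ≠ z) :
    ∀ x ∈ P, x * y = y * x := by
  intro x hx
  by_contra hxy
  have hyi : y⁻¹ = y := by
    rw [inv_eq_iff_mul_eq_one]
    exact hyy
  have h1 : x * y * x⁻¹ = y₁ := by
    rcases hy x (hPN hx) with h2 | h2
    · exact absurd (comm_of_conj_eq h2) hxy
    · exact h2
  have ht : y * y₁ ∈ P := by
    have h2 : y * y₁ = x * (y * x⁻¹ * y⁻¹) := by
      rw [hc, ← h1, hyi]
      group
    rw [h2]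
    exact P.mul_mem hx (hnor _ (P.inv_mem hx))
  have hcen : ∀ q ∈ N, q * (y * y₁) * q⁻¹ = y * y₁ := fun q hq =>
    pair_central (hy q hq) (hy1 q hq) hne hc
  rcases hP.uniq _ ht (fun p hp => by
    have := hcen p (hPN hp)
    calc y * y₁ * p = (p * (y * y₁) * p⁻¹) * p := by rw [this]
      _ = _ := by group) with h2 | h2
  · apply hne
    have : y₁ = y * (y * y₁) := by rw [← mul_assoc, hyy, one_mul]
    rw [this, h2, mul_one]
  · apply hgz
    rw [← h2]
    exact hcen g hg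

/-- `z` commutes with `y`. -/
theorem comm_claim1 {P N : Subgroup S} {z y y₁ : S} (hP : ZData P z) (hPN : P ≤ N)
    (hy : ∀ q ∈ N, q * y * q⁻¹ = y ∨ q * y * q⁻¹ = y₁)
    (hcc : ∀ s, s * y = y * s → s * y₁ = y₁ * s) : z * y = y * z := by
  by_contra hzy
  have hz1 : z * y * z⁻¹ = y₁ := by
    rcases hy z (hPN hP.mem) with h2 | h2
    · exact absurd (comm_of_conj_eq h2) hzy
    · exact h2
  let N₀ : Subgroup S := P ⊓ Subgroup.centralizer ({y} : Set S)
  have hz0 : z ∈ N₀ := by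
    apply hP.nt N₀ inf_le_left
    · obtain ⟨x, hx, hx1, hxz⟩ := hP.ex
      by_cases hxy : x * y = y * x
      · intro hb
        have : x ∈ N₀ := ⟨hx, Subgroup.mem_centralizer_singleton_iff.2 hxy⟩
        rw [hb] at this
        exact hx1 this
      · intro hb
        have h2 : x * y * x⁻¹ = y₁ := by
          rcases hy x (hPN hx) with h2 | h2
          · exact absurd (comm_of_conj_eq h2) hxy
          · exact h2
        have h3 : z⁻¹ * x ∈ N₀ := by
          refine ⟨P.mul_mem (P.inv_mem hP.mem) hx, Subgroup.mem_centralizer_singleton_iff.2 ?_⟩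
          have h4 : x * y * x⁻¹ = z * y * z⁻¹ := by rw [h2, hz1]
          calc z⁻¹ * x * y = z⁻¹ * (x * y * x⁻¹) * x := by group
            _ = z⁻¹ * (z * y * z⁻¹) * x := by rw [h4]
            _ = _ := by group
        rw [hb, Subgroup.mem_bot] at h3
        apply hxz
        calc x = z * (z⁻¹ * x) := by group
          _ = z := by rw [h3, mul_one]
    · intro x hx n hn
      refine ⟨P.mul_mem (P.mul_mem hx hn.1) (P.inv_mem hx),
        Subgroup.mem_centralizer_singleton_iff.2 ?_⟩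
      have hn1 : n * y = y * n := Subgroup.mem_centralizer_singleton_iff.1 hn.2
      have hn2 : n * (x⁻¹ * y * x) = (x⁻¹ * y * x) * n := by
        rcases hy x⁻¹ (hPN (P.inv_mem hx)) with h2 | h2
        · rw [inv_inv] at h2
          rw [h2, hn1]
        · rw [inv_inv] at h2
          rw [h2, hcc n hn1]
      calc x * n * x⁻¹ * y = x * (n * (x⁻¹ * y * x)) * x⁻¹ := by group
        _ = x * ((x⁻¹ * y * x) * n) * x⁻¹ := by rw [hn2]
        _ = _ := by group
  exact hzy (Subgroup.mem_centralizer_singleton_iff.1 hz0.2)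

/-- The main argument. -/
theorem main_aux [Finite S] (h2 : IsPGroup 2 S) (hr : Cfsg.SectionalPRankLE 2 4 S)
    {C P : Subgroup S} {z : S} (hP : Nice C P z) (hne : C ≠ ⊤) :
    Cfsg.SectionalPRankLE 2 2 P ∧ C.index = 2 := by
  classical
  obtain ⟨g, hgC, hgN, -⟩ := exists_step h2 C hne
  set N₁ : Subgroup S := Subgroup.normalizer (C : Set S) with hN₁
  set z₁ := g * z * g⁻¹ with hz₁
  have hCN : C ≤ N₁ := Subgroup.le_normalizer
  have hzz1 : z ≠ z₁ := by
    intro h3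
    apply hgC
    rw [hP.c]
    calc g * z = (g * z * g⁻¹) * g := by group
      _ = z * g := by rw [← hz₁, ← h3]
  have hP₁ : Nice C (conjS g P) z₁ := hP.conj' hgN
  have hpair := hP.pair hP₁ hzz1
  refine ⟨sectional_of_conj hr hpair.2 hpair.1, ?_⟩
  -- the normalizer has index two
  have hthree : ∀ h ∈ N₁, h * z * h⁻¹ ∈ ({z, z₁, z * z₁} : Finset S) := by
    intro h hh
    by_contra hno
    simp only [Finset.mem_insert, Finset.mem_singleton, not_or] at hno
    exact Nice.false_of_three hr hP hP₁ (hP.conj' hh) hzz1 hno.1 hno.2.1 hno.2.2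
  have hle3 : C.relIndex N₁ ≤ 3 := by
    have h1 : C.relIndex N₁ ≤ Nat.card ({z, z₁, z * z₁} : Finset S) := by
      apply relIndex_le_of_fun C N₁ (fun h =>
        if hh : h * z * h⁻¹ ∈ ({z, z₁, z * z₁} : Finset S) then
          (⟨h * z * h⁻¹, hh⟩ : ({z, z₁, z * z₁} : Finset S))
        else ⟨z, by simp⟩)
      intro r hr' r' hr'' hf
      simp only [hthree r hr', hthree r' hr'', dif_pos, Subtype.mk.injEq] at hf
      rw [hP.c]
      calc r⁻¹ * r' * z = r⁻¹ * (r' * z * r'⁻¹) * r' := by group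
        _ = r⁻¹ * (r * z * r⁻¹) * r' := by rw [hf]
        _ = _ := by group
    refine h1.trans ?_
    rw [Nat.card_eq_fintype_card, Fintype.card_coe]
    exact Finset.card_le_three
  have hidx : C.relIndex N₁ = 2 := by
    have h1 : C.relIndex N₁ ∣ Nat.card N₁ := Subgroup.relIndex_dvd_card _ _
    obtain ⟨n, hn⟩ := (h2.to_subgroup N₁).exists_card_eq
    rw [hn] at h1
    obtain ⟨i, hi, hi2⟩ := (Nat.dvd_prime_pow Nat.prime_two).1 h1
    have hne1 : C.relIndex N₁ ≠ 1 := by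
      intro h3
      exact hgC ((Subgroup.relIndex_eq_one.1 h3) hgN)
    have hi3 : i = 1 := by
      by_contra hi1
      have hi0 : i ≠ 0 := by
        rintro rfl
        exact hne1 (by simpa using hi2)
      have hi4 : 2 ≤ i := by omega
      have : 2 ^ 2 ≤ 2 ^ i := Nat.pow_le_pow_right (by norm_num) hi4
      rw [← hi2] at this
      omega
    rw [hi2, hi3, pow_one]
  -- conjugates of `z` under the normalizer
  have hq : ∀ q ∈ N₁, q * z * q⁻¹ = z ∨ q * z * q⁻¹ = z₁ := by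
    intro q hq
    by_cases hqC : q ∈ C
    · left
      have := (hP.c q).1 hqC
      rw [this]
      group
    · right
      have h1 : (C.subgroupOf N₁).index = 2 := hidx
      have h3 := (Subgroup.mul_mem_iff_of_index_two h1 (a := ⟨g⁻¹, N₁.inv_mem hgN⟩) (b := ⟨q, hq⟩)).2
        (by
          simp only [Subgroup.mem_subgroupOf]
          constructor
          · intro h4
            exact absurd (by simpa using C.inv_mem h4) hgC
          · intro h4
            exact absurd h4 hqC)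
      rw [Subgroup.mem_subgroupOf, hP.c] at h3
      have h4 : g⁻¹ * q * z = z * (g⁻¹ * q) := h3
      have h5 : q = g * (g⁻¹ * q) := by group
      rw [hz₁]
      calc q * z * q⁻¹ = g * ((g⁻¹ * q) * z) * q⁻¹ * g⁻¹ * g := by group
        _ = g * (z * (g⁻¹ * q)) * q⁻¹ * g⁻¹ * g := by rw [h4]
        _ = g * z * g⁻¹ := by group
  have hq1 : ∀ q ∈ N₁, q * z₁ * q⁻¹ = z ∨ q * z₁ * q⁻¹ = z₁ := by
    intro q hq'
    have := hq (q * g) (N₁.mul_mem hq' hgN)
    have h3 : q * g * z * (q * g)⁻¹ = q * z₁ * q⁻¹ := by rw [hz₁]; group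
    rwa [h3] at this
  -- top
  by_cases htop : N₁ = ⊤
  · rw [htop, Subgroup.relIndex_top_right] at hidx
    exact hidx
  exfalso
  obtain ⟨g₂, hg₂N, hg₂nN, -⟩ := exists_step h2 N₁ htop
  rw [Subgroup.mem_normalizer_iff] at hg₂nN
  have hconjN : ∀ q ∈ N₁, g₂⁻¹ * q * g₂ ∈ N₁ := by
    intro q hq'
    have := (hg₂nN (g₂⁻¹ * q * g₂))
    rw [this]
    convert hq' using 1
    group
  have hconjN' : ∀ q ∈ N₁, g₂ * q * g₂⁻¹ ∈ N₁ := fun q hq' => (hg₂nN q).1 hq'
  set y := g₂ * z * g₂⁻¹ with hy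
  set y₁ := g₂ * z₁ * g₂⁻¹ with hy₁
  have hP' : Nice (conjS g₂ C) (conjS g₂ P) y := hP.conj g₂
  have hP₁' : Nice (conjS g₂ C) (conjS g₂ (conjS g P)) y₁ := hP₁.conj g₂
  have hC'N : conjS g₂ C ≤ N₁ := by
    intro c hc
    rw [mem_conjS] at hc
    have := hconjN' _ (hCN hc)
    convert this using 1
    group
  have hqy : ∀ q ∈ N₁, q * y * q⁻¹ = y ∨ q * y * q⁻¹ = y₁ := by
    intro q hq'
    have h3 : q * y * q⁻¹ = g₂ * ((g₂⁻¹ * q * g₂) * z * (g₂⁻¹ * q * g₂)⁻¹) * g₂⁻¹ := by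
      rw [hy]; group
    rw [h3]
    rcases hq _ (hconjN q hq') with h4 | h4
    · left; rw [h4]
    · right; rw [h4]
  have hqy1 : ∀ q ∈ N₁, q * y₁ * q⁻¹ = y ∨ q * y₁ * q⁻¹ = y₁ := by
    intro q hq'
    have h3 : q * y₁ * q⁻¹ = g₂ * ((g₂⁻¹ * q * g₂) * z₁ * (g₂⁻¹ * q * g₂)⁻¹) * g₂⁻¹ := by
      rw [hy₁]; group
    rw [h3]
    rcases hq1 _ (hconjN q hq') with h4 | h4
    · left; rw [h4]
    · right; rw [h4]
  have hyy1 : y ≠ y₁ := by
    intro h3
    exact hzz1 (by simpa [hy, hy₁] using h3)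
  have hcc : ∀ s, s * y = y * s → s * y₁ = y₁ * s := fun s hs =>
    (hP₁'.c s).1 ((hP'.c s).2 hs)
  have hPN : P ≤ N₁ := hP.le.trans hCN
  have hzy : z * y = y * z := comm_claim1 hP.zd hPN hqy hcc
  have hzC' : z ∈ conjS g₂ C := (hP'.c z).2 hzy
  have hyC : y ∈ C := (hP.c y).2 hzy.symm
  have hg' : g₂ * g * g₂⁻¹ ∈ N₁ := hconjN' g hgN
  have hg'y : (g₂ * g * g₂⁻¹) * y * (g₂ * g * g₂⁻¹)⁻¹ = y₁ := by
    rw [hy, hy₁, hz₁]; group
  have hgz : g * z * g⁻¹ ≠ z := fun h3 => hzz1 h3.symm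
  have hyy : y * y = 1 := hP'.zd.sq_eq
  have hyy1c : y * y₁ = y₁ * y := ((hP₁'.c y).1 (hP'.le hP'.zd.mem))
  have hzz1c : z * z₁ = z₁ * z := ((hP₁.c z).1 (hP.le hP.zd.mem))
  have c2 : ∀ x ∈ P, x * y = y * x :=
    comm_of_pair hP.zd hPN hqy hqy1 hyy1 hyy hyy1c (fun x hx => hP.nor y hyC x hx) hgN hgz
  have c3 : ∀ x ∈ conjS g₂ P, x * z = z * x :=
    comm_of_pair hP'.zd (hP'.le.trans hC'N) hq hq1 hzz1 hP.zd.sq_eq hzz1c
      (fun x hx => hP'.nor z hzC' x hx) hg' (by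
        rw [hg'y]; exact hyy1.symm)
  have c4 : ∀ x ∈ conjS g P, x * y = y * x := by
    intro x hx
    rw [mem_conjS] at hx
    have h3 := c2 _ hx
    have h4 : (g⁻¹ * x * g) * (g⁻¹ * y * g) = (g⁻¹ * y * g) * (g⁻¹ * x * g) := by
      rcases hqy g⁻¹ (N₁.inv_mem hgN) with h5 | h5
      · rw [inv_inv] at h5
        rw [h5, h3]
      · rw [inv_inv] at h5
        rw [h5, hcc _ h3]
    calc x * y = g * ((g⁻¹ * x * g) * (g⁻¹ * y * g)) * g⁻¹ := by group
      _ = g * ((g⁻¹ * y * g) * (g⁻¹ * x * g)) * g⁻¹ := by rw [h4]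
      _ = _ := by group
  have hP'C : conjS g₂ P ≤ C := fun x hx => (hP.c x).2 (c3 x hx)
  have hPC' : P ≤ conjS g₂ C := fun x hx => (hP'.c x).2 (c2 x hx)
  have hP₁C' : conjS g P ≤ conjS g₂ C := fun x hx => (hP'.c x).2 (c4 x hx)
  have hyz : y ≠ z := by
    intro h3
    apply hg₂N
    apply hCN
    rw [hP.c]
    calc g₂ * z = (g₂ * z * g₂⁻¹) * g₂ := by group
      _ = z * g₂ := by rw [← hy, h3]
  have hyz1 : y ≠ z₁ := by
    intro h3
    apply hg₂N
    rw [hN₁, Subgroup.mem_normalizer_iff]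
    intro n
    have key : ∀ s, s ∈ conjS g₂ C ↔ s ∈ C := by
      intro s
      rw [hP'.c, hP₁.c, h3]
    rw [← key (g₂ * n * g₂⁻¹), mem_conjS]
    have : g₂⁻¹ * (g₂ * n * g₂⁻¹) * g₂ = n := by group
    rw [this]
  have hyzz : y ≠ z * z₁ := by
    intro h3
    have h4 := pair_central (hq _ hg') (hq1 _ hg') hzz1 hzz1c
    rw [← h3, hg'y] at h4
    exact hyy1 h4.symm
  have p13 := comm_of_zdata hP.zd hP'.zd hyz.symm (fun x hx => c3 x hx)
    (fun a ha b hb => hP'.nor a (hPC' ha) b hb) (fun b hb a ha => hP.nor b (hP'C hb) a ha)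
  have p23 := comm_of_zdata hP₁.zd hP'.zd hyz1.symm (fun x hx => (hP₁.c x).1 (hP'C hx))
    (fun a ha b hb => hP'.nor a (hP₁C' ha) b hb) (fun b hb a ha => hP₁.nor b (hP'C hb) a ha)
  exact CentralizerIndex.false_of_three hr hP.zd hP₁.zd hP'.zd hpair.2 hpair.1 p13.2 p23.2
    (sup_inf_eq_bot hP.zd hP₁.zd hP'.zd hpair.2 c2 c4 (fun b hb a ha => hP.nor b (hP'C hb) a ha)
      (fun b hb a ha => hP₁.nor b (hP'C hb) a ha) hyz hyz1 hyzz)

/-- S4401. -/
theorem main [Finite S] (h2 : IsPGroup 2 S) (hr : Cfsg.SectionalPRankLE 2 4 S)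
    (P : Subgroup S) (hP : ¬ IsMulCommutative P) (hZP : Nat.card (Subgroup.center P) = 2)
    (S₀ : Subgroup S)
    (hS₀ : S₀ = Subgroup.centralizer (((Subgroup.center P).map P.subtype : Subgroup S) : Set S))
    (hPn : ∀ s ∈ S₀, ∀ x ∈ P, s * x * s⁻¹ ∈ P) :
    S₀ = ⊤ ∨ (Cfsg.SectionalPRankLE 2 2 P ∧ S₀.index = 2) := by
  obtain ⟨z, hz, hc⟩ := exists_zdata h2 hP hZP
  rw [← hS₀] at hc
  by_cases htop : S₀ = ⊤
  · exact Or.inl htop
  · exact Or.inr (main_aux h2 hr ⟨hz, hc, fun x hx => (hc x).2 (hz.cen x hx), hPn⟩ htop)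

end Cfsg.Agent.Lib.PGroups.CentralizerIndex
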