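import Cfsg.Agent.Lib.QuadAct.Replacement
import Cfsg.Agent.Lib.PGroups.MaxAbelian
import Cfsg.Prelude.Def_DStar

/-!
# Glauberman's `D*(S)`
-/

set_option autoImplicit false
set_option linter.unusedSectionVars false
set_option linter.unusedVariables false

namespace Cfsg.Agent.Lib.PGroups.DStar

open Subgroup
open scoped commutatorElement

variable {S : Type*} [Group S]

theorem comm_of {N : Subgroup S} (hN : IsMulCommutative N) {u v : S} (hu : u ∈ N) (hv : v ∈ N) :
    u * v = v * u :=
  Cfsg.Agent.Lib.QuadAct.Basic.comm_of_isMulCommutative hN hu hv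

/-- A generating set whose commutators centralize the group: class at most two. -/
theorem comm_gens {H : Subgroup S} {T : Set S} (hH : closure T = H)
    (h : ∀ s ∈ T, ∀ s' ∈ T, ⁅s, s'⁆ ∈ centralizer (H : Set S)) :
    ∀ g ∈ H, ∀ k ∈ H, ⁅g, k⁆ ∈ centralizer (H : Set S) := by
  subst hH
  have hcomm : ∀ {u g : S}, u ∈ centralizer ((closure T : Subgroup S) : Set S) → g ∈ closure T →
      g * u = u * g := fun {u g} hu hg => mem_centralizer_iff.mp hu g hg
  have h1 : ∀ s ∈ T, ∀ k ∈ closure T, ⁅s, k⁆ ∈ centralizer ((closure T : Subgroup S) : Set S) := by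
    intro s hs k hk
    induction hk using closure_induction with
    | mem x hx => exact h s hs x hx
    | one => simp
    | mul x y hx hy ihx ihy =>
      have e : ⁅s, x * y⁆ = ⁅s, x⁆ * (x * ⁅s, y⁆ * x⁻¹) := by
        simp only [commutatorElement_def]
        group
      rw [e, hcomm ihy hx]
      simpa using mul_mem ihx ihy
    | inv x hx ihx =>
      have e : ⁅s, x⁻¹⁆ = x⁻¹ * ⁅s, x⁆⁻¹ * x := by
        simp only [commutatorElement_def]
        group
      rw [e, hcomm (inv_mem ihx) (inv_mem hx)]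
      simpa using inv_mem ihx
  intro g hg k hk
  induction hg using closure_induction with
  | mem x hx => exact h1 x hx k hk
  | one => simp
  | mul x y hx hy ihx ihy =>
    have e : ⁅x * y, k⁆ = x * ⁅y, k⁆ * x⁻¹ * ⁅x, k⁆ := by
      simp only [commutatorElement_def]
      group
    rw [e, hcomm ihy hx]
    simpa using mul_mem ihy ihx
  | inv x hx ihx =>
    have e : ⁅x⁻¹, k⁆ = x⁻¹ * ⁅x, k⁆⁻¹ * x := by
      simp only [commutatorElement_def]
      group
    rw [e, hcomm (inv_mem ihx) (inv_mem hx)]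
    simpa using inv_mem ihx

/-- Class two for `A ⊔ ⟨x⟩`. -/
theorem class_two_sup {A : Subgroup S} (hA : IsMulCommutative A) {x : S}
    (h : ∀ a ∈ A, (∀ a' ∈ A, ⁅x, a⁆ * a' = a' * ⁅x, a⁆) ∧ ⁅x, a⁆ * x = x * ⁅x, a⁆) :
    ⁅⁅A ⊔ zpowers x, A ⊔ zpowers x⁆, A ⊔ zpowers x⁆ = ⊥ := by
  have hcl : closure ((A : Set S) ∪ {x}) = A ⊔ zpowers x := by
    rw [Subgroup.closure_union, closure_eq, zpowers_eq_closure]
  have hmem : ∀ a ∈ A, ⁅x, a⁆ ∈ centralizer ((A ⊔ zpowers x : Subgroup S) : Set S) := by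
    intro a ha
    rw [← hcl, centralizer_closure, mem_centralizer_iff]
    rintro u (hu | hu)
    · exact ((h a ha).1 u hu).symm
    · rw [Set.mem_singleton_iff] at hu
      subst hu
      exact ((h a ha).2).symm
  have h2 := comm_gens hcl (by
    rintro s (hs | hs) s' (hs' | hs')
    · have : ⁅s, s'⁆ = 1 := by
        rw [commutatorElement_eq_one_iff_mul_comm]
        exact comm_of hA hs hs'
      rw [this]
      exact one_mem _
    · rw [Set.mem_singleton_iff] at hs'
      subst hs'
      rw [← commutatorElement_inv]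
      exact inv_mem (hmem s hs)
    · rw [Set.mem_singleton_iff] at hs
      subst hs
      exact hmem s' hs'
    · rw [Set.mem_singleton_iff] at hs hs'
      subst hs hs'
      simp)
  rw [eq_bot_iff, Subgroup.commutator_le]
  intro u hu v hv
  have h3 : ⁅A ⊔ zpowers x, A ⊔ zpowers x⁆ ≤ centralizer ((A ⊔ zpowers x : Subgroup S) : Set S) := by
    rw [Subgroup.commutator_le]
    exact h2
  rw [mem_bot, commutatorElement_eq_one_iff_mul_comm]
  exact (mem_centralizer_iff.mp (h3 hu) v hv).symm

variable [Finite S] {p : ℕ} [hp : Fact p.Prime]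

/-- Members of the family lie in every maximal normal abelian subgroup. -/
theorem family_le_of_maximal (hS : IsPGroup p S) {A : Subgroup S} (hA : A ∈ Cfsg.dStarFamily S)
    (N : Subgroup S) (hN : N.Normal) (hNa : IsMulCommutative N)
    (hmax : ∀ B : Subgroup S, B.Normal → IsMulCommutative B → N ≤ B → B = N) : A ≤ N := by
  have hC := Cfsg.Agent.Lib.PGroups.MaxAbelian.centralizer_eq_of_maximal hS N hNa hmax
  have hcommN : ∀ {u v : S}, u ∈ N → v ∈ N → u * v = v * u := fun hu hv =>
    comm_of hNa hu hv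
  have key : ∀ i : ℕ, ∀ x ∈ N, x ∈ Subgroup.upperCentralSeries S i → ∀ a ∈ A, a * x = x * a := by
    intro i
    induction i with
    | zero =>
      intro x _ hx a _
      have h1 : x = 1 := by
        have : x ∈ (⊥ : Subgroup S) := by simpa using hx
        exact (mem_bot).mp this
      simp [h1]
    | succ i ih =>
      intro x hxN hx
      rw [Subgroup.mem_upperCentralSeries_succ_iff] at hx
      apply hA.2 x
      apply class_two_sup hA.1
      intro a ha
      have h1 : ⁅x, a⁆ ∈ N := by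
        have e : ⁅x, a⁆ = x * (a * x⁻¹ * a⁻¹) := by
          rw [commutatorElement_def]
          group
        rw [e]
        exact N.mul_mem hxN (hN.conj_mem _ (inv_mem hxN) a)
      have h2 := ih _ h1 (hx a)
      refine ⟨fun a' ha' => (h2 a' ha').symm, hcommN h1 hxN⟩
  have hnil := hS.isNilpotent
  obtain ⟨n, hn⟩ := Group.IsNilpotent.nilpotent (G := S)
  rw [← hC]
  intro a ha
  rw [mem_centralizer_iff]
  intro x hx
  exact (key n x hx (by rw [hn]; exact mem_top x) a ha).symm

theorem exists_maximal_normal :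
    ∃ N : Subgroup S, N.Normal ∧ IsMulCommutative N ∧
      ∀ B : Subgroup S, B.Normal → IsMulCommutative B → N ≤ B → B = N := by
  obtain ⟨N, hN⟩ := (Set.toFinite {A : Subgroup S | A.Normal ∧ IsMulCommutative A}).exists_maximal
    ⟨⊥, inferInstance, inferInstance⟩
  exact ⟨N, hN.1.1, hN.1.2, fun B hB hBa hNB => le_antisymm (hN.2 ⟨hB, hBa⟩ hNB) hNB⟩

theorem dStar_le_of_maximal (hS : IsPGroup p S) (N : Subgroup S) (hN : N.Normal)
    (hNa : IsMulCommutative N)
    (hmax : ∀ B : Subgroup S, B.Normal → IsMulCommutative B → N ≤ B → B = N) : Cfsg.dStar S ≤ N :=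
  sSup_le fun _ hA => family_le_of_maximal hS hA N hN hNa hmax

theorem dStar_comm (hS : IsPGroup p S) : IsMulCommutative (Cfsg.dStar S) := by
  obtain ⟨N, hN, hNa, hmax⟩ := exists_maximal_normal (S := S)
  have h := dStar_le_of_maximal hS N hN hNa hmax
  refine ⟨⟨fun a b => Subtype.ext ?_⟩⟩
  exact comm_of hNa (h a.2) (h b.2)

/-- **S3061**. -/
theorem dStar_mem_family (hS : IsPGroup p S) : Cfsg.dStar S ∈ Cfsg.dStarFamily S := by
  refine ⟨dStar_comm hS, fun x hx a ha => ?_⟩
  have h1 : Cfsg.dStar S ≤ centralizer ({x} : Set S) := by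
    refine sSup_le fun A hA => ?_
    have hle : A ≤ Cfsg.dStar S := le_sSup hA
    have hsup : A ⊔ zpowers x ≤ Cfsg.dStar S ⊔ zpowers x := sup_le_sup_right hle _
    have h2 : ⁅⁅A ⊔ zpowers x, A ⊔ zpowers x⁆, A ⊔ zpowers x⁆ = ⊥ := by
      rw [eq_bot_iff, ← hx]
      exact Subgroup.commutator_mono (Subgroup.commutator_mono hsup hsup) hsup
    intro b hb
    rw [mem_centralizer_iff]
    rintro u rfl
    exact (hA.2 u h2 b hb).symm
  exact (mem_centralizer_iff.mp (h1 ha) x rfl).symm

theorem center_mem_family : center S ∈ Cfsg.dStarFamily S := by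
  refine ⟨inferInstance, fun x _ a ha => ?_⟩
  exact (mem_center_iff.mp ha x).symm

/-- The family is invariant under automorphisms. -/
theorem family_map (φ : S ≃* S) {A : Subgroup S} (hA : A ∈ Cfsg.dStarFamily S) :
    A.map φ.toMonoidHom ∈ Cfsg.dStarFamily S := by
  refine ⟨?_, fun x hx b hb => ?_⟩
  · refine ⟨⟨?_⟩⟩
    rintro ⟨_, a, ha, rfl⟩ ⟨_, b, hb, rfl⟩
    apply Subtype.ext
    show φ a * φ b = φ b * φ a
    rw [← map_mul, ← map_mul, comm_of hA.1 ha hb]
  · obtain ⟨a, ha, rfl⟩ := hb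
    have h1 : (A ⊔ zpowers (φ.symm x)).map φ.toMonoidHom = A.map φ.toMonoidHom ⊔ zpowers x := by
      rw [Subgroup.map_sup, MonoidHom.map_zpowers]
      congr 2
      simp
    have h2 : ⁅⁅A ⊔ zpowers (φ.symm x), A ⊔ zpowers (φ.symm x)⁆, A ⊔ zpowers (φ.symm x)⁆ = ⊥ := by
      apply (Subgroup.map_eq_bot_iff_of_injective _
        (show Function.Injective φ.toMonoidHom from φ.injective)).mp
      rw [Subgroup.map_commutator, Subgroup.map_commutator, h1]
      exact hx
    have h4 := hA.2 _ h2 a ha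
    have h5 := congrArg φ h4
    simpa using h5

theorem dStar_normal : (Cfsg.dStar S).Normal := by
  constructor
  intro n hn g
  have h1 : Cfsg.dStar S ≤ (Cfsg.dStar S).comap (MulAut.conj g).toMonoidHom := by
    refine sSup_le fun A hA => ?_
    intro a ha
    have h2 := family_map (MulAut.conj g) hA
    have h3 : A.map (MulAut.conj g).toMonoidHom ≤ Cfsg.dStar S := le_sSup h2
    exact h3 ⟨a, ha, rfl⟩
  exact h1 hn

/-- Abelian subgroups of largest order are best. -/
theorem isBest_of_max {V B : Subgroup S} (hB : B ∈ Cfsg.maxAbelianSubgroups S)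
    (hV : IsMulCommutative V) : Cfsg.Agent.Lib.QuadAct.Replacement.IsBest V B := by
  intro B' hB'
  unfold Cfsg.Agent.Lib.QuadAct.Replacement.offProd
  set Y := V ⊓ centralizer (B' : Set S) with hY
  have hBa : IsMulCommutative B' := by
    refine ⟨⟨fun a b => Subtype.ext ?_⟩⟩
    exact comm_of hB.1 (hB' a.2) (hB' b.2)
  have hYa : IsMulCommutative Y := by
    refine ⟨⟨fun a b => Subtype.ext ?_⟩⟩
    exact comm_of hV a.2.1 b.2.1
  have hBY : B' ≤ centralizer (Y : Set S) := by
    intro b hb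
    refine mem_centralizer_iff.mpr ?_
    intro y hy
    exact ((mem_centralizer_iff.mp (hy : y ∈ Y).2) b hb).symm
  have hcomm : ∀ x ∈ (B' ∪ Y : Set S), ∀ y ∈ (B' ∪ Y : Set S), x * y = y * x := by
    have h1 : ∀ x ∈ B', ∀ y ∈ Y, x * y = y * x := fun x hx y hy =>
      ((mem_centralizer_iff.mp (hBY hx)) y hy).symm
    rintro x (hx | hx) y (hy | hy)
    · exact comm_of hBa hx hy
    · exact h1 x hx y hy
    · exact (h1 y hy x hx).symm
    · exact comm_of hYa hx hy
  have hsup : B' ⊔ Y = closure (B' ∪ Y : Set S) := by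
    rw [Subgroup.closure_union, closure_eq, closure_eq]
  have hcl : IsMulCommutative (B' ⊔ Y : Subgroup S) := by
    rw [hsup]
    exact Subgroup.isMulCommutative_closure hcomm
  have h1 := hB.2 _ hcl
  have hn : B' ≤ normalizer (Y : Set S) := le_trans hBY (centralizer_le_normalizer _)
  have h2 := Cfsg.Agent.Lib.QuadAct.Basic.card_sup_mul_card_inf_of_le_normalizer B' Y hn
  have h3 : B' ⊓ Y ≤ V ⊓ centralizer (B : Set S) := by
    rintro x ⟨hx1, hx2⟩
    refine ⟨hx2.1, mem_centralizer_iff.mpr ?_⟩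
    intro a ha
    exact comm_of hB.1 ha (hB' hx1)
  have h4 := Nat.card_le_card_of_injective _ (inclusion_injective h3)
  rw [← h2]
  exact Nat.mul_le_mul h1 h4

/-- `D*(S)` is centralized by every abelian subgroup of largest order. -/
theorem dStar_comm_max (hS : IsPGroup p S) {B : Subgroup S} (hB : B ∈ Cfsg.maxAbelianSubgroups S) :
    ⁅Cfsg.dStar S, B⁆ = ⊥ := by
  set V := Cfsg.dStar S with hV
  have hVa : IsMulCommutative V := dStar_comm hS
  have hVn : V.Normal := dStar_normal
  have hAV : B ≤ normalizer (V : Set S) := by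
    rw [normalizer_eq_top_iff.mpr hVn]
    exact le_top
  have hab : ⁅B, B⁆ ≤ centralizer (V : Set S) := by
    have : ⁅B, B⁆ = ⊥ := by
      rw [eq_bot_iff, Subgroup.commutator_le]
      intro a ha b hb
      rw [mem_bot, commutatorElement_eq_one_iff_mul_comm]
      exact comm_of hB.1 ha hb
    rw [this]
    exact bot_le
  obtain ⟨-, h2⟩ := Cfsg.Agent.Lib.QuadAct.Replacement.replacement_of_best hVa hAV hab
    (isBest_of_max hB hVa) (le_refl V)
  set B₁ := B ⊓ centralizer ((⁅V, B⁆ : Subgroup S) : Set S) with hB₁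
  set W := ⁅V, B⁆ with hW
  have hWV : W ≤ V := Cfsg.Agent.Lib.QuadAct.Basic.commutator_le_of_le_normalizer hAV
  -- `B₁` centralizes `V`, by the family property
  have hq : ∀ y ∈ B₁, ∀ v ∈ V, y * v = v * y := by
    intro y hy v hv
    have hfam := dStar_mem_family hS
    apply hfam.2 y ?_ v hv |>.symm
    apply class_two_sup hVa
    intro a ha
    have h3 : ⁅y, a⁆ ∈ W := by
      rw [← commutatorElement_inv]
      exact inv_mem (Subgroup.commutator_mem_commutator ha hy.1)
    refine ⟨fun a' ha' => ?_, ?_⟩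
    · exact comm_of hVa (hWV h3) ha'
    · exact (mem_centralizer_iff.mp hy.2) _ h3
  have hVC : V ≤ V ⊓ centralizer (B₁ : Set S) := by
    refine le_inf le_rfl ?_
    intro v hv
    refine mem_centralizer_iff.mpr ?_
    intro b hb
    exact hq b hb v hv
  rw [h2] at hVC
  have hsub : ⁅V, B⁆ ≤ ⁅W, B⁆ := by
    let T : Subgroup S :=
      { carrier := {v | v ∈ V ∧ ∀ a ∈ B, ⁅v, a⁆ ∈ ⁅W, B⁆}
        one_mem' := ⟨V.one_mem, fun a _ => by simp [commutatorElement_def]⟩
        mul_mem' := by
          rintro x y ⟨hx, hx'⟩ ⟨hy, hy'⟩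
          refine ⟨V.mul_mem hx hy, fun a ha => ?_⟩
          rw [Cfsg.Agent.Lib.QuadAct.Basic.comm_mul_left hVa (hAV ha) hx hy]
          exact Subgroup.mul_mem _ (hx' a ha) (hy' a ha)
        inv_mem' := by
          rintro x ⟨hx, hx'⟩
          refine ⟨V.inv_mem hx, fun a ha => ?_⟩
          rw [Cfsg.Agent.Lib.QuadAct.Basic.comm_inv_left hVa (hAV ha) hx]
          exact Subgroup.inv_mem _ (hx' a ha) }
    have hT1 : W ≤ T := fun w hw => ⟨hWV hw, fun a ha => Subgroup.commutator_mem_commutator hw ha⟩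
    have hT2 : V ⊓ centralizer (B : Set S) ≤ T := by
      rintro c ⟨hc, hc'⟩
      refine ⟨hc, fun a ha => ?_⟩
      have := (mem_centralizer_iff.mp hc') a ha
      rw [commutatorElement_eq_one_iff_mul_comm.mpr this.symm]
      exact Subgroup.one_mem _
    have hVT : V ≤ T := le_trans hVC (sup_le hT1 hT2)
    rw [Subgroup.commutator_le]
    intro v hv a ha
    exact (hVT hv).2 a ha
  have hVp : IsPGroup p V := hS.to_subgroup V
  exact Cfsg.Agent.Lib.QuadAct.Replacement.eq_bot_of_le_commutator hVp hAV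
    (fun a _ => hS a |>.imp fun k hk => by rw [hk]; exact one_mem _) hWV hsub

theorem dStar_le_max (hS : IsPGroup p S) {B : Subgroup S} (hB : B ∈ Cfsg.maxAbelianSubgroups S) :
    Cfsg.dStar S ≤ B := by
  have h1 := dStar_comm_max hS hB
  have hVa := dStar_comm hS (p := p)
  have hc : ∀ v ∈ Cfsg.dStar S, ∀ b ∈ B, v * b = b * v := by
    intro v hv b hb
    have := Subgroup.commutator_mem_commutator hv hb
    rw [h1, mem_bot] at this
    exact commutatorElement_eq_one_iff_mul_comm.mp this
  have hcomm : ∀ x ∈ (Cfsg.dStar S ∪ B : Set S), ∀ y ∈ (Cfsg.dStar S ∪ B : Set S), x * y = y * x := by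
    rintro x (hx | hx) y (hy | hy)
    · exact comm_of hVa hx hy
    · exact hc x hx y hy
    · exact (hc y hy x hx).symm
    · exact comm_of hB.1 hx hy
  have hsup : Cfsg.dStar S ⊔ B = closure (Cfsg.dStar S ∪ B : Set S) := by
    rw [Subgroup.closure_union, closure_eq, closure_eq]
  have hcl : IsMulCommutative (Cfsg.dStar S ⊔ B : Subgroup S) := by
    rw [hsup]
    exact Subgroup.isMulCommutative_closure hcomm
  have h2 := hB.2 _ hcl
  have h3 : B = Cfsg.dStar S ⊔ B := Subgroup.eq_of_le_of_card_ge le_sup_right h2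
  rw [h3]
  exact le_sup_left

theorem exists_max_abelian : ∃ B : Subgroup S, B ∈ Cfsg.maxAbelianSubgroups S := by
  have hbot : (⊥ : Subgroup S) ∈ {A : Subgroup S | IsMulCommutative A} :=
    (inferInstance : IsMulCommutative (⊥ : Subgroup S))
  obtain ⟨B, hB, hmax⟩ := Set.exists_max_image {A : Subgroup S | IsMulCommutative A}
    (fun A => Nat.card A) (Set.toFinite _) ⟨⊥, hbot⟩
  exact ⟨B, hB, hmax⟩

/-- **S3062**. -/
theorem main (hS : IsPGroup p S) :
    center S ≤ Cfsg.dStar S ∧
    Cfsg.dStar S ≤ Cfsg.thompsonSubgroupA S ⊓ centralizer (Cfsg.thompsonSubgroupA S : Set S) ∧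
    ∀ A : Subgroup S, A.Normal → IsMulCommutative A →
      (∀ B : Subgroup S, B.Normal → IsMulCommutative B → A ≤ B → B = A) → Cfsg.dStar S ≤ A := by
  refine ⟨le_sSup center_mem_family, le_inf ?_ ?_, fun A hA hAa hmax =>
    dStar_le_of_maximal hS A hA hAa hmax⟩
  · obtain ⟨B, hB⟩ := exists_max_abelian (S := S)
    exact (dStar_le_max hS hB).trans (le_sSup hB)
  · intro v hv
    rw [mem_centralizer_iff]
    have h1 : Cfsg.thompsonSubgroupA S ≤ centralizer ({v} : Set S) := by
      refine sSup_le fun B hB => ?_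
      intro b hb
      rw [mem_centralizer_iff]
      rintro u rfl
      exact comm_of hB.1 (dStar_le_max hS hB hv) hb
    intro b hb
    exact (mem_centralizer_iff.mp (h1 hb) v rfl).symm

end Cfsg.Agent.Lib.PGroups.DStar
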