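import Cfsg.Agent.Lib.PGroups.Special

/-!
# Gauss sums of 2-groups with squares and commutators in a central subgroup of order 2

For a finite group `G` with a central involution `z` such that all squares and all commutators lie
in `{1, z}`, let `sgn x = 1` if `x^2 = 1` and `sgn x = -1` otherwise, `T = ∑ sgn x`.  Then
`T^2 = |G| ∑_{u ∈ Z(G)} sgn u`; the last sum is `|Z(G)|` or `0`.
-/

set_option autoImplicit false
set_option linter.unusedSectionVars false
set_option linter.unusedVariables false

namespace Cfsg.Agent.Lib.PGroups.ExtraGauss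

open Subgroup Cfsg.Agent.Lib.PGroups.Basic Cfsg.Agent.Lib.PGroups.ClassTwo
  Cfsg.Agent.Lib.PGroups.Special
open scoped commutatorElement

variable {G : Type*} [Group G]

/-- The setting: `z` is a central involution containing all squares and commutators. -/
structure QSetting (G : Type*) [Group G] (z : G) : Prop where
  z_center : z ∈ center G
  z_sq : z ^ 2 = 1
  z_ne : z ≠ 1
  sq_mem : ∀ x : G, x ^ 2 = 1 ∨ x ^ 2 = z
  comm_mem : ∀ x y : G, ⁅x, y⁆ = 1 ∨ ⁅x, y⁆ = z

open Classical in
/-- The sign of an element of `{1, z}`. -/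
noncomputable def val (w : G) : ℤ := if w = 1 then 1 else -1

theorem val_one : val (1 : G) = 1 := by simp [val]

theorem val_of_ne {w : G} (h : w ≠ 1) : val w = -1 := by simp [val, h]

theorem val_mul_self (w : G) : val w * val w = 1 := by
  unfold val; split_ifs <;> norm_num

/-- The sign of `x`. -/
noncomputable def sgn (x : G) : ℤ := val (x ^ 2)

/-- The sign of the commutator `⁅x, y⁆`. -/
noncomputable def eps (x y : G) : ℤ := val ⁅x, y⁆

namespace QSetting

variable {z : G} (h : QSetting G z)
include h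

theorem val_mul {u v : G} (hu : u = 1 ∨ u = z) (hv : v = 1 ∨ v = z) :
    val (u * v) = val u * val v := by
  have hzz : z * z = 1 := by rw [← sq, h.z_sq]
  rcases hu with hu | hu
  · rw [hu, one_mul, val_one, one_mul]
  · rcases hv with hv | hv
    · rw [hv, mul_one, val_one, mul_one]
    · rw [hu, hv, hzz, val_one, val_mul_self]

theorem central_comm (x y : G) : ⁅x, y⁆ ∈ center G := by
  rcases h.comm_mem x y with h1 | h1 <;> rw [h1]
  · exact one_mem _
  · exact h.z_center

theorem comm_symm (x y : G) : ⁅x, y⁆ = ⁅y, x⁆ := by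
  have hzz : z⁻¹ = z := by
    rw [inv_eq_iff_mul_eq_one, ← sq, h.z_sq]
  rw [← commutatorElement_inv y x]
  rcases h.comm_mem y x with h1 | h1 <;> rw [h1]
  · simp
  · exact hzz

theorem eps_symm (x y : G) : eps x y = eps y x := by
  unfold eps; rw [h.comm_symm]

theorem sq_mul (x y : G) : (x * y) ^ 2 = x ^ 2 * y ^ 2 * ⁅x, y⁆ := by
  have h1 := ClassTwo.mul_pow h.central_comm x y 2
  rw [h1, h.comm_symm y x]
  simp only [Nat.choose_self, pow_one]

theorem sgn_mul (x y : G) : sgn (x * y) = sgn x * sgn y * eps x y := by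
  unfold sgn eps
  have hmem : x ^ 2 * y ^ 2 = 1 ∨ x ^ 2 * y ^ 2 = z := by
    have hzz : z * z = 1 := by rw [← sq, h.z_sq]
    rcases h.sq_mem x with h1 | h1 <;> rcases h.sq_mem y with h2 | h2 <;> rw [h1, h2] <;> simp [hzz]
  rw [h.sq_mul, h.val_mul hmem (h.comm_mem x y), h.val_mul (h.sq_mem x) (h.sq_mem y)]

theorem sgn_mul_comm' {x y : G} (hxy : x * y = y * x) : sgn (x * y) = sgn x * sgn y := by
  have h1 : ⁅x, y⁆ = 1 := commutatorElement_eq_one_iff_mul_comm.mpr hxy
  rw [h.sgn_mul, eps, h1, val_one, mul_one]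

theorem eps_mul_left (x y u : G) : eps (x * y) u = eps x u * eps y u := by
  unfold eps
  rw [comm_mul_left h.central_comm, h.val_mul (h.comm_mem x u) (h.comm_mem y u)]

end QSetting

theorem sgn_mul_self (x : G) : sgn x * sgn x = 1 := val_mul_self _

theorem eps_of_mem_center {x u : G} (hu : u ∈ center G) : eps x u = 1 := by
  have h1 : ⁅x, u⁆ = 1 := by
    rw [commutatorElement_eq_one_iff_mul_comm]
    exact (mem_center_iff.mp hu x)
  rw [eps, h1, val_one]

/-- The vanishing of a nontrivial character sum. -/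
theorem sum_eq_zero_of_character {A : Type*} [Group A] [Fintype A] (f : A → ℤ)
    (hf : ∀ a b, f (a * b) = f a * f b) {a₀ : A} (h0 : f a₀ = -1) : ∑ a, f a = 0 := by
  have h1 : ∑ a, f a = ∑ a, f (a₀ * a) := (Equiv.sum_comp (Equiv.mulLeft a₀) f).symm
  simp only [hf, h0, neg_one_mul, Finset.sum_neg_distrib] at h1
  omega

variable [Fintype G] [Fintype (center G)]

/-- The Gauss sum. -/
noncomputable def gauss (G : Type*) [Group G] [Fintype G] : ℤ := ∑ x : G, sgn x

namespace QSetting

variable {z : G} (h : QSetting G z)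
include h

theorem sum_eps (u : G) (hu : u ∉ center G) : ∑ x : G, eps x u = 0 := by
  classical
  have h1 : ∃ a : G, a * u ≠ u * a := by
    by_contra hall
    push Not at hall
    apply hu
    rw [mem_center_iff]
    exact hall
  obtain ⟨a, ha⟩ := h1
  apply sum_eq_zero_of_character _ (h.eps_mul_left · · u) (a₀ := a)
  apply val_of_ne
  intro h2
  apply ha
  exact commutatorElement_eq_one_iff_mul_comm.mp h2

/-- The key identity. -/
theorem gauss_sq : gauss G * gauss G = (Fintype.card G : ℤ) * ∑ u : center G, sgn (u : G) := by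
  classical
  have h1 : gauss G * gauss G = ∑ u : G, sgn u * ∑ x : G, eps x u := by
    unfold gauss
    rw [Finset.sum_mul_sum]
    have h2 : ∀ x : G, ∑ y : G, sgn x * sgn y = ∑ u : G, sgn u * eps x u := by
      intro x
      rw [← Equiv.sum_comp (Equiv.mulLeft x)]
      apply Finset.sum_congr rfl
      intro u _
      simp only [Equiv.coe_mulLeft]
      rw [h.sgn_mul, ← mul_assoc, ← mul_assoc, sgn_mul_self, one_mul]
    simp_rw [h2, Finset.mul_sum]
    rw [Finset.sum_comm]
  rw [h1]
  have h3 : ∀ u : G, sgn u * ∑ x : G, eps x u =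
      if u ∈ center G then (Fintype.card G : ℤ) * sgn u else 0 := by
    intro u
    split_ifs with hu
    · rw [Finset.sum_congr rfl (fun x _ => eps_of_mem_center hu)]
      simp [mul_comm]
    · rw [h.sum_eps u hu, mul_zero]
  simp_rw [h3]
  rw [← Finset.sum_filter]
  have h4 := Finset.sum_subtype (F := inferInstance) (Finset.univ.filter (· ∈ center G))
    (p := (· ∈ center G)) (by simp) (fun u : G => (Fintype.card G : ℤ) * sgn u)
  rw [h4, Finset.mul_sum]

/-- The sum over the centre is `|Z|` or `0`. -/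
theorem sum_center : (∑ u : center G, sgn (u : G) = 0) ∨
    ((∑ u : center G, sgn (u : G) = Fintype.card (center G)) ∧ ∀ u ∈ center G, u ^ 2 = 1) := by
  classical
  by_cases hall : ∀ u ∈ center G, u ^ 2 = 1
  · right
    refine ⟨?_, hall⟩
    have : ∀ u : center G, sgn (u : G) = 1 := by
      intro u
      rw [sgn, hall u u.2, val_one]
    simp [this]
  · left
    push Not at hall
    obtain ⟨u, hu, hu2⟩ := hall
    apply sum_eq_zero_of_character _ (a₀ := (⟨u, hu⟩ : center G))
    · intro a b
      have hab : (a : G) * b = b * a := mem_center_iff.mp a.2 b |>.symm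
      exact h.sgn_mul_comm' hab
    · exact val_of_ne hu2

end QSetting

/-- The number of solutions of `x^2 = 1` in terms of the Gauss sum. -/
theorem gauss_eq (G : Type*) [Group G] [Fintype G] :
    gauss G = 2 * (Nat.card {x : G // x ^ 2 = 1} : ℤ) - Fintype.card G := by
  classical
  have h1 : Nat.card {x : G // x ^ 2 = 1} = (Finset.univ.filter fun x : G => x ^ 2 = 1).card := by
    rw [Nat.card_eq_fintype_card, Fintype.card_subtype]
  have h2 : gauss G = ∑ x : G, ((if x ^ 2 = 1 then 2 else 0) - 1 : ℤ) := by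
    unfold gauss sgn val
    apply Finset.sum_congr rfl
    intro x _
    split_ifs <;> norm_num
  rw [h2, Finset.sum_sub_distrib, Finset.sum_ite, h1]
  simp [Finset.sum_const]
  ring

/-- If `t^2 = 2^k` in `ℤ`, then `k = 2 l` and `t = ± 2^l`. -/
theorem sq_eq_two_pow {t : ℤ} {k : ℕ} (h : t * t = 2 ^ k) :
    ∃ l : ℕ, k = 2 * l ∧ (t = 2 ^ l ∨ t = -2 ^ l) := by
  have h1 : t.natAbs * t.natAbs = 2 ^ k := by
    have := congrArg Int.natAbs h
    rw [Int.natAbs_mul, Int.natAbs_pow] at this
    exact this
  have h2 : t.natAbs ∣ 2 ^ k := ⟨_, h1.symm⟩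
  obtain ⟨l, -, hl⟩ := (Nat.dvd_prime_pow Nat.prime_two).mp h2
  rw [hl, ← pow_add] at h1
  have h3 := Nat.pow_right_injective (le_refl 2) h1
  refine ⟨l, by omega, ?_⟩
  rcases Int.natAbs_eq t with h4 | h4
  · left; rw [h4, hl]; push_cast; rfl
  · right; rw [h4, hl]; push_cast; rfl

/-- The two cases of the Gauss sum. -/
theorem QSetting.cases {G : Type*} [Group G] [Finite G] {z : G} (h : QSetting G z) :
    ((2 * (Nat.card {x : G // x ^ 2 = 1} : ℤ) - Nat.card G) = 0) ∨
    (((2 * (Nat.card {x : G // x ^ 2 = 1} : ℤ) - Nat.card G) *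
      (2 * (Nat.card {x : G // x ^ 2 = 1} : ℤ) - Nat.card G) =
        (Nat.card G : ℤ) * Nat.card (center G)) ∧ ∀ u ∈ center G, u ^ 2 = 1) := by
  classical
  cases nonempty_fintype G
  cases nonempty_fintype (center G)
  have h1 := gauss_eq G
  have h2 := h.gauss_sq
  rw [Nat.card_eq_fintype_card (α := G), Nat.card_eq_fintype_card (α := center G)]
  rw [← h1]
  rcases h.sum_center with h3 | ⟨h3, h4⟩
  · left
    rw [h3, mul_zero] at h2
    exact mul_self_eq_zero.mp h2
  · right
    rw [h3] at h2
    exact ⟨h2, h4⟩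

/-- From a 2-group whose Frattini subgroup has order 2 to the setting. -/
theorem exists_qSetting_of_frattini {G : Type*} [Group G] [Finite G] (hG : IsPGroup 2 G)
    (hΦ : Nat.card (frattini G) = 2) :
    ∃ z : G, QSetting G z ∧ frattini G = zpowers z := by
  classical
  have : (frattini G).Normal := inferInstance
  have hc := le_center_of_card_eq hG (frattini G) hΦ
  obtain ⟨⟨z, hzF⟩, hz1⟩ : ∃ z : frattini G, z ≠ 1 := by
    have : Nontrivial (frattini G) := by
      rw [← Finite.one_lt_card_iff_nontrivial, hΦ]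
      norm_num
    exact exists_ne 1
  have hz1' : z ≠ 1 := fun h => hz1 (Subtype.ext h)
  have hzo : orderOf z = 2 := by
    have h1 : z ^ 2 = 1 := by
      have h2 : (⟨z, hzF⟩ : frattini G) ^ 2 = 1 := by
        rw [← hΦ]
        exact pow_card_eq_one'
      exact congrArg Subtype.val h2
    exact orderOf_eq_prime h1 hz1'
  have hF : frattini G = zpowers z := by
    symm
    apply eq_of_le_of_card_ge (zpowers_le.mpr hzF)
    rw [Nat.card_zpowers, hzo, hΦ]
  have hmem : ∀ w ∈ frattini G, w = 1 ∨ w = z := by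
    intro w hw
    rw [hF] at hw
    have h1 := (mem_zpowers_iff_mem_range_orderOf (x := z) (y := w)).mp hw
    simp only [hzo] at h1
    obtain ⟨n, hn, rfl⟩ := Finset.mem_image.mp h1
    rw [Finset.mem_range] at hn
    interval_cases n
    · left; simp
    · right; simp
  refine ⟨z, ⟨hc hzF, ?_, hz1', ?_, ?_⟩, hF⟩
  · rw [← hzo]; exact pow_orderOf_eq_one z
  · exact fun x => hmem _ (pow_mem_frattini hG x)
  · intro x y
    exact hmem _ (commutator_le_frattini hG (commutator_mem_commutator (mem_top x) (mem_top y)))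

/-- S3772. -/
theorem frattini_card_two_count {G : Type*} [Group G] [Finite G] (hG : IsPGroup 2 G)
    (hΦ : Nat.card (frattini G) = 2) (d : ℕ) (hd : (frattini G).index = 2 ^ d) :
    (Nat.card {x : G // x ^ 2 = 1} = 2 ^ d ∨ ∃ r : ℕ, 1 ≤ r ∧ 2 * r ≤ d ∧
        (Nat.card {x : G // x ^ 2 = 1} = 2 ^ d + 2 ^ (d - r) ∨
          Nat.card {x : G // x ^ 2 = 1} + 2 ^ (d - r) = 2 ^ d)) ∧
    (∀ r : ℕ, d = 2 * r → (Nat.card {x : G // x ^ 2 = 1} = 2 ^ d + 2 ^ r ∨
      Nat.card {x : G // x ^ 2 = 1} + 2 ^ r = 2 ^ d) → Cfsg.IsExtraspecial 2 G) := by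
  classical
  obtain ⟨z, hS, hF⟩ := exists_qSetting_of_frattini hG hΦ
  have hcardG : Nat.card G = 2 ^ (d + 1) := by
    rw [← card_mul_index (frattini G), hΦ, hd]; ring
  set N := Nat.card {x : G // x ^ 2 = 1} with hN
  have hcases := hS.cases
  rw [hcardG] at hcases
  obtain ⟨c, hc⟩ := IsPGroup.iff_card.mp (hG.to_subgroup (center G))
  -- the centre contains `z`
  have hzZ : zpowers z ≤ center G := zpowers_le.mpr hS.z_center
  have hZF : frattini G ≤ center G := hF ▸ hzZ
  have hzord : orderOf z = 2 := orderOf_eq_prime hS.z_sq hS.z_ne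
  have hc1 : 1 ≤ c := by
    by_contra hlt
    have h0 : c = 0 := by omega
    rw [h0, pow_zero] at hc
    have h1 := Subgroup.card_le_of_le hZF
    rw [hc, hΦ] at h1
    omega
  have hd1 : 1 ≤ d := by
    by_contra hlt
    have h0 : d = 0 := by omega
    rw [h0, pow_zero, index_eq_one] at hd
    have h1 : (⊥ : Subgroup G) = ⊤ := frattini_nongenerating (by rw [hd]; simp)
    have h2 : frattini G = ⊥ := by rw [hd, h1]
    rw [h2, Subgroup.card_bot] at hΦ
    omega
  -- square root of the main equation
  have hmain : ∀ t : ℤ, t * t = ((2 ^ (d + 1) : ℕ) : ℤ) * Nat.card (center G) →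
      ∃ l : ℕ, d + 1 + c = 2 * l ∧ (t = 2 ^ l ∨ t = -2 ^ l) := by
    intro t ht
    apply sq_eq_two_pow
    rw [ht, hc]
    push_cast
    ring
  have hcle : Nat.card (center G) ≠ Nat.card G → c + 2 ≤ d + 1 := by
    intro hne
    have h1 : (center G).index ≠ 1 := by
      intro h2
      rw [index_eq_one] at h2
      rw [h2, Subgroup.card_top] at hne
      exact hne rfl
    have h3 : (center G).index ≠ 2 := by
      intro h2
      have h4 : IsCyclic (G ⧸ center G) := isCyclic_of_prime_card (p := 2) (by
        rw [← index_eq_card, h2])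
      have h5 := MonoidHom.isMulCommutative_of_isCyclic_of_ker_le_center
        (QuotientGroup.mk' (center G)) (by simp)
      apply hne
      rw [center_eq_top_iff.mpr h5]
      simp
    obtain ⟨e, he⟩ := IsPGroup.iff_card.mp (hG.to_quotient (center G))
    rw [← index_eq_card] at he
    have h6 : 2 ≤ e := by
      by_contra hlt
      have : e = 0 ∨ e = 1 := by omega
      rcases this with rfl | rfl
      · exact h1 (by rw [he]; norm_num)
      · exact h3 (by rw [he]; norm_num)
    have h7 := card_mul_index (center G)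
    rw [hc, he, hcardG, ← pow_add] at h7
    have h8 := Nat.pow_right_injective (le_refl 2) h7
    omega
  have hne2 : Nat.card (center G) ≠ Nat.card G ∨ ¬ ∀ u ∈ center G, u ^ 2 = 1 := by
    by_contra hall
    push Not at hall
    obtain ⟨h1, h2⟩ := hall
    have h3 : center G = ⊤ := by
      apply eq_top_of_card_eq
      exact h1
    have h4 : frattini G ≤ ⊥ := by
      rw [frattini_le_iff hG]
      constructor
      · have : commutator G = ⊥ := by
          rw [_root_.commutator_eq_bot_iff_center_eq_top]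
          exact h3
        rw [this]
      · intro x
        rw [mem_bot]
        exact h2 x (h3 ▸ mem_top x)
    have h5 : frattini G = ⊥ := le_bot_iff.mp h4
    rw [h5, Subgroup.card_bot] at hΦ
    omega
  refine ⟨?_, ?_⟩
  · rcases hcases with h0 | ⟨h1, h2⟩
    · left
      have h3 : (N : ℤ) = 2 ^ d := by
        push_cast at h0
        rw [pow_succ] at h0
        linarith
      exact_mod_cast h3
    · right
      obtain ⟨l, hl, ht⟩ := hmain _ h1
      have hcl := hcle (hne2.resolve_right (not_not.mpr h2))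
      obtain ⟨l', rfl⟩ : ∃ l', l = l' + 1 := ⟨l - 1, by omega⟩
      refine ⟨d - l', by omega, by omega, ?_⟩
      rw [show d - (d - l') = l' by omega]
      push_cast at ht
      rcases ht with ht | ht
      · left
        have h3 : (N : ℤ) = 2 ^ d + 2 ^ l' := by
          rw [pow_succ, pow_succ] at ht
          linarith
        exact_mod_cast h3
      · right
        have h3 : (N : ℤ) + 2 ^ l' = 2 ^ d := by
          rw [pow_succ, pow_succ] at ht
          linarith
        exact_mod_cast h3
  · intro r hr hN2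
    have ht : (2 * (N : ℤ) - ((2 ^ (d + 1) : ℕ) : ℤ)) = 2 ^ (r + 1) ∨
        (2 * (N : ℤ) - ((2 ^ (d + 1) : ℕ) : ℤ)) = -2 ^ (r + 1) := by
      push_cast
      rcases hN2 with h3 | h3
      · left
        rw [h3]
        push_cast
        rw [pow_succ, pow_succ]
        ring
      · right
        have h4 : (N : ℤ) + 2 ^ r = 2 ^ d := by exact_mod_cast h3
        rw [pow_succ, pow_succ]
        linarith
    have ht0 : (2 * (N : ℤ) - ((2 ^ (d + 1) : ℕ) : ℤ)) ≠ 0 := by
      rcases ht with h3 | h3 <;> rw [h3] <;> simp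
    rcases hcases with h0 | ⟨h1, h2⟩
    · exact (ht0 h0).elim
    have hsq : (2 * (N : ℤ) - ((2 ^ (d + 1) : ℕ) : ℤ)) * (2 * (N : ℤ) - ((2 ^ (d + 1) : ℕ) : ℤ)) =
        2 ^ (d + 2) := by
      rcases ht with h3 | h3 <;> rw [h3] <;> rw [hr] <;> ring
    rw [hsq] at h1
    have hZ2 : Nat.card (center G) = 2 := by
      have h3 : ((2 ^ (d + 1) * Nat.card (center G) : ℕ) : ℤ) = ((2 ^ (d + 1) * 2 : ℕ) : ℤ) := by
        push_cast at h1 ⊢
        rw [← h1]
        ring
      have h4 := Nat.cast_injective h3
      exact Nat.eq_of_mul_eq_mul_left (by positivity) h4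
    have hFZ : frattini G = center G := by
      apply eq_of_le_of_card_ge hZF
      rw [hZ2, hΦ]
    refine ⟨⟨hG, hFZ, ?_⟩, hZ2⟩
    have h5 : commutator G ≤ center G := by
      rw [← hFZ]; exact commutator_le_frattini hG
    apply eq_of_le_of_card_ge h5
    rw [hZ2]
    have h6 : commutator G ≠ ⊥ := by
      intro h7
      rw [_root_.commutator_eq_bot_iff_center_eq_top] at h7
      rw [h7, Subgroup.card_top, hcardG] at hZ2
      have h8 := Nat.pow_right_injective (le_refl 2) (hZ2.trans (pow_one 2).symm)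
      omega
    have h9 : Nat.card (commutator G) ∣ 2 := by
      rw [← hZ2]
      exact card_dvd_of_le h5
    rcases (Nat.dvd_prime Nat.prime_two).mp h9 with h10 | h10
    · exact (h6 ((Subgroup.card_eq_one).mp h10)).elim
    · exact h10.ge

end Cfsg.Agent.Lib.PGroups.ExtraGauss
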