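import Cfsg.Agent.Lib.PGroups.ExtraGauss
import Cfsg.Agent.Lib.PGroups.Presentations

/-!
# Isomorphisms between extraspecial groups, by central decompositions
-/

set_option autoImplicit false
set_option linter.unusedSectionVars false
set_option linter.unusedVariables false

namespace Cfsg.Agent.Lib.PGroups.ExtraIso

open Subgroup Cfsg.Agent.Lib.PGroups.Basic Cfsg.Agent.Lib.PGroups.ClassTwo
  Cfsg.Agent.Lib.PGroups.Special Cfsg.Agent.Lib.PGroups.ExtraGauss
open scoped commutatorElement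

/-- The Heisenberg group of order `p^3`. -/
@[ext] structure Heis (p : ℕ) : Type where
  a : ZMod p
  b : ZMod p
  c : ZMod p

variable {p : ℕ}

instance : Mul (Heis p) := ⟨fun u v => ⟨u.a + v.a, u.b + v.b, u.c + v.c + u.b * v.a⟩⟩

instance : One (Heis p) := ⟨⟨0, 0, 0⟩⟩

instance : Inv (Heis p) := ⟨fun u => ⟨-u.a, -u.b, -u.c + u.b * u.a⟩⟩

@[simp] theorem Heis.mul_a (u v : Heis p) : (u * v).a = u.a + v.a := rfl
@[simp] theorem Heis.mul_b (u v : Heis p) : (u * v).b = u.b + v.b := rfl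
@[simp] theorem Heis.mul_c (u v : Heis p) : (u * v).c = u.c + v.c + u.b * v.a := rfl
@[simp] theorem Heis.one_a : (1 : Heis p).a = 0 := rfl
@[simp] theorem Heis.one_b : (1 : Heis p).b = 0 := rfl
@[simp] theorem Heis.one_c : (1 : Heis p).c = 0 := rfl
@[simp] theorem Heis.inv_a (u : Heis p) : (u⁻¹).a = -u.a := rfl
@[simp] theorem Heis.inv_b (u : Heis p) : (u⁻¹).b = -u.b := rfl
@[simp] theorem Heis.inv_c (u : Heis p) : (u⁻¹).c = -u.c + u.b * u.a := rfl

instance : Group (Heis p) :=
  Group.ofLeftAxioms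
    (by intro a b c; ext <;> simp <;> ring)
    (by intro a; ext <;> simp)
    (by intro a; ext <;> simp)

section Hom

variable {G : Type*} [Group G] {x y z : G}

theorem pow_val_add_of_pow [NeZero p] (hx : x ^ p = 1) (i j : ZMod p) :
    x ^ (i + j).val = x ^ i.val * x ^ j.val := by
  rw [← pow_add, ZMod.val_add, pow_eq_pow_mod (i.val + j.val) hx]

theorem pow_val_mul_of_pow [NeZero p] (hx : x ^ p = 1) (i j : ZMod p) :
    x ^ (i * j).val = x ^ (i.val * j.val) := by
  rw [ZMod.val_mul, ← pow_eq_pow_mod (i.val * j.val) hx]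

/-- `y^a x^b = z^(ab) x^b y^a`. -/
theorem commute_relation (hz : z ∈ center G) (h : y * x = z * x * y) (a b : ℕ) :
    y ^ a * x ^ b = z ^ (a * b) * x ^ b * y ^ a := by
  have hc : ∀ (g : G) (n : ℕ), g * z ^ n = z ^ n * g := fun g n =>
    mem_center_iff.mp (pow_mem hz n) g
  have h1 : ∀ b : ℕ, y * x ^ b = z ^ b * x ^ b * y := by
    intro b
    induction b with
    | zero => simp
    | succ b ih =>
      calc y * x ^ (b + 1) = (y * x ^ b) * x := by rw [pow_succ]; group
        _ = z ^ b * x ^ b * y * x := by rw [ih]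
        _ = z ^ b * x ^ b * (y * x) := by group
        _ = z ^ b * x ^ b * (z * x * y) := by rw [h]
        _ = z ^ b * (x ^ b * z) * x * y := by group
        _ = z ^ b * (z * x ^ b) * x * y := by rw [mem_center_iff.mp hz (x ^ b)]
        _ = z ^ (b + 1) * x ^ (b + 1) * y := by rw [pow_succ z, pow_succ x]; group
  induction a with
  | zero => simp
  | succ a ih =>
    calc y ^ (a + 1) * x ^ b = y ^ a * (y * x ^ b) := by rw [pow_succ]; group
      _ = y ^ a * (z ^ b * x ^ b * y) := by rw [h1]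
      _ = (y ^ a * z ^ b) * x ^ b * y := by group
      _ = (z ^ b * y ^ a) * x ^ b * y := by rw [hc]
      _ = z ^ b * (y ^ a * x ^ b) * y := by group
      _ = z ^ b * (z ^ (a * b) * x ^ b * y ^ a) * y := by rw [ih]
      _ = (z ^ b * z ^ (a * b)) * x ^ b * y ^ (a + 1) := by rw [pow_succ y]; group
      _ = z ^ ((a + 1) * b) * x ^ b * y ^ (a + 1) := by
        rw [Nat.succ_mul, pow_add z (a * b) b, ← pow_add z b, ← pow_add z (a * b), add_comm]

theorem heis_aux {A B C A' B' C' W : G} (hC : C ∈ center G) (hW : W ∈ center G)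
    (h1 : B * A' = W * A' * B) :
    A * A' * (B * B') * (C * C' * W) = A * B * C * (A' * B' * C') := by
  have e1 : A * B * C * (A' * B' * C') = A * (B * A') * B' * (C * C') := by
    have : C * (A' * B') = (A' * B') * C := (mem_center_iff.mp hC _).symm
    calc _ = A * B * (C * (A' * B')) * C' := by group
      _ = A * B * ((A' * B') * C) * C' := by rw [this]
      _ = _ := by group
  rw [e1, h1]
  have e2 : A * (W * A' * B) * B' * (C * C') = (A * W) * (A' * B * B' * (C * C')) := by group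
  have e3 : A * A' * (B * B') * (C * C' * W) = (A * A' * B * B' * (C * C')) * W := by group
  rw [e2, e3, mem_center_iff.mp hW A]
  have e4 : W * A * (A' * B * B' * (C * C')) = W * (A * A' * B * B' * (C * C')) := by group
  rw [e4, mem_center_iff.mp hW]

/-- The homomorphism from the Heisenberg group. -/
noncomputable def heisHom [NeZero p] (hx : x ^ p = 1) (hy : y ^ p = 1) (hzp : z ^ p = 1)
    (hz : z ∈ center G) (h : y * x = z * x * y) : Heis p →* G :=
  MonoidHom.mk' (fun u => x ^ u.a.val * y ^ u.b.val * z ^ u.c.val) (by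
    intro u v
    simp only [Heis.mul_a, Heis.mul_b, Heis.mul_c]
    rw [pow_val_add_of_pow hx, pow_val_add_of_pow hy, pow_val_add_of_pow hzp,
      pow_val_add_of_pow hzp, pow_val_mul_of_pow hzp]
    exact heis_aux (pow_mem hz _) (pow_mem hz _) (commute_relation hz h _ _))

@[simp] theorem heisHom_apply [NeZero p] (hx : x ^ p = 1) (hy : y ^ p = 1) (hzp : z ^ p = 1)
    (hz : z ∈ center G) (h : y * x = z * x * y) (u : Heis p) :
    heisHom hx hy hzp hz h u = x ^ u.a.val * y ^ u.b.val * z ^ u.c.val := rfl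

end Hom

section Pair

variable {E : Type*} [Group E] [Finite E] [hp : Fact p.Prime] {x y : E}

theorem mul_eq_comm_mul_mul (x y : E) : y * x = ⁅y, x⁆ * x * y := by
  rw [commutatorElement_def]; group

theorem ExtraLike.comm_mem_center (h : ExtraLike p E) (x y : E) : ⁅x, y⁆ ∈ center E :=
  h.comm_mem x y

/-- `heisHom` for a pair of an extra-like group. -/
noncomputable def pairHom (h : ExtraLike p E) (hx : x ^ p = 1) (hy : y ^ p = 1) : Heis p →* E :=
  heisHom hx hy (h.center_pow _ (h.comm_mem y x)) (h.comm_mem y x) (mul_eq_comm_mul_mul x y)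

theorem pairHom_apply (h : ExtraLike p E) (hx : x ^ p = 1) (hy : y ^ p = 1) (u : Heis p) :
    pairHom h hx hy u = x ^ u.a.val * y ^ u.b.val * ⁅y, x⁆ ^ u.c.val := rfl

theorem pairHom_mem_centralizer (h : ExtraLike p E) (hx : x ^ p = 1) (hy : y ^ p = 1)
    (u : Heis p) {c : E} (hc : c ∈ centralizer ({x, y} : Set E)) :
    pairHom h hx hy u * c = c * pairHom h hx hy u := by
  rw [pairHom_apply]
  have h1 : c * x = x * c := (mem_centralizer_iff.mp hc x (by simp)).symm
  have h2 : c * y = y * c := (mem_centralizer_iff.mp hc y (by simp)).symm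
  have h3 : Commute c (⁅y, x⁆ ^ u.c.val) := mem_center_iff.mp (pow_mem (h.comm_mem y x) _) c
  have h4 : Commute c x := h1
  have h5 : Commute c y := h2
  exact (((h4.pow_right _).mul_right (h5.pow_right _)).mul_right h3).symm

/-- The map `Heis p × C → E`. -/
noncomputable def pairMap (h : ExtraLike p E) (hx : x ^ p = 1) (hy : y ^ p = 1) :
    Heis p × centralizer ({x, y} : Set E) →* E :=
  MonoidHom.mk' (fun u => pairHom h hx hy u.1 * (u.2 : E)) (by
    intro u v
    have h1 := pairHom_mem_centralizer h hx hy v.1 u.2.2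
    simp only [Prod.fst_mul, Prod.snd_mul, map_mul, Subgroup.coe_mul]
    calc pairHom h hx hy u.1 * pairHom h hx hy v.1 * ((u.2 : E) * v.2)
        = pairHom h hx hy u.1 * (pairHom h hx hy v.1 * u.2) * v.2 := by group
      _ = pairHom h hx hy u.1 * (u.2 * pairHom h hx hy v.1) * v.2 := by rw [h1]
      _ = _ := by group)

theorem pairMap_apply (h : ExtraLike p E) (hx : x ^ p = 1) (hy : y ^ p = 1)
    (u : Heis p × centralizer ({x, y} : Set E)) :
    pairMap h hx hy u = pairHom h hx hy u.1 * (u.2 : E) := rfl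

theorem pow_natCast_val (hx : x ^ p = 1) (n : ℕ) : x ^ ((n : ZMod p)).val = x ^ n := by
  rw [ZMod.val_natCast, ← pow_eq_pow_mod n hx]

theorem pairMap_surjective (h : ExtraLike p E) (hx : x ^ p = 1) (hy : y ^ p = 1)
    (hz : ⁅y, x⁆ ≠ 1) : Function.Surjective (pairMap h hx hy) := by
  intro g
  have hxy : ⁅x, y⁆ ≠ 1 := by
    rw [← commutatorElement_inv y x]
    exact fun h1 => hz (inv_eq_one.mp h1)
  obtain ⟨a, b, c, hc, hg⟩ := h.exists_decomp hxy g
  set n : ℕ := b * (p - 1) with hn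
  have hxn : (x ^ b)⁻¹ = x ^ n := by
    rw [inv_eq_iff_mul_eq_one, ← pow_add]
    have hp1 : 1 ≤ p := hp.out.one_lt.le
    rw [hn, show b + b * (p - 1) = p * b by
      obtain ⟨q, rfl⟩ : ∃ q, p = q + 1 := ⟨p - 1, by omega⟩
      simp only [Nat.add_sub_cancel]
      ring]
    rw [pow_mul, hx, one_pow]
  refine ⟨(⟨(n : ZMod p), (a : ZMod p), ((a * n : ℕ) : ZMod p)⟩, ⟨c, hc⟩), ?_⟩
  rw [pairMap_apply, pairHom_apply]
  simp only
  rw [pow_natCast_val hx, pow_natCast_val hy, pow_natCast_val (h.center_pow _ (h.comm_mem y x)), hg,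
    hxn, commute_relation (h.comm_mem y x) (mul_eq_comm_mul_mul x y)]
  congr 1
  rw [mul_assoc (x ^ n), mem_center_iff.mp (pow_mem (h.comm_mem y x) _) (y ^ a)]
  rw [← mul_assoc, ← mem_center_iff.mp (pow_mem (h.comm_mem y x) _) (x ^ n)]

/-- Computation of a commutator with `y`. -/
theorem pairHom_comm_y (h : ExtraLike p E) (hx : x ^ p = 1) (hy : y ^ p = 1) (u : Heis p) :
    ⁅pairHom h hx hy u, y⁆ = ⁅x, y⁆ ^ u.a.val := by
  rw [pairHom_apply, comm_mul_left h.comm_mem, comm_mul_left h.comm_mem,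
    comm_pow_left h.comm_mem, comm_pow_left h.comm_mem]
  have h1 : ⁅y, y⁆ = 1 := by simp
  have h2 : ⁅⁅y, x⁆ ^ u.c.val, y⁆ = 1 := by
    rw [commutatorElement_eq_one_iff_mul_comm]
    exact (mem_center_iff.mp (pow_mem (h.comm_mem y x) _) y).symm
  rw [h1, h2]
  simp

/-- Computation of a commutator with `x`. -/
theorem pairHom_comm_x (h : ExtraLike p E) (hx : x ^ p = 1) (hy : y ^ p = 1) (u : Heis p) :
    ⁅pairHom h hx hy u, x⁆ = ⁅y, x⁆ ^ u.b.val := by
  rw [pairHom_apply, comm_mul_left h.comm_mem, comm_mul_left h.comm_mem,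
    comm_pow_left h.comm_mem, comm_pow_left h.comm_mem]
  have h1 : ⁅x, x⁆ = 1 := by simp
  have h2 : ⁅⁅y, x⁆ ^ u.c.val, x⁆ = 1 := by
    rw [commutatorElement_eq_one_iff_mul_comm]
    exact (mem_center_iff.mp (pow_mem (h.comm_mem y x) _) x).symm
  rw [h1, h2]
  simp

theorem val_eq_zero_of_pow_eq_one {w : E} (h1 : w ^ p = 1) (hw : w ≠ 1) {i : ZMod p}
    (hi : w ^ i.val = 1) : i = 0 := by
  have ho : orderOf w = p := orderOf_eq_prime h1 hw
  have hdvd := orderOf_dvd_of_pow_eq_one hi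
  rw [ho] at hdvd
  have hlt := ZMod.val_lt i
  have h0 := Nat.eq_zero_of_dvd_of_lt hdvd hlt
  exact (ZMod.val_eq_zero i).mp h0

/-- The kernel of `pairMap`. -/
theorem pairMap_ker (h : ExtraLike p E) (hx : x ^ p = 1) (hy : y ^ p = 1) (hz : ⁅y, x⁆ ≠ 1)
    (u : Heis p × centralizer ({x, y} : Set E)) (hu : pairMap h hx hy u = 1) :
    u.1.a = 0 ∧ u.1.b = 0 ∧ (u.2 : E) = (⁅y, x⁆ ^ u.1.c.val)⁻¹ := by
  rw [pairMap_apply] at hu
  have hxy : ⁅x, y⁆ ≠ 1 := by
    rw [← commutatorElement_inv y x]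
    exact fun h1 => hz (inv_eq_one.mp h1)
  have hc := u.2.2
  have hf : pairHom h hx hy u.1 = ((u.2 : E))⁻¹ := eq_inv_of_mul_eq_one_left hu
  have h1 : ⁅pairHom h hx hy u.1, y⁆ = 1 := by
    rw [hf, commutatorElement_eq_one_iff_mul_comm]
    have : (u.2 : E) * y = y * u.2 := (mem_centralizer_iff.mp hc y (by simp)).symm
    exact (Commute.inv_left this).eq
  have h2 : ⁅pairHom h hx hy u.1, x⁆ = 1 := by
    rw [hf, commutatorElement_eq_one_iff_mul_comm]
    have : (u.2 : E) * x = x * u.2 := (mem_centralizer_iff.mp hc x (by simp)).symm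
    exact (Commute.inv_left this).eq
  rw [pairHom_comm_y] at h1
  rw [pairHom_comm_x] at h2
  have ha := val_eq_zero_of_pow_eq_one (h.center_pow _ (h.comm_mem x y)) hxy h1
  have hb := val_eq_zero_of_pow_eq_one (h.center_pow _ (h.comm_mem y x)) hz h2
  refine ⟨ha, hb, ?_⟩
  rw [pairHom_apply, ha, hb] at hf
  simp only [ZMod.val_zero, pow_zero, mul_one, one_mul] at hf
  rw [hf, inv_inv]

/-- **Gluing**: isomorphisms between the centralizers of hyperbolic pairs extend. -/
theorem exists_iso_of_pairs {E₁ E₂ : Type*} [Group E₁] [Group E₂] [Finite E₁] [Finite E₂]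
    (h₁ : ExtraLike p E₁) (h₂ : ExtraLike p E₂) (hc : Nat.card E₁ = Nat.card E₂)
    {x₁ y₁ : E₁} {x₂ y₂ : E₂} (hx₁ : x₁ ^ p = 1) (hy₁ : y₁ ^ p = 1) (hx₂ : x₂ ^ p = 1)
    (hy₂ : y₂ ^ p = 1) (hz₁ : ⁅y₁, x₁⁆ ≠ 1) (hz₂ : ⁅y₂, x₂⁆ ≠ 1)
    (φ : centralizer ({x₁, y₁} : Set E₁) ≃* centralizer ({x₂, y₂} : Set E₂))
    (hφ : ∀ (t : E₁) (ht : t ∈ centralizer ({x₁, y₁} : Set E₁)), t = ⁅y₁, x₁⁆ →
      (φ ⟨t, ht⟩ : E₂) = ⁅y₂, x₂⁆) :
    ∃ ψ : E₁ ≃* E₂, ψ ⁅y₁, x₁⁆ = ⁅y₂, x₂⁆ := by
  classical
  have hzC : ⁅y₁, x₁⁆ ∈ centralizer ({x₁, y₁} : Set E₁) := by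
    rw [mem_centralizer_iff]
    intro w _
    exact mem_center_iff.mp (h₁.comm_mem y₁ x₁) w
  let F₁ := pairMap h₁ hx₁ hy₁
  let F₂ : Heis p × centralizer ({x₁, y₁} : Set E₁) →* E₂ :=
    (pairMap h₂ hx₂ hy₂).comp (MonoidHom.prodMap (MonoidHom.id (Heis p)) φ.toMonoidHom)
  have hF₁ : Function.Surjective F₁ := pairMap_surjective h₁ hx₁ hy₁ hz₁
  have hF₂ : Function.Surjective F₂ := by
    intro g
    obtain ⟨⟨u, c⟩, hu⟩ := pairMap_surjective h₂ hx₂ hy₂ hz₂ g
    refine ⟨(u, φ.symm c), ?_⟩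
    simp only [F₂, MonoidHom.comp_apply, MonoidHom.prodMap_def, MonoidHom.prod_apply,
      MonoidHom.id_comp, MonoidHom.coe_fst, MonoidHom.coe_snd, MonoidHom.comp_apply]
    rw [← hu]
    simp
  have hker : F₁.ker ≤ F₂.ker := by
    intro u hu
    rw [MonoidHom.mem_ker] at hu ⊢
    obtain ⟨ha, hb, hcc⟩ := pairMap_ker h₁ hx₁ hy₁ hz₁ u hu
    simp only [F₂, MonoidHom.comp_apply, MonoidHom.prodMap_def, MonoidHom.prod_apply,
      MonoidHom.id_comp, MonoidHom.coe_fst, MonoidHom.coe_snd, MonoidHom.comp_apply]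
    rw [pairMap_apply, pairHom_apply]
    simp only [ha, hb, ZMod.val_zero, pow_zero, mul_one, one_mul]
    have h1 : u.2 = ((⟨⁅y₁, x₁⁆, hzC⟩ : centralizer ({x₁, y₁} : Set E₁)) ^ u.1.c.val)⁻¹ := by
      apply Subtype.ext
      rw [hcc]
      simp
    change ⁅y₂, x₂⁆ ^ u.1.c.val * (φ u.2 : E₂) = 1
    rw [h1, map_inv, map_pow]
    simp only [InvMemClass.coe_inv, SubmonoidClass.coe_pow]
    rw [hφ _ hzC rfl]
    group
  let ψ₀ : E₁ →* E₂ := F₁.liftOfSurjective hF₁ ⟨F₂, hker⟩
  have hψ₀ : ∀ u, ψ₀ (F₁ u) = F₂ u := fun u =>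
    MonoidHom.liftOfRightInverse_comp_apply F₁ _ _ ⟨F₂, hker⟩ u
  have hsurj : Function.Surjective ψ₀ := by
    intro g
    obtain ⟨u, rfl⟩ := hF₂ g
    exact ⟨F₁ u, hψ₀ u⟩
  have hbij : Function.Bijective ψ₀ := by
    refine ⟨?_, hsurj⟩
    exact (Nat.bijective_iff_surjective_and_card ψ₀).mpr ⟨hsurj, hc⟩ |>.1
  refine ⟨MulEquiv.ofBijective ψ₀ hbij, ?_⟩
  change ψ₀ _ = _
  have h3 : (1 : ZMod p).val = 1 := by
    have : Fact (1 < p) := ⟨hp.out.one_lt⟩
    exact ZMod.val_one p
  have h1 : F₁ (⟨0, 0, 1⟩, 1) = ⁅y₁, x₁⁆ := by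
    simp only [F₁, pairMap_apply, pairHom_apply]
    simp [h3]
  rw [← h1, hψ₀]
  simp only [F₂, MonoidHom.comp_apply, MonoidHom.prodMap_def, MonoidHom.prod_apply,
    MonoidHom.id_comp, MonoidHom.coe_fst, MonoidHom.coe_snd, MonoidHom.comp_apply]
  rw [pairMap_apply, pairHom_apply]
  simp [h3]

end Pair

section Exponent

variable [hp : Fact p.Prime]

theorem orderOf_of_card_prime {E : Type*} [Group E] [Finite E] {z : E} (hE : Nat.card E = p)
    (hz : z ≠ 1) : orderOf z = p := by
  have h3 := orderOf_dvd_natCard z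
  rw [hE] at h3
  rcases (Nat.dvd_prime hp.out).mp h3 with h4 | h4
  · exact (hz (orderOf_eq_one_iff.mp h4)).elim
  · exact h4

theorem mem_zpowers_of_card_prime {E : Type*} [Group E] [Finite E] {z : E} (hE : Nat.card E = p)
    (hz : z ≠ 1) (x : E) : x ∈ zpowers z := by
  have h5 : zpowers z = ⊤ := by
    rw [← Subgroup.card_eq_iff_eq_top, Nat.card_zpowers, orderOf_of_card_prime hE hz, hE]
  rw [h5]
  exact mem_top x

/-- Groups of prime order, with prescribed generators. -/
theorem exists_iso_of_prime_card {E₁ E₂ : Type*} [Group E₁] [Group E₂] [Finite E₁] [Finite E₂]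
    (h1 : Nat.card E₁ = p) (h2 : Nat.card E₂ = p) {z₁ : E₁} {z₂ : E₂} (hz₁ : z₁ ≠ 1) (hz₂ : z₂ ≠ 1) :
    ∃ ψ : E₁ ≃* E₂, ψ z₁ = z₂ := by
  have hpp := hp.out
  have hdvd : orderOf z₂ ∣ orderOf z₁ := by
    rw [orderOf_of_card_prime h1 hz₁, orderOf_of_card_prime h2 hz₂]
  let f : E₁ →* E₂ := monoidHomOfForallMemZpowers (mem_zpowers_of_card_prime h1 hz₁) hdvd
  have hf : f z₁ = z₂ := monoidHomOfForallMemZpowers_apply_gen _ hdvd
  have hsurj : Function.Surjective f := by
    intro w
    obtain ⟨k, rfl⟩ := mem_zpowers_iff.mp (mem_zpowers_of_card_prime h2 hz₂ w)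
    exact ⟨z₁ ^ k, by rw [map_zpow, hf]⟩
  have hbij : Function.Bijective f :=
    ⟨((Nat.bijective_iff_surjective_and_card f).mpr ⟨hsurj, by rw [h1, h2]⟩).1, hsurj⟩
  exact ⟨MulEquiv.ofBijective f hbij, hf⟩

theorem card_eq_of_comm {E : Type*} [Group E] [Finite E] (h : ExtraLike p E)
    (hc : IsMulCommutative E) : Nat.card E = p := by
  have h1 : center E = ⊤ := center_eq_top_iff.mpr hc
  rw [← h.card_center, h1, Subgroup.card_top]

theorem exists_hyperbolic_pair {E : Type*} [Group E] [Finite E] (h : ExtraLike p E)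
    (hnc : ¬ IsMulCommutative E) {z : E} (hz : z ∈ center E) (hz1 : z ≠ 1) :
    ∃ x y : E, ⁅y, x⁆ = z := by
  obtain ⟨x, y, hxy⟩ := exists_comm_ne_one hnc
  obtain ⟨n, hn⟩ := h.exists_pow_eq (h.comm_mem x y) hxy hz
  refine ⟨y ^ n, x, ?_⟩
  rw [hn, comm_pow_right h.comm_mem]

theorem not_comm_of_card_ne {E : Type*} [Group E] [Finite E] (h : ExtraLike p E)
    (hc : Nat.card E ≠ p) : ¬ IsMulCommutative E := fun h2 => hc (card_eq_of_comm h h2)

/-- The central element `w`, viewed in the centralizer of a pair. -/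
theorem mem_centralizer_of_mem_center {E : Type*} [Group E] {s : Set E} {w : E}
    (hw : w ∈ center E) : w ∈ centralizer s := by
  rw [mem_centralizer_iff]
  intro g _
  exact mem_center_iff.mp hw g

theorem mem_center_of_mem_center {E : Type*} [Group E] {s : Set E} {w : E}
    (hw : w ∈ center E) : (⟨w, mem_centralizer_of_mem_center hw⟩ : centralizer s) ∈
      center (centralizer s) := by
  rw [mem_center_iff]
  intro g
  exact Subtype.ext (mem_center_iff.mp hw g)

/-- Uniqueness of extraspecial groups of exponent `p`. -/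
theorem exists_iso_of_exponent {E₁ E₂ : Type*} [Group E₁] [Group E₂] [Finite E₁] [Finite E₂]
    (h₁ : ExtraLike p E₁) (h₂ : ExtraLike p E₂) (hc : Nat.card E₁ = Nat.card E₂)
    (he₁ : ∀ x : E₁, x ^ p = 1) (he₂ : ∀ x : E₂, x ^ p = 1)
    {z₁ : E₁} {z₂ : E₂} (hz₁ : z₁ ∈ center E₁) (hz₂ : z₂ ∈ center E₂) (hz₁1 : z₁ ≠ 1)
    (hz₂1 : z₂ ≠ 1) : ∃ ψ : E₁ ≃* E₂, ψ z₁ = z₂ := by
  classical
  have hpp := hp.out
  induction hk : Nat.card E₁ using Nat.strong_induction_on generalizing E₁ E₂ with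
  | _ k ih =>
    by_cases hcomm : IsMulCommutative E₁
    · have h1 := card_eq_of_comm h₁ hcomm
      exact exists_iso_of_prime_card h1 (hc ▸ h1) hz₁1 hz₂1
    have hne : Nat.card E₁ ≠ p := fun h1 => hcomm (by
      have : IsCyclic E₁ := isCyclic_of_prime_card h1
      exact IsCyclic.isMulCommutative)
    have hcomm₂ : ¬ IsMulCommutative E₂ := not_comm_of_card_ne h₂ (hc ▸ hne)
    obtain ⟨x₁, y₁, hxy₁⟩ := exists_hyperbolic_pair h₁ hcomm hz₁ hz₁1
    obtain ⟨x₂, y₂, hxy₂⟩ := exists_hyperbolic_pair h₂ hcomm₂ hz₂ hz₂1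
    have hz₁' : ⁅y₁, x₁⁆ ≠ 1 := by rw [hxy₁]; exact hz₁1
    have hz₂' : ⁅y₂, x₂⁆ ≠ 1 := by rw [hxy₂]; exact hz₂1
    have hinv₁ : ⁅x₁, y₁⁆ ≠ 1 := by
      rw [← commutatorElement_inv y₁ x₁]
      exact fun h1 => hz₁' (inv_eq_one.mp h1)
    have hinv₂ : ⁅x₂, y₂⁆ ≠ 1 := by
      rw [← commutatorElement_inv y₂ x₂]
      exact fun h1 => hz₂' (inv_eq_one.mp h1)
    have hC₁ := h₁.centralizer_pair hinv₁
    have hC₂ := h₂.centralizer_pair hinv₂
    have hs₁ := h₁.card_split hinv₁
    have hs₂ := h₂.card_split hinv₂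
    have hcC : Nat.card (centralizer ({x₁, y₁} : Set E₁)) =
        Nat.card (centralizer ({x₂, y₂} : Set E₂)) := by
      rw [hs₁, hs₂] at hc
      exact Nat.eq_of_mul_eq_mul_left (by have := hpp.pos; positivity) hc
    have hlt : Nat.card (centralizer ({x₁, y₁} : Set E₁)) < k := by
      rw [← hk, hs₁]
      have h0 : 0 < Nat.card (centralizer ({x₁, y₁} : Set E₁)) := Nat.card_pos
      have h2 : 1 < p ^ 2 := Nat.one_lt_pow (by norm_num) hpp.one_lt
      nlinarith
    obtain ⟨φ, hφ⟩ := ih _ hlt hC₁ hC₂ hcC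
      (fun x => Subtype.ext (he₁ x)) (fun x => Subtype.ext (he₂ x))
      (mem_center_of_mem_center hz₁) (mem_center_of_mem_center hz₂)
      (fun h => hz₁1 (congrArg Subtype.val h)) (fun h => hz₂1 (congrArg Subtype.val h)) rfl
    obtain ⟨ψ, hψ⟩ := exists_iso_of_pairs h₁ h₂ hc (he₁ x₁) (he₁ y₁) (he₂ x₂) (he₂ y₂) hz₁' hz₂' φ
      (by
        rintro t ht rfl
        rw [hxy₂]
        have h9 : (⟨⁅y₁, x₁⁆, ht⟩ : centralizer ({x₁, y₁} : Set E₁)) =
            ⟨z₁, mem_centralizer_of_mem_center hz₁⟩ := Subtype.ext hxy₁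
        rw [h9, hφ])
    exact ⟨ψ, by rw [← hxy₁, hψ, hxy₂]⟩

theorem exists_center_ne_one {E : Type*} [Group E] [Finite E] (h : ExtraLike p E) :
    ∃ z ∈ center E, z ≠ 1 := by
  have : Nontrivial (center E) := by
    rw [← Finite.one_lt_card_iff_nontrivial, h.card_center]
    exact hp.out.one_lt
  obtain ⟨z, hz⟩ := exists_ne (1 : center E)
  exact ⟨z, z.2, fun h1 => hz (Subtype.ext h1)⟩

/-- S0098 in the form used. -/
theorem nonempty_equiv_of_exponent {E₁ E₂ : Type*} [Group E₁] [Group E₂] [Finite E₁] [Finite E₂]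
    (h₁ : ExtraLike p E₁) (h₂ : ExtraLike p E₂) (hc : Nat.card E₁ = Nat.card E₂)
    (he₁ : ∀ x : E₁, x ^ p = 1) (he₂ : ∀ x : E₂, x ^ p = 1) : Nonempty (E₁ ≃* E₂) := by
  obtain ⟨z₁, hz₁, hz₁1⟩ := exists_center_ne_one h₁
  obtain ⟨z₂, hz₂, hz₂1⟩ := exists_center_ne_one h₂
  obtain ⟨ψ, -⟩ := exists_iso_of_exponent h₁ h₂ hc he₁ he₂ hz₁ hz₂ hz₁1 hz₂1
  exact ⟨ψ⟩

end Exponent

section Two

variable {E : Type*} [Group E] [Finite E]

theorem center_eq_of_two (h : ExtraLike 2 E) {z w : E} (hz : z ∈ center E) (hz1 : z ≠ 1)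
    (hw : w ∈ center E) : w = 1 ∨ w = z := by
  obtain ⟨n, rfl⟩ := h.exists_pow_eq hz hz1 hw
  have hz2 := h.center_pow z hz
  rw [pow_eq_pow_mod n hz2]
  rcases Nat.mod_two_eq_zero_or_one n with h1 | h1 <;> rw [h1]
  · left; simp
  · right; simp

theorem qSetting_of_extraLike (h : ExtraLike 2 E) {z : E} (hz : z ∈ center E) (hz1 : z ≠ 1) :
    QSetting E z :=
  ⟨hz, h.center_pow z hz, hz1, fun x => center_eq_of_two h hz hz1 (h.pow_mem x),
    fun x y => center_eq_of_two h hz hz1 (h.comm_mem x y)⟩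

/-- `w^n` for an involution. -/
theorem pow_eq_cond {w : E} (hw : w ^ 2 = 1) (n : ℕ) :
    w ^ n = cond (decide (n % 2 = 1)) w 1 := by
  rw [pow_eq_pow_mod n hw]
  rcases Nat.mod_two_eq_zero_or_one n with h1 | h1 <;> simp [h1]

/-- The bijection `Bool × Bool × C → E`. -/
theorem decomp_bijective (h : ExtraLike 2 E) {x y : E} (hx : x ^ 2 = 1) (hy : y ^ 2 = 1)
    (hz : ⁅y, x⁆ ≠ 1) :
    Function.Bijective (fun u : Bool × Bool × centralizer ({x, y} : Set E) =>
      cond u.1 y 1 * cond u.2.1 x 1 * (u.2.2 : E)) := by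
  classical
  have hxy : ⁅x, y⁆ ≠ 1 := by
    rw [← commutatorElement_inv y x]
    exact fun h1 => hz (inv_eq_one.mp h1)
  have hcx : ∀ c : centralizer ({x, y} : Set E), ⁅(c : E), x⁆ = 1 := fun c => by
    rw [commutatorElement_eq_one_iff_mul_comm]
    exact (mem_centralizer_iff.mp c.2 x (by simp)).symm
  have hcy : ∀ c : centralizer ({x, y} : Set E), ⁅(c : E), y⁆ = 1 := fun c => by
    rw [commutatorElement_eq_one_iff_mul_comm]
    exact (mem_centralizer_iff.mp c.2 y (by simp)).symm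
  have hval_x : ∀ (a b : Bool) (c : centralizer ({x, y} : Set E)),
      ⁅cond a y 1 * cond b x 1 * (c : E), x⁆ = cond a ⁅y, x⁆ 1 := by
    intro a b c
    rw [comm_mul_left h.comm_mem, comm_mul_left h.comm_mem, hcx]
    cases a <;> cases b <;> simp
  have hval_y : ∀ (a b : Bool) (c : centralizer ({x, y} : Set E)),
      ⁅cond a y 1 * cond b x 1 * (c : E), y⁆ = cond b ⁅x, y⁆ 1 := by
    intro a b c
    rw [comm_mul_left h.comm_mem, comm_mul_left h.comm_mem, hcy]
    cases a <;> cases b <;> simp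
  constructor
  · rintro ⟨a, b, c⟩ ⟨a', b', c'⟩ huv
    simp only at huv
    have h1 := hval_x a b c
    have h2 := hval_y a b c
    rw [huv, hval_x] at h1
    rw [huv, hval_y] at h2
    have ha : a = a' := by
      cases a <;> cases a' <;> simp_all
    have hb : b = b' := by
      cases b <;> cases b' <;> simp_all
    subst ha hb
    have h3 := mul_left_cancel huv
    rw [show c = c' from Subtype.ext h3]
  · intro g
    obtain ⟨a, b, c, hc, hg⟩ := h.exists_decomp hxy g
    refine ⟨(decide (a % 2 = 1), decide (b % 2 = 1), ⟨c, hc⟩), ?_⟩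
    simp only
    rw [hg, ← pow_eq_cond hy, ← pow_eq_cond hx]
    congr 2
    rw [eq_inv_iff_mul_eq_one, ← sq, ← pow_mul, mul_comm, pow_mul, hx, one_pow]

theorem sgn_coe {H : Subgroup E} (c : H) : sgn c = sgn (c : E) := by
  classical
  unfold sgn val
  have h1 : c ^ 2 = 1 ↔ (c : E) ^ 2 = 1 := by
    rw [← Subtype.coe_inj]
    simp
  simp only [h1]

/-- Gauss sums under the central decomposition. -/
theorem gauss_eq_of_pair {x y : E} [Fintype E] [Fintype (centralizer ({x, y} : Set E))]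
    (h : ExtraLike 2 E) (hx : x ^ 2 = 1) (hy : y ^ 2 = 1) (hz : ⁅y, x⁆ ≠ 1) :
    gauss E = 2 * gauss (centralizer ({x, y} : Set E)) := by
  classical
  have hS : QSetting E ⁅y, x⁆ := qSetting_of_extraLike h (h.comm_mem y x) hz
  have hcomm : ∀ (a b : Bool) (c : centralizer ({x, y} : Set E)),
      (cond a y 1 * cond b x 1) * (c : E) = (c : E) * (cond a y 1 * cond b x 1) := by
    intro a b c
    have h1 : Commute (c : E) x := (mem_centralizer_iff.mp c.2 x (by simp)).symm
    have h2 : Commute (c : E) y := (mem_centralizer_iff.mp c.2 y (by simp)).symm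
    have h3 : Commute (c : E) (cond a y 1) := by cases a <;> simp [h2]
    have h4 : Commute (c : E) (cond b x 1) := by cases b <;> simp [h1]
    exact (h3.mul_right h4).symm.eq
  have hval : ∀ (a b : Bool) (c : centralizer ({x, y} : Set E)),
      sgn (cond a y 1 * cond b x 1 * (c : E)) = sgn (cond a y 1 * cond b x 1) * sgn (c : E) :=
    fun a b c => hS.sgn_mul_comm' (hcomm a b c)
  have hsy : sgn y = 1 := by rw [sgn, hy, val_one]
  have hsx : sgn x = 1 := by rw [sgn, hx, val_one]
  have hs1 : sgn (1 : E) = 1 := by rw [sgn, one_pow, val_one]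
  have hsyx : sgn (y * x) = -1 := by
    rw [hS.sgn_mul, hsy, hsx, eps, val_of_ne hz]
    norm_num
  unfold gauss
  rw [← (decomp_bijective h hx hy hz).sum_comp]
  simp only [Fintype.sum_prod_type]
  simp only [hval]
  simp only [← Finset.mul_sum]
  simp only [Fintype.sum_bool, cond_true, cond_false, mul_one, one_mul, hsx, hsy, hs1, hsyx, sgn_coe]
  ring

/-- The count under the central decomposition. -/
theorem count_of_pair {x y : E} (h : ExtraLike 2 E) (hx : x ^ 2 = 1) (hy : y ^ 2 = 1)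
    (hz : ⁅y, x⁆ ≠ 1) :
    Nat.card {w : E // w ^ 2 = 1} = 2 * Nat.card {w : centralizer ({x, y} : Set E) // w ^ 2 = 1} +
      Nat.card (centralizer ({x, y} : Set E)) := by
  classical
  cases nonempty_fintype E
  cases nonempty_fintype (centralizer ({x, y} : Set E))
  have hxy : ⁅x, y⁆ ≠ 1 := by
    rw [← commutatorElement_inv y x]
    exact fun h1 => hz (inv_eq_one.mp h1)
  have h1 := gauss_eq_of_pair h hx hy hz
  rw [gauss_eq, gauss_eq] at h1
  have h2 := h.card_split hxy
  rw [Nat.card_eq_fintype_card (α := E), Nat.card_eq_fintype_card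
    (α := centralizer ({x, y} : Set E))] at h2
  rw [Nat.card_eq_fintype_card (α := centralizer ({x, y} : Set E))]
  rw [h2] at h1
  push_cast at h1
  have h3 : (Nat.card {w : E // w ^ 2 = 1} : ℤ) =
      2 * Nat.card {w : centralizer ({x, y} : Set E) // w ^ 2 = 1} +
      Fintype.card (centralizer ({x, y} : Set E)) := by linarith
  exact_mod_cast h3

/-- Existence of a hyperbolic pair. -/
theorem exists_pair_of_count (h : ExtraLike 2 E) (hN : 2 < Nat.card {w : E // w ^ 2 = 1}) :
    ∃ x y : E, x ^ 2 = 1 ∧ y ^ 2 = 1 ∧ ⁅y, x⁆ ≠ 1 := by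
  classical
  cases nonempty_fintype E
  obtain ⟨z, hz, hz1⟩ := exists_center_ne_one h
  have hS := qSetting_of_extraLike h hz hz1
  obtain ⟨w, hw, hwc⟩ : ∃ w : E, w ^ 2 = 1 ∧ w ∉ center E := by
    by_contra hall
    push Not at hall
    have h1 : Nat.card {w : E // w ^ 2 = 1} ≤ 2 := by
      rw [Nat.card_eq_fintype_card, Fintype.card_subtype]
      calc _ ≤ ({1, z} : Finset E).card := by
            apply Finset.card_le_card
            intro v hv
            rw [Finset.mem_filter] at hv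
            have := center_eq_of_two h hz hz1 (hall v hv.2)
            simpa using this
        _ ≤ 2 := Finset.card_le_two
    omega
  obtain ⟨g, hg⟩ : ∃ g : E, g * w ≠ w * g := by
    by_contra hall
    push Not at hall
    apply hwc
    rw [mem_center_iff]
    exact hall
  have hgw : ⁅g, w⁆ ≠ 1 := fun h1 => hg (commutatorElement_eq_one_iff_mul_comm.mp h1)
  by_cases hg2 : g ^ 2 = 1
  · exact ⟨w, g, hw, hg2, hgw⟩
  · refine ⟨w, w * g, hw, ?_, ?_⟩
    · have hS' := qSetting_of_extraLike h (h.comm_mem g w) hgw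
      rw [hS'.sq_mul, hw, one_mul, hS'.comm_symm w g]
      have h1 : g ^ 2 = ⁅g, w⁆ := (hS'.sq_mem g).resolve_left hg2
      rw [h1, ← sq]
      exact hS'.z_sq
    · rw [comm_mul_left h.comm_mem]
      simpa using hgw

/-- Groups with `N = 2` which are not commutative are quaternion groups of order 8. -/
theorem nonempty_q8_of_count (h : ExtraLike 2 E) (hc : ¬ IsMulCommutative E)
    (hN : Nat.card {w : E // w ^ 2 = 1} = 2) : Nonempty (QuaternionGroup 2 ≃* E) := by
  classical
  obtain ⟨x, y, hxy⟩ := exists_comm_ne_one hc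
  have hS := qSetting_of_extraLike h (h.comm_mem y x) (by
    rw [← commutatorElement_inv x y]
    exact fun h1 => hxy (inv_eq_one.mp h1))
  -- order 8
  have hcard : Nat.card E = 8 := by
    have hZ := h.card_center
    have h1 := hS.cases
    rw [hN, hZ] at h1
    set e : ℤ := (Nat.card E : ℤ) with he
    have hne2 : Nat.card E ≠ 2 := by
      intro h2
      have : IsCyclic E := isCyclic_of_prime_card h2
      exact hc IsCyclic.isMulCommutative
    have hne4 : Nat.card E ≠ 4 := by
      intro h2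
      exact hc (IsPGroup.isMulCommutative_of_card_eq_prime_sq (p := 2) (by rw [h2]; norm_num))
    rcases h1 with h1 | ⟨h1, -⟩
    · exfalso
      apply hne4
      have : e = 4 := by push_cast at h1; linarith
      rw [he] at this
      exact_mod_cast this
    · have h2 : (e - 2) * (e - 8) = 0 := by push_cast at h1; linear_combination h1
      rcases mul_eq_zero.mp h2 with h3 | h3
      · exfalso
        apply hne2
        have : e = 2 := by linarith
        rw [he] at this
        exact_mod_cast this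
      · have : e = 8 := by linarith
        rw [he] at this
        exact_mod_cast this
  have hinv : ⁅y, x⁆ ≠ 1 := by
    rw [← commutatorElement_inv x y]
    exact fun h1 => hxy (inv_eq_one.mp h1)
  set z := ⁅y, x⁆ with hzdef
  have hzcen : z ∈ center E := h.comm_mem y x
  have hinvol : ∀ w : E, w ^ 2 = 1 → w = 1 ∨ w = z := by
    intro w hw
    by_contra hne
    push Not at hne
    have h3 : 3 ≤ Nat.card {w : E // w ^ 2 = 1} := by
      cases nonempty_fintype E
      rw [Nat.card_eq_fintype_card, Fintype.card_subtype]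
      calc 3 = ({1, z, w} : Finset E).card := by
            rw [Finset.card_insert_of_notMem, Finset.card_insert_of_notMem, Finset.card_singleton]
            · simpa using hne.2.symm
            · simp only [Finset.mem_insert, Finset.mem_singleton, not_or]
              exact ⟨hinv.symm, hne.1.symm⟩
        _ ≤ _ := by
            apply Finset.card_le_card
            intro v hv
            simp only [Finset.mem_insert, Finset.mem_singleton] at hv
            rw [Finset.mem_filter]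
            refine ⟨Finset.mem_univ v, ?_⟩
            rcases hv with rfl | rfl | rfl
            · exact one_pow 2
            · exact hS.z_sq
            · exact hw
    omega
  have hnoncentral : ∀ w : E, w ∉ center E → w ^ 2 = z := by
    intro w hw
    refine (hS.sq_mem w).resolve_left fun h1 => hw ?_
    rcases hinvol w h1 with h2 | h2
    · rw [h2]; exact one_mem _
    · rw [h2]; exact hzcen
  have hxc : x ∉ center E := by
    intro h1
    apply hxy
    rw [commutatorElement_eq_one_iff_mul_comm]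
    exact (mem_center_iff.mp h1 y).symm
  have hyc : y ∉ center E := by
    intro h1
    apply hxy
    rw [commutatorElement_eq_one_iff_mul_comm]
    exact (mem_center_iff.mp h1 x)
  have hx2 := hnoncentral x hxc
  have hy2 := hnoncentral y hyc
  have hx4 : x ^ 4 = 1 := by
    rw [show 4 = 2 * 2 by norm_num, pow_mul, hx2]
    exact hS.z_sq
  have hord : orderOf x = 2 * 2 := by
    have := orderOf_eq_prime_pow (p := 2) (n := 1) (x := x)
      (by rw [pow_one, hx2]; exact hinv) (by norm_num; exact hx4)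
    simpa using this
  have hconj : y * x * y⁻¹ = x⁻¹ := by
    have h1 : y * x * y⁻¹ = z * x := by
      rw [hzdef, commutatorElement_def]; group
    rw [h1, ← hx2, eq_inv_iff_mul_eq_one, ← pow_succ, ← pow_succ]
    exact hx4
  have hymem : y ∉ zpowers x := by
    intro h1
    obtain ⟨k, rfl⟩ := mem_zpowers_iff.mp h1
    apply hxy
    rw [commutatorElement_eq_one_iff_mul_comm]
    exact ((Commute.refl x).zpow_right k).eq
  exact Cfsg.Agent.Lib.PGroups.Presentations.nonempty_quaternion_equiv (m := 2) hord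
    (by rw [hy2, hx2]) hconj hymem (by rw [hcard])

theorem two_le_count (h : ExtraLike 2 E) : 2 ≤ Nat.card {w : E // w ^ 2 = 1} := by
  classical
  cases nonempty_fintype E
  obtain ⟨z, hz, hz1⟩ := exists_center_ne_one h
  rw [Nat.card_eq_fintype_card, Fintype.card_subtype]
  calc 2 = ({1, z} : Finset E).card := (Finset.card_pair hz1.symm).symm
    _ ≤ _ := by
      apply Finset.card_le_card
      intro v hv
      simp only [Finset.mem_insert, Finset.mem_singleton] at hv
      rw [Finset.mem_filter]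
      refine ⟨Finset.mem_univ v, ?_⟩
      rcases hv with rfl | rfl
      · exact one_pow 2
      · exact h.center_pow _ hz

/-- Classification of extra-like 2-groups by order and count. -/
theorem nonempty_equiv_of_count {E₁ E₂ : Type*} [Group E₁] [Group E₂] [Finite E₁] [Finite E₂]
    (h₁ : ExtraLike 2 E₁) (h₂ : ExtraLike 2 E₂) (hc : Nat.card E₁ = Nat.card E₂)
    (hN : Nat.card {w : E₁ // w ^ 2 = 1} = Nat.card {w : E₂ // w ^ 2 = 1}) :
    Nonempty (E₁ ≃* E₂) := by
  classical
  induction hk : Nat.card E₁ using Nat.strong_induction_on generalizing E₁ E₂ with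
  | _ k ih =>
    by_cases hcomm : IsMulCommutative E₁
    · have h1 := card_eq_of_comm h₁ hcomm
      obtain ⟨z₁, -, hz₁⟩ := exists_center_ne_one h₁
      obtain ⟨z₂, -, hz₂⟩ := exists_center_ne_one h₂
      obtain ⟨ψ, -⟩ := exists_iso_of_prime_card h1 (hc ▸ h1) hz₁ hz₂
      exact ⟨ψ⟩
    have hne : Nat.card E₁ ≠ 2 := fun h1 => hcomm (by
      have : IsCyclic E₁ := isCyclic_of_prime_card h1
      exact IsCyclic.isMulCommutative)
    have hcomm₂ : ¬ IsMulCommutative E₂ := not_comm_of_card_ne h₂ (hc ▸ hne)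
    by_cases hN2 : 2 < Nat.card {w : E₁ // w ^ 2 = 1}
    swap
    · -- `N ≤ 2`
      have h21 : Nat.card {w : E₁ // w ^ 2 = 1} = 2 := le_antisymm (by omega) (two_le_count h₁)
      obtain ⟨e₁⟩ := nonempty_q8_of_count h₁ hcomm h21
      obtain ⟨e₂⟩ := nonempty_q8_of_count h₂ hcomm₂ (hN ▸ h21)
      exact ⟨e₁.symm.trans e₂⟩
    · obtain ⟨x₁, y₁, hx₁, hy₁, hz₁⟩ := exists_pair_of_count h₁ hN2
      obtain ⟨x₂, y₂, hx₂, hy₂, hz₂⟩ := exists_pair_of_count h₂ (hN ▸ hN2)
      have hinv₁ : ⁅x₁, y₁⁆ ≠ 1 := by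
        rw [← commutatorElement_inv y₁ x₁]
        exact fun h1 => hz₁ (inv_eq_one.mp h1)
      have hinv₂ : ⁅x₂, y₂⁆ ≠ 1 := by
        rw [← commutatorElement_inv y₂ x₂]
        exact fun h1 => hz₂ (inv_eq_one.mp h1)
      have hC₁ := h₁.centralizer_pair hinv₁
      have hC₂ := h₂.centralizer_pair hinv₂
      have hs₁ := h₁.card_split hinv₁
      have hs₂ := h₂.card_split hinv₂
      have hcC : Nat.card (centralizer ({x₁, y₁} : Set E₁)) =
          Nat.card (centralizer ({x₂, y₂} : Set E₂)) := by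
        rw [hs₁, hs₂] at hc
        exact Nat.eq_of_mul_eq_mul_left (by positivity) hc
      have hNC : Nat.card {w : centralizer ({x₁, y₁} : Set E₁) // w ^ 2 = 1} =
          Nat.card {w : centralizer ({x₂, y₂} : Set E₂) // w ^ 2 = 1} := by
        have h1 := count_of_pair h₁ hx₁ hy₁ hz₁
        have h2 := count_of_pair h₂ hx₂ hy₂ hz₂
        rw [h1, h2, hcC] at hN
        omega
      have hlt : Nat.card (centralizer ({x₁, y₁} : Set E₁)) < k := by
        rw [← hk, hs₁]
        have h0 : 0 < Nat.card (centralizer ({x₁, y₁} : Set E₁)) := Nat.card_pos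
        nlinarith
      obtain ⟨φ⟩ := ih _ hlt hC₁ hC₂ hcC hNC rfl
      obtain ⟨ψ, -⟩ := exists_iso_of_pairs h₁ h₂ hc hx₁ hy₁ hx₂ hy₂ hz₁ hz₂ φ
        (by
          rintro t ht rfl
          have hmem : (⟨⁅y₁, x₁⁆, ht⟩ : centralizer ({x₁, y₁} : Set E₁)) ∈
              center (centralizer ({x₁, y₁} : Set E₁)) := by
            rw [mem_center_iff]
            intro g
            exact Subtype.ext (mem_center_iff.mp (h₁.comm_mem y₁ x₁) g)
          have h3 : φ ⟨⁅y₁, x₁⁆, ht⟩ ∈ center (centralizer ({x₂, y₂} : Set E₂)) := by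
            rw [mem_center_iff]
            intro g
            obtain ⟨g', rfl⟩ := φ.surjective g
            rw [← map_mul, ← map_mul, mem_center_iff.mp hmem g']
          have h4 : φ ⟨⁅y₁, x₁⁆, ht⟩ ≠ 1 := by
            intro h5
            apply hz₁
            have h6 := φ.injective (h5.trans (map_one φ).symm)
            exact congrArg Subtype.val h6
          have h7 := center_eq_of_two hC₂ (mem_center_of_mem_center (h₂.comm_mem y₂ x₂))
            (fun h8 => hz₂ (congrArg Subtype.val h8)) h3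
          rcases h7 with h8 | h8
          · exact (h4 h8).elim
          · exact congrArg Subtype.val h8)
      exact ⟨ψ⟩

/-- The count of `x^2 = 1` in an extraspecial 2-group. -/
theorem count_of_isExtraspecial (hE : Cfsg.IsExtraspecial 2 E) :
    ∃ m : ℕ, 1 ≤ m ∧ Nat.card E = 2 ^ (2 * m + 1) ∧
      (Nat.card {x : E // x ^ 2 = 1} = 2 ^ (2 * m) + 2 ^ m ∨
        Nat.card {x : E // x ^ 2 = 1} + 2 ^ m = 2 ^ (2 * m)) := by
  classical
  obtain ⟨m, hm, hcard⟩ := IsExtraspecial.card_eq hE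
  refine ⟨m, hm, hcard, ?_⟩
  have h := extraLike_of_isExtraspecial hE
  obtain ⟨z, hz, hz1⟩ := exists_center_ne_one h
  have hS := qSetting_of_extraLike h hz hz1
  have hcases := hS.cases
  rw [h.card_center, hcard] at hcases
  have hmain : (2 * (Nat.card {x : E // x ^ 2 = 1} : ℤ) - ((2 ^ (2 * m + 1) : ℕ) : ℤ)) *
      (2 * (Nat.card {x : E // x ^ 2 = 1} : ℤ) - ((2 ^ (2 * m + 1) : ℕ) : ℤ)) =
        2 ^ (2 * (m + 1)) := by
    rcases hcases with h0 | ⟨h1, -⟩
    · exfalso
      -- `u` has to be half of an odd power: impossible since the centre has the square property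
      have h2 := hS.z_sq
      have hall : ∀ u ∈ center E, u ^ 2 = 1 := by
        intro u hu
        rcases center_eq_of_two h hz hz1 hu with rfl | rfl
        · exact one_pow 2
        · exact h2
      cases nonempty_fintype E
      cases nonempty_fintype (center E)
      have hgs := hS.gauss_sq
      have hg := gauss_eq E
      rw [← Nat.card_eq_fintype_card, hcard] at hg
      rw [h0] at hg
      rw [hg] at hgs
      have h3 : ∑ u : center E, sgn (u : E) = 2 := by
        have h4 : ∀ u : center E, sgn (u : E) = 1 := fun u => by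
          rw [sgn, hall u u.2, val_one]
        simp only [h4, Finset.sum_const, Finset.card_univ]
        rw [← Nat.card_eq_fintype_card, h.card_center]
        simp
      rw [h3] at hgs
      have h5 : ((Fintype.card E : ℤ)) * 2 ≠ 0 := by
        have : 0 < Fintype.card E := Fintype.card_pos
        positivity
      simp at hgs
    · rw [h1]
      push_cast
      ring
  obtain ⟨l, hl, ht⟩ := sq_eq_two_pow hmain
  have hlm : l = m + 1 := by omega
  subst hlm
  rcases ht with ht | ht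
  · left
    have h3 : (Nat.card {x : E // x ^ 2 = 1} : ℤ) = 2 ^ (2 * m) + 2 ^ m := by
      push_cast at ht
      rw [pow_succ, pow_succ] at ht
      linarith
    exact_mod_cast h3
  · right
    have h3 : (Nat.card {x : E // x ^ 2 = 1} : ℤ) + 2 ^ m = 2 ^ (2 * m) := by
      push_cast at ht
      rw [pow_succ, pow_succ] at ht
      linarith
    exact_mod_cast h3

end Two

end Cfsg.Agent.Lib.PGroups.ExtraIso
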