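import Cfsg.Agent.Lib.PGroups.ExtraIso
import Cfsg.Agent.Lib.LargeExtra.Duality
import Cfsg.Prelude.Def_CaseTheorems

/-!
# The 2-rank of extraspecial 2-groups
-/

set_option autoImplicit false
set_option linter.unusedSectionVars false
set_option linter.unusedVariables false

namespace Cfsg.Agent.Lib.PGroups.ExtraRank

open Subgroup Cfsg.Agent.Lib.PGroups.Basic Cfsg.Agent.Lib.PGroups.ClassTwo
  Cfsg.Agent.Lib.PGroups.Special Cfsg.Agent.Lib.PGroups.ExtraGauss
  Cfsg.Agent.Lib.PGroups.ExtraIso
open scoped commutatorElement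

variable {E : Type*} [Group E]

namespace QSetting'

variable {z : E} (h : QSetting E z)
include h

theorem eps_mul_right (x y u : E) : eps x (y * u) = eps x y * eps x u := by
  rw [h.eps_symm, h.eps_mul_left, h.eps_symm y, h.eps_symm u]

end QSetting'

open Classical in
/-- Sum over a subgroup of a character given by commutation. -/
theorem sum_eps_subgroup [Fintype E] {z : E} (h : QSetting E z) (A : Subgroup E) [Fintype A]
    (x : E) : ∑ a : A, eps x (a : E) =
      if x ∈ centralizer (A : Set E) then (Fintype.card A : ℤ) else 0 := by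
  classical
  split_ifs with hx
  · have h1 : ∀ a : A, eps x (a : E) = 1 := by
      intro a
      have h2 : ⁅x, (a : E)⁆ = 1 := by
        rw [commutatorElement_eq_one_iff_mul_comm]
        exact (mem_centralizer_iff.mp hx a a.2).symm
      rw [eps, h2, val_one]
    simp [h1]
  · rw [mem_centralizer_iff] at hx
    push Not at hx
    obtain ⟨a₀, ha₀, hne⟩ := hx
    apply sum_eq_zero_of_character (fun a : A => eps x (a : E)) (a₀ := ⟨a₀, ha₀⟩)
    · intro a b
      exact QSetting'.eps_mul_right h x a b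
    · apply val_of_ne
      intro h2
      apply hne
      exact (commutatorElement_eq_one_iff_mul_comm.mp h2).symm

/-- The Gauss sum is computed on the centralizer of any elementary abelian subgroup. -/
theorem gauss_eq_sum_centralizer [Fintype E] {z : E} (h : QSetting E z) (A : Subgroup E) [Fintype A]
    [Fintype (centralizer (A : Set E))] (hA : ∀ a ∈ A, a ^ 2 = 1) :
    gauss E = ∑ x : centralizer (A : Set E), sgn (x : E) := by
  classical
  have hne : (Fintype.card A : ℤ) ≠ 0 := by
    have : 0 < Fintype.card A := Fintype.card_pos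
    positivity
  apply mul_left_cancel₀ hne
  have h1 : (Fintype.card A : ℤ) * gauss E = ∑ a : A, ∑ x : E, sgn (x * (a : E)) := by
    have h2 : ∀ a : A, ∑ x : E, sgn (x * (a : E)) = gauss E := by
      intro a
      exact Equiv.sum_comp (Equiv.mulRight (a : E)) sgn
    simp only [h2, Finset.sum_const, Finset.card_univ, nsmul_eq_mul]
  rw [h1]
  have h3 : ∀ (a : A) (x : E), sgn (x * (a : E)) = sgn x * eps x (a : E) := by
    intro a x
    rw [h.sgn_mul]
    have : sgn (a : E) = 1 := by rw [sgn, hA a a.2, val_one]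
    rw [this, mul_one]
  simp only [h3]
  rw [Finset.sum_comm]
  simp only [← Finset.mul_sum]
  simp only [sum_eps_subgroup h A]
  have h4 : ∀ x : E, sgn x * (if x ∈ centralizer (A : Set E) then (Fintype.card A : ℤ) else 0) =
      if x ∈ centralizer (A : Set E) then (Fintype.card A : ℤ) * sgn x else 0 := by
    intro x
    split_ifs
    · ring
    · ring
  simp only [h4]
  rw [← Finset.sum_filter]
  have h5 := Finset.sum_subtype (F := inferInstance)
    (Finset.univ.filter (· ∈ centralizer (A : Set E))) (p := (· ∈ centralizer (A : Set E)))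
    (by simp) (fun u : E => (Fintype.card A : ℤ) * sgn u)
  rw [h5, Finset.mul_sum]

/-- Adding a commuting involution to an elementary abelian subgroup. -/
theorem ea_closure_insert {A : Subgroup E} (hAc : IsMulCommutative A) (hA : ∀ a ∈ A, a ^ 2 = 1)
    {x : E} (hx : x ^ 2 = 1) (hxc : x ∈ centralizer (A : Set E)) :
    IsMulCommutative (closure ((A : Set E) ∪ {x})) ∧ ∀ b ∈ closure ((A : Set E) ∪ {x}), b ^ 2 = 1 := by
  have hcomm : ∀ a ∈ (A : Set E) ∪ {x}, ∀ b ∈ (A : Set E) ∪ {x}, a * b = b * a := by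
    rintro a (ha | rfl) b (hb | rfl)
    · exact congrArg Subtype.val (hAc.is_comm.comm (⟨a, ha⟩ : A) ⟨b, hb⟩)
    · exact mem_centralizer_iff.mp hxc a ha
    · exact (mem_centralizer_iff.mp hxc b hb).symm
    · rfl
  have hc := isMulCommutative_closure hcomm
  refine ⟨hc, ?_⟩
  intro b hb
  have hmem : ∀ b (hb : b ∈ closure ((A : Set E) ∪ {x})), b ^ 2 = 1 := by
    intro b hb
    induction hb using closure_induction with
    | mem u hu =>
      rcases hu with hu | rfl
      · exact hA u hu
      · exact hx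
    | one => simp
    | mul u v hu hv ihu ihv =>
      have huv : u * v = v * u :=
        congrArg Subtype.val (hc.is_comm.comm (⟨u, hu⟩ : Subgroup.closure ((A : Set E) ∪ {x})) ⟨v, hv⟩)
      rw [(show Commute u v from huv).mul_pow, ihu, ihv, one_mul]
    | inv u hu ih =>
      rw [inv_pow, ih, inv_one]
  exact hmem b hb

/-- If `2^u + 2^v = 2^w`, then `u = v`. -/
theorem pow_add_pow_eq_pow {u v w : ℕ} (h : 2 ^ u + 2 ^ v = 2 ^ w) : u = v := by
  wlog huv : u ≤ v generalizing u v
  · exact (this (by rw [add_comm]; exact h) (by omega)).symm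
  obtain ⟨d, rfl⟩ := Nat.exists_eq_add_of_le huv
  rcases Nat.eq_zero_or_pos d with rfl | hd
  · rfl
  exfalso
  have h1 : 2 ^ u * (1 + 2 ^ d) = 2 ^ w := by rw [← h, pow_add]; ring
  have h2 : (1 + 2 ^ d) ∣ 2 ^ w := ⟨2 ^ u, by rw [← h1]; ring⟩
  obtain ⟨e, -, he⟩ := (Nat.dvd_prime_pow Nat.prime_two).mp h2
  obtain ⟨d', rfl⟩ : ∃ d', d = d' + 1 := ⟨d - 1, by omega⟩
  rcases e with _ | e
  · simp at he
  · rw [pow_succ, pow_succ] at he
    omega

/-- The main formula for maximal elementary abelian subgroups. -/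
theorem card_maximal_ea [Finite E] (h : ExtraLike 2 E) (A : Subgroup E)
    (hAc : IsMulCommutative A) (hA : ∀ a ∈ A, a ^ 2 = 1)
    (hmax : ∀ B : Subgroup E, A ≤ B → IsMulCommutative B → (∀ b ∈ B, b ^ 2 = 1) → B = A) {m : ℕ}
    (hcard : Nat.card E = 2 ^ (2 * m + 1)) :
    (Nat.card {x : E // x ^ 2 = 1} = 2 ^ (2 * m) + 2 ^ m → Nat.card A = 2 ^ (m + 1)) ∧
    (Nat.card {x : E // x ^ 2 = 1} + 2 ^ m = 2 ^ (2 * m) → Nat.card A = 2 ^ m) := by
  classical
  cases nonempty_fintype E
  obtain ⟨z, hz, hz1⟩ := exists_center_ne_one h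
  have hS := qSetting_of_extraLike h hz hz1
  have hmaxmem : ∀ x : E, x ^ 2 = 1 → x ∈ centralizer (A : Set E) → x ∈ A := by
    intro x hx hxc
    obtain ⟨h1, h2⟩ := ea_closure_insert hAc hA hx hxc
    have h3 := hmax _ ((Set.subset_union_left).trans subset_closure) h1 h2
    rw [← h3]
    exact subset_closure (Or.inr rfl)
  have hle : A ≤ centralizer (A : Set E) := by
    intro a ha
    rw [mem_centralizer_iff]
    intro b hb
    exact congrArg Subtype.val (hAc.is_comm.comm (⟨b, hb⟩ : A) ⟨a, ha⟩)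
  have hzA : z ∈ A := hmaxmem z hS.z_sq (mem_centralizer_iff.mpr fun a _ => mem_center_iff.mp hz a)
  have hT := gauss_eq_sum_centralizer hS A hA
  -- on the centralizer, sgn is determined
  have hsgn : ∀ x : centralizer (A : Set E), sgn (x : E) =
      2 * (if (x : E) ∈ A then (1 : ℤ) else 0) - 1 := by
    intro x
    split_ifs with hx
    · rw [sgn, hA x hx, val_one]; norm_num
    · have h1 : (x : E) ^ 2 ≠ 1 := fun h2 => hx (hmaxmem x h2 x.2)
      rw [sgn, val_of_ne h1]; norm_num
  have hcardA : (Finset.univ.filter fun x : centralizer (A : Set E) => (x : E) ∈ A).card =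
      Fintype.card A := by
    rw [← Fintype.card_subtype]
    apply Fintype.card_congr
    exact
      { toFun := fun x => ⟨x.1.1, x.2⟩
        invFun := fun a => ⟨⟨a.1, hle a.2⟩, a.2⟩
        left_inv := fun x => rfl
        right_inv := fun a => rfl }
  have hT2 : gauss E = 2 * (Fintype.card A : ℤ) - Fintype.card (centralizer (A : Set E)) := by
    rw [hT]
    simp only [hsgn]
    rw [Finset.sum_sub_distrib, ← Finset.mul_sum, Finset.sum_ite]
    simp only [Finset.sum_const_zero, add_zero, Finset.sum_const, nsmul_eq_mul, mul_one, hcardA,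
      Finset.card_univ]
  -- duality
  have hSet : Cfsg.Agent.Lib.LargeExtra.Duality.Setting E z := by
    refine ⟨hz1, ?_, fun a => mem_center_iff.mp hz a, fun a b => hS.comm_mem a b, ?_⟩
    · rw [← sq]; exact hS.z_sq
    · intro a ha
      exact center_eq_of_two h hz hz1 (mem_center_iff.mpr fun g => (ha g).symm)
  have hdual := hSet.card_mul_card_centralizer A hzA
  have hG : IsPGroup 2 E := h.isPGroup
  obtain ⟨a, ha⟩ := IsPGroup.iff_card.mp (hG.to_subgroup A)
  obtain ⟨c, hc⟩ := IsPGroup.iff_card.mp (hG.to_subgroup (centralizer (A : Set E)))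
  rw [ha, hc, hcard, ← pow_add, ← pow_succ'] at hdual
  have hac : a + c = 2 * m + 1 + 1 := Nat.pow_right_injective (le_refl 2) hdual
  have hgauss := gauss_eq E
  rw [hT2, ← Nat.card_eq_fintype_card (α := E), hcard, ← Nat.card_eq_fintype_card (α := A),
    ← Nat.card_eq_fintype_card (α := centralizer (A : Set E)), ha, hc] at hgauss
  push_cast at hgauss
  constructor
  · intro hN
    rw [hN] at hgauss
    push_cast at hgauss
    have h1 : (2 : ℤ) ^ (m + 1) + 2 ^ c = 2 ^ (a + 1) := by
      rw [pow_succ 2 a, pow_succ 2 m, pow_succ 2 (2 * m)] at *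
      linarith
    have h2 : 2 ^ (m + 1) + 2 ^ c = 2 ^ (a + 1) := by exact_mod_cast h1
    have h3 := pow_add_pow_eq_pow h2
    rw [ha, show a = m + 1 by omega]
  · intro hN
    have hN' : (Nat.card {x : E // x ^ 2 = 1} : ℤ) + 2 ^ m = 2 ^ (2 * m) := by exact_mod_cast hN
    have h1 : (2 : ℤ) ^ (a + 1) + 2 ^ (m + 1) = 2 ^ c := by
      rw [pow_succ 2 a, pow_succ 2 m]
      rw [pow_succ 2 (2 * m)] at hgauss
      linarith
    have h2 : 2 ^ (a + 1) + 2 ^ (m + 1) = 2 ^ c := by exact_mod_cast h1
    have h3 := pow_add_pow_eq_pow h2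
    rw [ha, show a = m by omega]

/-- Every elementary abelian subgroup lies in a maximal one. -/
theorem exists_maximal_ea [Finite E] (A : Subgroup E) (hAc : IsMulCommutative A)
    (hA : ∀ a ∈ A, a ^ 2 = 1) :
    ∃ M : Subgroup E, A ≤ M ∧ IsMulCommutative M ∧ (∀ a ∈ M, a ^ 2 = 1) ∧
      ∀ B : Subgroup E, M ≤ B → IsMulCommutative B → (∀ b ∈ B, b ^ 2 = 1) → B = M := by
  obtain ⟨M, hAM, hM⟩ := (Set.toFinite {B : Subgroup E | IsMulCommutative B ∧ ∀ b ∈ B, b ^ 2 = 1}).exists_le_maximal
    (show A ∈ _ from ⟨hAc, hA⟩)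
  exact ⟨M, hAM, hM.1.1, hM.1.2, fun B hMB hBc hB =>
    le_antisymm (hM.2 ⟨hBc, hB⟩ hMB) hMB⟩

/-- Plus type: rank `m + 1`. -/
theorem prank_of_plus [Finite E] (h : ExtraLike 2 E) {m : ℕ} (hcard : Nat.card E = 2 ^ (2 * m + 1))
    (hN : Nat.card {x : E // x ^ 2 = 1} = 2 ^ (2 * m) + 2 ^ m) :
    Cfsg.PRankLE 2 (m + 1) E ∧ ¬ Cfsg.PRankLE 2 m E := by
  constructor
  · intro A hAc hA
    obtain ⟨M, hAM, hMc, hM, hmax⟩ := exists_maximal_ea A hAc hA
    have := (card_maximal_ea h M hMc hM hmax hcard).1 hN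
    rw [← this]
    exact Subgroup.card_le_of_le hAM
  · intro hr
    obtain ⟨M, -, hMc, hM, hmax⟩ := exists_maximal_ea (⊥ : Subgroup E) inferInstance (by simp)
    have h1 := (card_maximal_ea h M hMc hM hmax hcard).1 hN
    have h2 := hr M hMc hM
    rw [h1] at h2
    have := (Nat.pow_le_pow_iff_right (by norm_num : 1 < 2)).mp h2
    omega

/-- Minus type: rank `m`. -/
theorem prank_of_minus [Finite E] (h : ExtraLike 2 E) {m : ℕ} (hm : 1 ≤ m)
    (hcard : Nat.card E = 2 ^ (2 * m + 1))
    (hN : Nat.card {x : E // x ^ 2 = 1} + 2 ^ m = 2 ^ (2 * m)) :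
    Cfsg.PRankLE 2 m E ∧ ¬ Cfsg.PRankLE 2 (m - 1) E := by
  constructor
  · intro A hAc hA
    obtain ⟨M, hAM, hMc, hM, hmax⟩ := exists_maximal_ea A hAc hA
    have := (card_maximal_ea h M hMc hM hmax hcard).2 hN
    rw [← this]
    exact Subgroup.card_le_of_le hAM
  · intro hr
    obtain ⟨M, -, hMc, hM, hmax⟩ := exists_maximal_ea (⊥ : Subgroup E) inferInstance (by simp)
    have h1 := (card_maximal_ea h M hMc hM hmax hcard).2 hN
    have h2 := hr M hMc hM
    rw [h1] at h2
    have := (Nat.pow_le_pow_iff_right (by norm_num : 1 < 2)).mp h2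
    omega

/-- The number of elements of order 4. -/
theorem card_order_four [Finite E] (h : ExtraLike 2 E) :
    Nat.card {x : E // orderOf x = 4} + Nat.card {x : E // x ^ 2 = 1} = Nat.card E := by
  classical
  cases nonempty_fintype E
  obtain ⟨z, hz, hz1⟩ := exists_center_ne_one h
  have hS := qSetting_of_extraLike h hz hz1
  have hiff : ∀ x : E, orderOf x = 4 ↔ ¬ x ^ 2 = 1 := by
    intro x
    constructor
    · intro h1 h2
      have := orderOf_dvd_of_pow_eq_one h2
      rw [h1] at this
      norm_num at this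
    · intro h1
      have h2 : x ^ 4 = 1 := by
        rcases hS.sq_mem x with h3 | h3
        · exact (h1 h3).elim
        · rw [show 4 = 2 * 2 by norm_num, pow_mul, h3]
          exact hS.z_sq
      have := orderOf_eq_prime_pow (p := 2) (n := 1) (x := x)
        (by rw [pow_one]; exact h1) (by norm_num; exact h2)
      simpa using this
  rw [Nat.card_eq_fintype_card, Nat.card_eq_fintype_card, Nat.card_eq_fintype_card,
    Fintype.card_subtype, Fintype.card_subtype]
  simp only [hiff]
  rw [add_comm, Finset.card_filter_add_card_filter_not, Finset.card_univ]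

end Cfsg.Agent.Lib.PGroups.ExtraRank
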