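/-
Structure of `Ω₁` and `Ω₂` of a metacyclic `p`-group, `p` odd, without cyclic subgroups of index `p`.
-/
import Cfsg.Agent.Lib.Regular.Metacyclic
import Cfsg.Agent.Lib.Coprime.MetaAction

set_option autoImplicit false

namespace Cfsg.Agent.Lib.PGroups.RankTwoStruct

open Cfsg Subgroup
open Cfsg.Agent.Lib.Regular.Basic Cfsg.Agent.Lib.Regular.Metacyclic
  Cfsg.Agent.Lib.Coprime.MetaAction Cfsg.Agent.Lib.PGroups.NormalRankTwo
  Cfsg.Agent.Lib.PGroups.MaxAbelian
open scoped commutatorElement

universe u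

variable {p : ℕ} [hp : Fact p.Prime]

/-- A finite cyclic group of exponent dividing `p` has at most `p` elements. -/
theorem card_le_of_isCyclic {H : Type*} [Group H] [Finite H] [IsCyclic H]
    (h : ∀ x : H, x ^ p = 1) : Nat.card H ≤ p := by
  have hpp := hp.out
  obtain ⟨g, hg⟩ := IsCyclic.exists_generator (α := H)
  have h1 : orderOf g = Nat.card H := orderOf_eq_card_of_forall_mem_zpowers hg
  rw [← h1]
  exact Nat.le_of_dvd hpp.pos (orderOf_dvd_of_pow_eq_one (h g))

/-- `Ω₁` of a metacyclic `p`-group. -/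
theorem exists_omega {M : Type u} [Group M] [Finite M] (hp2 : p ≠ 2) (hM : IsPGroup p M)
    (hmc : IsMetacyclic M) :
    ∃ N : Subgroup M, (∀ g, g ∈ N ↔ g ^ p = 1) ∧ N.Normal ∧ Nat.card N ≤ p ^ 2 := by
  have hpp := hp.out
  have hR := regN_one_of_isMetacyclic hp2 hM hmc
  let N : Subgroup M :=
    { carrier := {g | g ^ p = 1}
      mul_mem' := by
        intro a b ha hb
        have h1 := pow_eq_imp (p := p) _ M rfl hM hR a b⁻¹ (by
          rw [inv_pow, show b ^ p = 1 from hb, inv_one]; exact ha)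
        have h2 : a⁻¹ * b⁻¹ = (b * a)⁻¹ := by group
        rw [h2, inv_pow, inv_eq_one] at h1
        -- `(b * a)^p = 1` gives `(a * b)^p = 1` after conjugating
        have h3 : (a * b) ^ p = a * (b * a) ^ p * a⁻¹ := by
          rw [← conj_pow]; congr 1; group
        show (a * b) ^ p = 1
        rw [h3, h1, mul_one, mul_inv_cancel]
      one_mem' := one_pow p
      inv_mem' := by
        intro a ha
        show a⁻¹ ^ p = 1
        rw [inv_pow, show a ^ p = 1 from ha, inv_one] }
  have hN : ∀ g, g ∈ N ↔ g ^ p = 1 := fun g => Iff.rfl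
  have hn : N.Normal := ⟨fun n hn g => by
    rw [hN] at hn ⊢
    rw [conj_pow, hn, mul_one, mul_inv_cancel]⟩
  refine ⟨N, hN, hn, ?_⟩
  obtain ⟨A, hA, hAc, hQc⟩ := hmc
  let f : N →* M ⧸ A := (QuotientGroup.mk' A).comp N.subtype
  have h1 : Nat.card f.ker * f.ker.index = Nat.card N := Subgroup.card_mul_index _
  rw [Subgroup.index_ker] at h1
  have h2 : Nat.card f.range ≤ p := by
    apply card_le_of_isCyclic
    rintro ⟨_, x, rfl⟩
    apply Subtype.ext
    show (f x) ^ p = 1
    rw [← map_pow, show x ^ p = 1 from Subtype.ext ((hN x.1).mp x.2), map_one]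
  have h3 : Nat.card f.ker ≤ p := by
    let j : f.ker →* A :=
      { toFun := fun x => ⟨x.1.1, by
          have := x.2
          rw [MonoidHom.mem_ker] at this
          exact (QuotientGroup.eq_one_iff _).mp this⟩
        map_one' := rfl
        map_mul' := fun _ _ => rfl }
    have hj : Function.Injective j := by
      intro a b hab
      have : a.1.1 = b.1.1 := congrArg (fun z : A => (z : M)) hab
      exact Subtype.ext (Subtype.ext this)
    haveI : IsCyclic f.ker := isCyclic_of_injective j hj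
    apply card_le_of_isCyclic
    rintro ⟨x, hx⟩
    apply Subtype.ext
    apply Subtype.ext
    exact (hN x.1).mp x.2
  rw [← h1, pow_two]
  exact Nat.mul_le_mul h3 h2

/-- `M / N` is not cyclic if `M` has no cyclic subgroup of index `p`. -/
theorem quotient_not_isCyclic {M : Type u} [Group M] [Finite M] (hM : IsPGroup p M)
    (hnc : ¬ IsCyclic M) (hno : ∀ C : Subgroup M, IsCyclic C → C.index ≠ p)
    (N : Subgroup M) [N.Normal] (hN : ∀ g, g ∈ N ↔ g ^ p = 1) (hcN : Nat.card N ≤ p ^ 2) :
    ¬ IsCyclic (M ⧸ N) := by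
  have hpp := hp.out
  intro hQ
  obtain ⟨q, hq⟩ := IsCyclic.exists_generator (α := M ⧸ N)
  obtain ⟨g, rfl⟩ := QuotientGroup.mk_surjective q
  -- the cyclic subgroup generated by `g`
  let D : Subgroup M := zpowers g
  have hDc : IsCyclic D := inferInstance
  have hsup : D ⊔ N = ⊤ := by
    rw [eq_top_iff]
    intro x _
    obtain ⟨k, hk⟩ := Subgroup.mem_zpowers_iff.mp (hq (x : M ⧸ N))
    have h1 : ((g ^ k : M) : M ⧸ N) = x := by simpa using hk
    have h2 : (g ^ k)⁻¹ * x ∈ N := QuotientGroup.eq.mp h1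
    have h3 : x = g ^ k * ((g ^ k)⁻¹ * x) := by group
    rw [h3]
    exact Subgroup.mul_mem _ (Subgroup.mem_sup_left (Subgroup.mem_zpowers_iff.mpr ⟨k, rfl⟩))
      (Subgroup.mem_sup_right h2)
  -- `|M : D| = |N : N ⊓ D|`
  have hidx : D.index * Nat.card (D ⊓ N : Subgroup M) = Nat.card N := by
    have h1 : Nat.card D * D.index = Nat.card M := Subgroup.card_mul_index D
    have h2 : Nat.card N * N.index = Nat.card M := Subgroup.card_mul_index N
    have h3 : N.relIndex D = N.index := by
      have := Subgroup.relIndex_sup_right (H := D) (K := N)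
      rw [hsup] at this
      rw [← this, Subgroup.relIndex_top_right]
    have h4 : Nat.card D = N.relIndex D * Nat.card (D ⊓ N : Subgroup M) := by
      have := relIndex_mul_card (G := M) (H := D ⊓ N) (K := D) inf_le_left
      rw [Subgroup.inf_relIndex_left] at this
      exact this.symm
    have h5 : 0 < N.index := Nat.pos_of_ne_zero (Subgroup.index_ne_zero_of_finite)
    have h6 : N.index * (D.index * Nat.card (D ⊓ N : Subgroup M)) = N.index * Nat.card N := by
      rw [h3] at h4
      nlinarith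
    exact Nat.eq_of_mul_eq_mul_left h5 h6
  obtain ⟨m, hm⟩ := IsPGroup.iff_card.mp hM
  have hdvd : D.index ∣ p ^ m := hm ▸ Subgroup.index_dvd_card D
  obtain ⟨a, -, ha⟩ := (Nat.dvd_prime_pow hpp).mp hdvd
  by_cases hg : g = 1
  · -- `M = N` has exponent `p` and order at most `p ^ 2`
    have hNtop : N = ⊤ := by
      have hD : D = ⊥ := by
        show zpowers g = ⊥
        rw [hg, Subgroup.zpowers_one_eq_bot]
      rwa [hD, bot_sup_eq] at hsup
    have hntr : Nontrivial M := by
      by_contra h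
      rw [not_nontrivial_iff_subsingleton] at h
      exact hnc isCyclic_of_subsingleton
    obtain ⟨x, hx⟩ := exists_ne (1 : M)
    have hxp : x ^ p = 1 := (hN x).mp (by rw [hNtop]; trivial)
    have hox : orderOf x = p := orderOf_eq_prime hxp hx
    have hmle : m ≤ 2 := by
      have h1 : Nat.card M ≤ p ^ 2 := by
        have : Nat.card N = Nat.card M := by rw [hNtop]; simp
        rwa [this] at hcN
      rw [hm] at h1
      exact (Nat.pow_le_pow_iff_right hpp.one_lt).mp h1
    have hm2 : m = 2 := by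
      have h0 : m ≠ 0 := by
        rintro rfl
        rw [pow_zero] at hm
        have : Subsingleton M := (Nat.card_eq_one_iff_unique.mp hm).1
        exact hnc isCyclic_of_subsingleton
      have h1 : m ≠ 1 := by
        rintro rfl
        rw [pow_one] at hm
        haveI : Fact (Nat.card M).Prime := ⟨hm ▸ hpp⟩
        exact hnc (isCyclic_of_prime_card rfl)
      omega
    apply hno (zpowers x) inferInstance
    have h1 := Subgroup.card_mul_index (zpowers x)
    rw [Nat.card_zpowers, hox, hm, hm2, pow_two] at h1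
    exact Nat.eq_of_mul_eq_mul_left hpp.pos h1
  · -- `D ⊓ N` is nontrivial
    have hgorder : ∃ y ∈ D, orderOf y = p := by
      obtain ⟨k, hk⟩ := IsPGroup.iff_orderOf.mp hM g
      have hk0 : k ≠ 0 := by
        rintro rfl
        rw [pow_zero, orderOf_eq_one_iff] at hk
        exact hg hk
      obtain ⟨k, rfl⟩ := Nat.exists_eq_succ_of_ne_zero hk0
      refine ⟨g ^ p ^ k, Subgroup.mem_zpowers_iff.mpr ⟨(p ^ k : ℕ), by rw [zpow_natCast]⟩, ?_⟩
      rw [orderOf_pow_of_dvd (pow_ne_zero _ hpp.ne_zero) (by rw [hk]; exact pow_dvd_pow _ (Nat.le_succ k)),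
        hk, Nat.succ_eq_add_one, pow_succ]
      exact Nat.mul_div_cancel_left _ (pow_pos hpp.pos _)
    obtain ⟨y, hyD, hy⟩ := hgorder
    have hyN : y ∈ N := (hN y).mpr (by rw [← hy]; exact pow_orderOf_eq_one y)
    have hcard : p ≤ Nat.card (D ⊓ N : Subgroup M) := by
      have h1 : zpowers y ≤ D ⊓ N := by
        rw [Subgroup.zpowers_le]
        exact ⟨hyD, hyN⟩
      have h2 := Subgroup.card_le_of_le h1
      rwa [Nat.card_zpowers, hy] at h2
    have hle : D.index ≤ p := by
      have h1 : D.index * p ≤ p ^ 2 := by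
        calc D.index * p ≤ D.index * Nat.card (D ⊓ N : Subgroup M) := Nat.mul_le_mul_left _ hcard
          _ = Nat.card N := hidx
          _ ≤ p ^ 2 := hcN
      rw [pow_two] at h1
      exact Nat.le_of_mul_le_mul_right h1 hpp.pos
    rw [ha] at hle
    have ha1 : a ≤ 1 := by
      have h1 : p ^ a ≤ p ^ 1 := by simpa using hle
      exact (Nat.pow_le_pow_iff_right hpp.one_lt).mp h1
    have ha2 : a = 0 ∨ a = 1 := by omega
    rcases ha2 with rfl | rfl
    · rw [pow_zero, Subgroup.index_eq_one] at ha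
      apply hnc
      refine ⟨⟨g, fun x => ?_⟩⟩
      have : x ∈ D := by rw [ha]; trivial
      exact this
    · rw [pow_one] at ha
      exact hno D inferInstance ha

/-- The structure of `N = Ω₁(M)` and `X = Ω₂(M)`. -/
structure OmegaData (p : ℕ) {M : Type*} [Group M] (N X : Subgroup M) : Prop where
  memN : ∀ g, g ∈ N ↔ g ^ p = 1
  memX : ∀ g, g ∈ X ↔ g ^ p ∈ N
  normalN : N.Normal
  normalX : X.Normal
  le : N ≤ X
  card : Nat.card N = p ^ 2
  central : ∀ n ∈ N, ∀ g ∈ X, n * g = g * n
  powMul : ∀ g ∈ X, ∀ h ∈ X, (g * h) ^ p = g ^ p * h ^ p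
  surj : ∀ n ∈ N, ∃ g ∈ X, g ^ p = n
  comm : ∀ g ∈ X, ∀ h ∈ X, ⁅g, h⁆ ∈ N

/-- **Structure theorem.** -/
theorem struct {M : Type u} [Group M] [Finite M] (hp2 : p ≠ 2) (hM : IsPGroup p M)
    (hmc : IsMetacyclic M) (hnc : ¬ IsCyclic M) (hno : ∀ C : Subgroup M, IsCyclic C → C.index ≠ p) :
    ∃ N X : Subgroup M, OmegaData p N X := by
  classical
  have hpp := hp.out
  obtain ⟨N, hN, hNn, hcN⟩ := exists_omega hp2 hM hmc
  have hR := regN_one_of_isMetacyclic hp2 hM hmc
  -- `|N| = p ^ 2`
  have hcN' : Nat.card N = p ^ 2 := by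
    obtain ⟨A, -, hA, hcA⟩ := exists_normal_card_sq hp2 hM hnc
    apply le_antisymm hcN
    rw [← hcA]
    exact Subgroup.card_le_of_le (fun a ha => (hN a).mpr (hA a ha))
  -- the quotient
  have hQc := quotient_not_isCyclic hM hnc hno N hN hcN
  have hQ : IsPGroup p (M ⧸ N) := hM.to_quotient N
  have hQm : IsMetacyclic (M ⧸ N) :=
    isMetacyclic_of_surjective (QuotientGroup.mk' N) (QuotientGroup.mk'_surjective N) hmc
  obtain ⟨W, hW, hWn, hcW⟩ := exists_omega hp2 hQ hQm
  have hcW' : Nat.card W = p ^ 2 := by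
    obtain ⟨A, -, hA, hcA⟩ := exists_normal_card_sq hp2 hQ hQc
    apply le_antisymm hcW
    rw [← hcA]
    exact Subgroup.card_le_of_le (fun a ha => (hW a).mpr (hA a ha))
  let X : Subgroup M := W.comap (QuotientGroup.mk' N)
  have hX : ∀ g, g ∈ X ↔ g ^ p ∈ N := by
    intro g
    show (g : M ⧸ N) ∈ W ↔ _
    rw [hW, ← QuotientGroup.eq_one_iff]
    simp
  have hXn : X.Normal := hWn.comap _
  have hNX : N ≤ X := by
    intro n hn
    rw [hX, (hN n).mp hn]
    exact N.one_mem
  have hcX : Nat.card X = p ^ 4 := by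
    have h1 : X.index = W.index := Subgroup.index_comap_of_surjective _ (QuotientGroup.mk'_surjective N)
    have h2 := Subgroup.card_mul_index X
    have h3 := Subgroup.card_mul_index W
    have h4 := Subgroup.card_eq_card_quotient_mul_card_subgroup N
    rw [h1] at h2
    rw [hcW'] at h3
    rw [hcN'] at h4
    have h5 : 0 < W.index := Nat.pos_of_ne_zero Subgroup.index_ne_zero_of_finite
    apply Nat.eq_of_mul_eq_mul_right h5
    rw [h2, h4, ← h3]
    ring
  -- commutators in `X` lie in `N`
  have hcomm : ∀ g ∈ X, ∀ h ∈ X, ⁅g, h⁆ ∈ N := by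
    intro g hg h hh
    have hW' : IsMulCommutative W := IsPGroup.isMulCommutative_of_card_eq_prime_sq hcW'
    have h1 : ((⟨(g : M ⧸ N), hg⟩ : W) * ⟨(h : M ⧸ N), hh⟩ : W) = ⟨(h : M ⧸ N), hh⟩ * ⟨(g : M ⧸ N), hg⟩ :=
      hW'.is_comm.comm _ _
    have h2 : (g : M ⧸ N) * (h : M ⧸ N) = (h : M ⧸ N) * (g : M ⧸ N) := congrArg Subtype.val h1
    rw [← QuotientGroup.eq_one_iff, mk_comm, commutatorElement_eq_one_iff_mul_comm]
    exact h2
  -- the power map is a homomorphism
  have hpow : ∀ g ∈ X, ∀ h ∈ X, (g * h) ^ p = g ^ p * h ^ p := by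
    intro g hg h hh
    obtain ⟨c, hc, hc'⟩ := hR g h
    have hle : closure ({g, h} : Set M) ≤ X := by
      rw [closure_le]
      rintro _ (rfl | rfl)
      · exact hg
      · exact hh
    have hcN2 : ⁅closure ({g, h} : Set M), closure ({g, h} : Set M)⁆ ≤ N := by
      rw [Subgroup.commutator_le]
      intro a ha b hb
      exact hcomm a (hle ha) b (hle hb)
    have hc1 : c = 1 := by
      have h2 : powerClosure p 1 ⁅closure ({g, h} : Set M), closure ({g, h} : Set M)⁆ ≤ ⊥ := by
        unfold powerClosure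
        rw [closure_le]
        rintro _ ⟨z, hz, rfl⟩
        have h3 := (hN z).mp (hcN2 hz)
        simpa using h3
      exact Subgroup.mem_bot.mp (h2 hc)
    rw [hc1, mul_one, pow_one] at hc'
    exact hc'
  -- surjectivity
  let π : X →* N :=
    { toFun := fun g => ⟨(g : M) ^ p, (hX g).mp g.2⟩
      map_one' := by
        apply Subtype.ext
        simp
      map_mul' := by
        intro a b
        apply Subtype.ext
        exact hpow a a.2 b b.2 }
  have hπ : Function.Surjective π := by
    have h1 : Nat.card π.ker * π.ker.index = Nat.card X := Subgroup.card_mul_index _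
    rw [Subgroup.index_ker, hcX] at h1
    have h2 : Nat.card π.ker ≤ p ^ 2 := by
      rw [← hcN']
      apply Nat.card_le_card_of_injective (f := fun x : π.ker => (⟨x.1.1, by
        have := x.2
        rw [MonoidHom.mem_ker] at this
        exact (hN _).mpr (congrArg Subtype.val this)⟩ : N))
      intro a b hab
      have h := congrArg (fun z : N => (z : M)) hab
      exact Subtype.ext (Subtype.ext h)
    have h3 : p ^ 2 ≤ Nat.card π.range := by
      have h4 : 0 < p ^ 2 := pow_pos hpp.pos _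
      have h5 : p ^ 2 * Nat.card π.range ≥ p ^ 4 := by
        calc p ^ 2 * Nat.card π.range ≥ Nat.card π.ker * Nat.card π.range :=
              Nat.mul_le_mul_right _ h2
          _ = p ^ 4 := h1
      have h6 : p ^ 4 = p ^ 2 * p ^ 2 := by ring
      rw [h6] at h5
      exact Nat.le_of_mul_le_mul_left h5 h4
    have h7 : π.range = ⊤ := by
      apply Subgroup.eq_top_of_card_eq
      apply le_antisymm (Subgroup.card_le_card_group _)
      rw [hcN']
      exact h3
    exact MonoidHom.range_eq_top.mp h7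
  have hsurj : ∀ n ∈ N, ∃ g ∈ X, g ^ p = n := by
    intro n hn
    obtain ⟨g, hg⟩ := hπ ⟨n, hn⟩
    exact ⟨g.1, g.2, congrArg Subtype.val hg⟩
  refine ⟨N, X, hN, hX, hNn, hXn, hNX, hcN', ?_, hpow, hsurj, hcomm⟩
  intro n hn g hg
  obtain ⟨w, hw, rfl⟩ := hsurj n hn
  -- `w ^ p` is centralized by `X`.
  have h1 : g⁻¹ * w * g = w * ⁅w⁻¹, g⁻¹⁆ := by
    simp only [commutatorElement_def]; group
  have h2 : ⁅w⁻¹, g⁻¹⁆ ∈ N := hcomm _ (X.inv_mem hw) _ (X.inv_mem hg)
  have h3 : (g⁻¹ * w * g) ^ p = w ^ p := by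
    rw [h1, hpow _ hw _ (hNX h2), (hN _).mp h2, mul_one]
  have h4 : (g⁻¹ * w * g) ^ p = g⁻¹ * w ^ p * g := by
    have := conj_pow (a := g⁻¹) (b := w) (i := p)
    simpa using this
  rw [h4] at h3
  have h5 : w ^ p * g = g * (g⁻¹ * w ^ p * g) := by group
  rw [h5, h3]

end Cfsg.Agent.Lib.PGroups.RankTwoStruct
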