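/-
The core computation: an automorphism `σ` of a metacyclic `p`-group without cyclic subgroup of index `p`
with `σ ^ p` trivial on `Ω₂` and moving `Ω₁`.  Then `p = 3`.
-/
import Cfsg.Agent.Lib.PGroups.RankTwoStruct

set_option autoImplicit false

namespace Cfsg.Agent.Lib.PGroups.RankTwoCore

open Cfsg Subgroup
open Cfsg.Agent.Lib.PGroups.RankTwoStruct
open scoped commutatorElement

universe u

variable {p : ℕ} [hp : Fact p.Prime]

/-- Fixed points of a function of order `p` on a set of order divisible by `p`. -/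
theorem card_fixed_ge {α : Type*} [Finite α] (f : α → α) (hf : ∀ a, f^[p] a = a)
    (hdvd : p ∣ Nat.card α) (a₀ : α) (ha₀ : f a₀ = a₀) : p ≤ Nat.card {a // f a = a} := by
  classical
  have hpp := hp.out
  haveI := Fintype.ofFinite α
  let F : Function.End α := f
  have h1 : F ^ p ^ 1 = 1 := by
    rw [pow_one]
    have h0 := hom_coe_pow (fun g : Function.End α ↦ (g : α → α)) rfl (fun g h ↦ rfl) F p
    have h00 : (F ^ p : α → α) = f^[p] := h0
    funext a
    show (F ^ p : α → α) a = a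
    rw [h00]
    exact hf a
  have h2 := Equiv.Perm.card_fixedPoints_modEq (α := α) (f := F) (p := p) (n := 1) h1
  have h3 : Nat.card {a // f a = a} = Fintype.card (Function.fixedPoints f) := by
    rw [Nat.card_eq_fintype_card]
    rfl
  rw [h3]
  have h4 : p ∣ Fintype.card (Function.fixedPoints f) := by
    have h5 : p ∣ Fintype.card α := by rwa [← Nat.card_eq_fintype_card]
    exact (Nat.ModEq.dvd_iff h2 (dvd_refl p)).mp h5
  apply Nat.le_of_dvd _ h4
  exact Fintype.card_pos_iff.mpr ⟨⟨a₀, ha₀⟩⟩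

section
variable {L : Type u} [Group L] [Finite L] {N X : Subgroup L}

theorem map_memN (hO : OmegaData p N X) (σ : MulAut L) {n : L} (hn : n ∈ N) : σ n ∈ N :=
  (hO.memN _).mpr (by rw [← map_pow, (hO.memN n).mp hn, map_one])

theorem map_memX (hO : OmegaData p N X) (σ : MulAut L) {g : L} (hg : g ∈ X) : σ g ∈ X :=
  (hO.memX _).mpr (by rw [← map_pow]; exact map_memN hO σ ((hO.memX g).mp hg))

theorem comm_N (hO : OmegaData p N X) {a b : L} (ha : a ∈ N) (hb : b ∈ N) : a * b = b * a :=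
  hO.central a ha b (hO.le hb)

/-- The fixed line of `σ` on `N`. -/
theorem line (hO : OmegaData p N X) (σ : MulAut L) (hσ : ∀ g ∈ N, (σ ^ p) g = g) (n₁ : L) (hn₁ : n₁ ∈ N)
    (hmv : σ n₁ ≠ n₁) :
    ∃ Z : Subgroup L, Nat.card Z = p ∧ (∀ n, n ∈ Z ↔ n ∈ N ∧ σ n = n) ∧ (∀ n ∈ N, n⁻¹ * σ n ∈ Z) := by
  classical
  have hpp := hp.out
  -- iterates
  have hiter : ∀ (i : ℕ) (g : L), (⇑σ)^[i] g = (σ ^ i) g := by
    intro i g
    induction i with
    | zero => simp
    | succ i ih =>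
      rw [Function.iterate_succ_apply', ih, pow_succ', MulAut.mul_apply]
  let Z : Subgroup L :=
    { carrier := {n | n ∈ N ∧ σ n = n}
      mul_mem' := by
        rintro a b ⟨ha, ha'⟩ ⟨hb, hb'⟩
        exact ⟨N.mul_mem ha hb, by rw [map_mul, ha', hb']⟩
      one_mem' := ⟨N.one_mem, map_one σ⟩
      inv_mem' := by
        rintro a ⟨ha, ha'⟩
        exact ⟨N.inv_mem ha, by rw [map_inv, ha']⟩ }
  have hZ : ∀ n, n ∈ Z ↔ n ∈ N ∧ σ n = n := fun n => Iff.rfl
  have hcZ : Nat.card Z = p := by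
    -- at least `p`
    let f : N → N := fun n => ⟨σ n.1, map_memN hO σ n.2⟩
    have hf : ∀ a, f^[p] a = a := by
      have h1 : ∀ (i : ℕ) (a : N), ((f^[i] a : N) : L) = (σ ^ i) a.1 := by
        intro i a
        induction i with
        | zero => simp
        | succ i ih =>
          rw [Function.iterate_succ_apply', pow_succ', MulAut.mul_apply, ← ih]
      intro a
      apply Subtype.ext
      rw [h1, hσ _ a.2]
    have h2 := card_fixed_ge (p := p) f hf (by rw [hO.card]; exact dvd_pow_self p two_ne_zero) 1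
      (by apply Subtype.ext; simp [f])
    have h3 : Nat.card {a // f a = a} = Nat.card Z := by
      apply Nat.card_congr
      exact
        { toFun := fun a => ⟨a.1.1, a.1.2, congrArg Subtype.val a.2⟩
          invFun := fun a => ⟨⟨a.1, a.2.1⟩, Subtype.ext a.2.2⟩
          left_inv := fun a => rfl
          right_inv := fun a => rfl }
    rw [h3] at h2
    have hlt : Nat.card Z < Nat.card N := by
      apply Cfsg.Agent.Lib.PGroups.Basic.card_lt_of_lt
      refine lt_of_le_of_ne (fun a ha => ha.1) ?_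
      intro h
      have : n₁ ∈ Z := h ▸ hn₁
      exact hmv this.2
    rw [hO.card] at hlt
    have hdvd : Nat.card Z ∣ Nat.card N := by
      have hZN : Z ≤ N := fun a ha => ha.1
      exact Subgroup.card_dvd_of_le hZN
    rw [hO.card] at hdvd
    obtain ⟨k, hk, hk'⟩ := (Nat.dvd_prime_pow hpp).mp hdvd
    rw [hk'] at h2 hlt ⊢
    have hk1 : k ≠ 0 := by
      rintro rfl
      have := hpp.two_le
      simp at h2
      omega
    have hk2 : k ≠ 2 := by
      rintro rfl
      exact lt_irrefl _ hlt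
    have : k = 1 := by omega
    rw [this, pow_one]
  refine ⟨Z, hcZ, hZ, ?_⟩
  -- the map `δ` on `N`
  let δ : N →* N :=
    { toFun := fun n => ⟨n.1⁻¹ * σ n.1, N.mul_mem (N.inv_mem n.2) (map_memN hO σ n.2)⟩
      map_one' := by
        apply Subtype.ext
        simp
      map_mul' := by
        intro a b
        apply Subtype.ext
        show (a.1 * b.1)⁻¹ * σ (a.1 * b.1) = (a.1⁻¹ * σ a.1) * (b.1⁻¹ * σ b.1)
        have h1 := comm_N hO (N.mul_mem (N.inv_mem a.2) (map_memN hO σ a.2)) (N.inv_mem b.2)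
        rw [map_mul, mul_inv_rev]
        calc b.1⁻¹ * a.1⁻¹ * (σ a.1 * σ b.1) = b.1⁻¹ * (a.1⁻¹ * σ a.1) * σ b.1 := by group
          _ = (a.1⁻¹ * σ a.1) * b.1⁻¹ * σ b.1 := by rw [h1]
          _ = _ := by group }
  have hker : Nat.card δ.ker = p := by
    rw [← hcZ]
    apply Nat.card_congr
    exact
      { toFun := fun a => ⟨a.1.1, a.1.2, by
          have h1 := congrArg Subtype.val (MonoidHom.mem_ker.mp a.2)
          have h2 : a.1.1⁻¹ * σ a.1.1 = 1 := h1
          exact (inv_mul_eq_one.mp h2).symm⟩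
        invFun := fun a => ⟨⟨a.1, a.2.1⟩, by
          rw [MonoidHom.mem_ker]
          apply Subtype.ext
          show a.1⁻¹ * σ a.1 = 1
          rw [a.2.2, inv_mul_cancel]⟩
        left_inv := fun a => rfl
        right_inv := fun a => rfl }
  have hrange : Nat.card δ.range = p := by
    have h1 : Nat.card δ.ker * δ.ker.index = Nat.card N := Subgroup.card_mul_index _
    rw [Subgroup.index_ker, hker, hO.card, pow_two] at h1
    exact Nat.eq_of_mul_eq_mul_left hpp.pos h1
  -- all of the range is fixed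
  have hfix : ∀ r : δ.range, σ r.1.1 = r.1.1 := by
    let f : δ.range → δ.range := fun r => ⟨⟨σ r.1.1, map_memN hO σ r.1.2⟩, by
      obtain ⟨n, hn⟩ := r.2
      refine ⟨⟨σ n.1, map_memN hO σ n.2⟩, ?_⟩
      apply Subtype.ext
      show (σ n.1)⁻¹ * σ (σ n.1) = σ r.1.1
      rw [← hn]
      show _ = σ (n.1⁻¹ * σ n.1)
      rw [map_mul, map_inv]⟩
    have hf : ∀ a, f^[p] a = a := by
      have h1 : ∀ (i : ℕ) (a : δ.range), (((f^[i] a : δ.range) : N) : L) = (σ ^ i) a.1.1 := by
        intro i a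
        induction i with
        | zero => simp
        | succ i ih =>
          rw [Function.iterate_succ_apply', pow_succ', MulAut.mul_apply, ← ih]
      intro a
      apply Subtype.ext
      apply Subtype.ext
      rw [h1, hσ _ a.1.2]
    have h2 := card_fixed_ge (p := p) f hf (by rw [hrange]) 1
      (by
        apply Subtype.ext
        apply Subtype.ext
        show σ (1 : L) = 1
        simp)
    intro r
    by_contra hr
    have h3 : Nat.card {a // f a = a} < Nat.card δ.range := by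
      apply Finite.card_subtype_lt (x := r)
      intro h
      apply hr
      have := congrArg (fun z : δ.range => ((z : N) : L)) h
      exact this
    rw [hrange] at h3
    exact absurd h2 (not_le.mpr h3)
  intro n hn
  have hr : (δ ⟨n, hn⟩) ∈ δ.range := ⟨_, rfl⟩
  exact ⟨N.mul_mem (N.inv_mem hn) (map_memN hO σ hn), hfix ⟨_, hr⟩⟩

theorem iter_e (σ : MulAut L) {e f z : L} (h1 : σ e = e * f) (h2 : σ f = f * z) (h3 : σ z = z)
    (hfz : Commute f z) (i : ℕ) : (σ ^ i) e = e * f ^ i * z ^ (i.choose 2) := by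
  induction i with
  | zero => simp
  | succ i ih =>
    have h4 : (i + 1).choose 2 = i + i.choose 2 := by
      rw [Nat.choose_succ_succ' i 1, Nat.choose_one_right]
    rw [pow_succ', MulAut.mul_apply, ih, map_mul, map_mul, map_pow, map_pow, h1, h2, h3,
      hfz.mul_pow, h4, pow_succ' f, pow_add z]
    simp only [mul_assoc]

theorem rearr {w e f z : L} (hef : Commute e f) (hez : Commute e z) (hfz : Commute f z)
    (i A B k D : ℕ) :
    w * e ^ i * f ^ A * z ^ B * (e * f ^ k * z ^ D) = w * e ^ (i + 1) * f ^ (k + A) * z ^ (D + B) := by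
  have h1 : f ^ A * z ^ B * e = e * (f ^ A * z ^ B) := by
    have := ((hef.pow_right A).mul_right (hez.pow_right B)).eq
    exact this.symm
  have h2 : z ^ B * f ^ k = f ^ k * z ^ B := (hfz.pow_pow k B).eq.symm
  have h3 : f ^ A * f ^ k = f ^ k * f ^ A := (Commute.pow_pow_self f A k).eq
  have h4 : z ^ B * z ^ D = z ^ D * z ^ B := (Commute.pow_pow_self z B D).eq
  calc w * e ^ i * f ^ A * z ^ B * (e * f ^ k * z ^ D)
      = w * e ^ i * (f ^ A * z ^ B * e) * (f ^ k * z ^ D) := by simp only [mul_assoc]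
    _ = w * e ^ i * (e * (f ^ A * z ^ B)) * (f ^ k * z ^ D) := by rw [h1]
    _ = w * (e ^ i * e) * (f ^ A * (z ^ B * f ^ k) * z ^ D) := by simp only [mul_assoc]
    _ = w * (e ^ i * e) * (f ^ A * (f ^ k * z ^ B) * z ^ D) := by rw [h2]
    _ = w * (e ^ i * e) * ((f ^ A * f ^ k) * (z ^ B * z ^ D)) := by simp only [mul_assoc]
    _ = w * (e ^ i * e) * ((f ^ k * f ^ A) * (z ^ D * z ^ B)) := by rw [h3, h4]
    _ = w * e ^ (i + 1) * f ^ (k + A) * z ^ (D + B) := by
      rw [pow_succ, pow_add, pow_add]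
      simp only [mul_assoc]

theorem iter_w (σ : MulAut L) {w e f z : L} (hw : σ w = w * e)
    (he : ∀ i : ℕ, (σ ^ i) e = e * f ^ i * z ^ (i.choose 2))
    (hef : Commute e f) (hez : Commute e z) (hfz : Commute f z) (i : ℕ) :
    (σ ^ i) w = w * e ^ i * f ^ (i.choose 2) * z ^ (i.choose 3) := by
  induction i with
  | zero => simp
  | succ i ih =>
    have h4 : (i + 1).choose 2 = i + i.choose 2 := by
      rw [Nat.choose_succ_succ' i 1, Nat.choose_one_right]
    have h5 : (i + 1).choose 3 = i.choose 2 + i.choose 3 := Nat.choose_succ_succ' i 2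
    rw [pow_succ, MulAut.mul_apply, hw, map_mul, ih, he, rearr hef hez hfz, h4, h5]

/-- `(g⁻¹ σ g) ^ p = (g ^ p)⁻¹ σ (g ^ p)` on `X`. -/
theorem delta_pow (hO : OmegaData p N X) (σ : MulAut L) {g : L} (hg : g ∈ X) :
    (g⁻¹ * σ g) ^ p = (g ^ p)⁻¹ * σ (g ^ p) := by
  have h1 : σ g = g * (g⁻¹ * σ g) := by group
  have h2 : g⁻¹ * σ g ∈ X := X.mul_mem (X.inv_mem hg) (map_memX hO σ hg)
  have h3 := hO.powMul g hg _ h2
  rw [← h1] at h3
  rw [map_pow, h3, inv_mul_cancel_left]

/-- **Core lemma.** -/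
theorem core (hO : OmegaData p N X) (hp2 : p ≠ 2) (σ : MulAut L) (hσ : ∀ g ∈ X, (σ ^ p) g = g)
    {Z : Subgroup L} (hZ : ∀ n, n ∈ Z ↔ n ∈ N ∧ σ n = n) (hZd : ∀ n ∈ N, n⁻¹ * σ n ∈ Z)
    {w : L} (hw : w ∈ X) (hwZ : w ^ p ∉ Z) :
    p = 3 ∧ σ ((w⁻¹ * σ w)⁻¹ * σ (w⁻¹ * σ w)) ≠ (w⁻¹ * σ w)⁻¹ * σ (w⁻¹ * σ w) := by
  have hpp := hp.out
  have hn₀ : w ^ p ∈ N := (hO.memX w).mp hw
  obtain ⟨e, he⟩ : ∃ e, e = w⁻¹ * σ w := ⟨_, rfl⟩
  rw [← he]
  have heX : e ∈ X := he ▸ X.mul_mem (X.inv_mem hw) (map_memX hO σ hw)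
  have hep : e ^ p = (w ^ p)⁻¹ * σ (w ^ p) := by rw [he]; exact delta_pow hO σ hw
  have hζ : e ^ p ∈ Z := hep ▸ hZd _ hn₀
  have hζN : e ^ p ∈ N := ((hZ _).mp hζ).1
  have hζf : σ (e ^ p) = e ^ p := ((hZ _).mp hζ).2
  have hζ1 : e ^ p ≠ 1 := by
    intro h
    rw [hep, inv_mul_eq_one] at h
    exact hwZ ((hZ _).mpr ⟨hn₀, h.symm⟩)
  obtain ⟨f, hf⟩ : ∃ f, f = e⁻¹ * σ e := ⟨_, rfl⟩
  rw [← hf]
  have hfN : f ∈ N := by
    rw [hO.memN, hf, delta_pow hO σ heX, hζf, inv_mul_cancel]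
  obtain ⟨z, hz⟩ : ∃ z, z = f⁻¹ * σ f := ⟨_, rfl⟩
  have hzZ : z ∈ Z := hz ▸ hZd f hfN
  have hzN : z ∈ N := ((hZ _).mp hzZ).1
  have hzf : σ z = z := ((hZ _).mp hzZ).2
  have h1 : σ w = w * e := by rw [he]; group
  have h2 : σ e = e * f := by rw [hf]; group
  have h3 : σ f = f * z := by rw [hz]; group
  have hfz : Commute f z := comm_N hO hfN hzN
  have hef : Commute e f := (hO.central f hfN e heX).symm
  have hez : Commute e z := (hO.central z hzN e heX).symm
  have hie := iter_e σ h2 h3 hzf hfz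
  have hiw := iter_w σ h1 hie hef hez hfz p
  rw [hσ w hw] at hiw
  have hf1 : f ^ p.choose 2 = 1 := by
    obtain ⟨k, hk⟩ := Cfsg.Agent.Lib.PGroups.ClassTwo.prime_dvd_choose_two hpp hp2
    rw [hk, pow_mul, (hO.memN f).mp hfN, one_pow]
  rw [hf1, mul_one] at hiw
  have hfinal : e ^ p * z ^ p.choose 3 = 1 := by
    have : w * 1 = w * (e ^ p * z ^ p.choose 3) := by
      rw [mul_one]
      rw [← mul_assoc]
      exact hiw
    exact (mul_left_cancel this).symm
  have hp3 : p = 3 := by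
    by_contra hne
    have hp5 : 3 < p := by
      have h2 := hpp.two_le
      omega
    have hdvd : p ∣ p.choose 3 := hpp.dvd_choose_self (by norm_num) hp5
    obtain ⟨k, hk⟩ := hdvd
    rw [hk, pow_mul, (hO.memN z).mp hzN, one_pow, mul_one] at hfinal
    exact hζ1 hfinal
  refine ⟨hp3, ?_⟩
  intro hff
  have hz1 : z = 1 := by
    rw [hz, hff, inv_mul_cancel]
  rw [hz1, one_pow, mul_one] at hfinal
  exact hζ1 hfinal

end

end Cfsg.Agent.Lib.PGroups.RankTwoCore
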