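/-
Normal subgroups of order `p ^ 2` of a `p`-group of maximal class.
-/
import Cfsg.Agent.Lib.PGroups.LowerCentral
import Cfsg.Agent.Lib.PGroups.MaximalClass
import Cfsg.Agent.Lib.PGroups.Basic

set_option autoImplicit false

namespace Cfsg.Agent.Lib.PGroups.RankTwoMaxClass

open Subgroup
open Cfsg.Agent.Lib.PGroups.LowerCentral Cfsg.Agent.Lib.PGroups.Basic

variable {p : ℕ} [hp : Fact p.Prime] {X : Type*} [Group X] [Finite X]

theorem card_center_eq (hX : IsPGroup p X) {n : ℕ} (hn : 3 ≤ n) (hc : Nat.card X = p ^ n)
    (hcl : @Group.nilpotencyClass X _ = n - 1) : Nat.card (center X) = p := by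
  have hpp := hp.out
  haveI := hX.isNilpotent
  haveI : Nontrivial X := by
    have : 1 < Nat.card X := by
      rw [hc]
      exact Nat.one_lt_pow (by omega) hpp.one_lt
    exact Finite.one_lt_card_iff_nontrivial.mp this
  obtain ⟨k, hk⟩ := IsPGroup.iff_card.mp (hX.to_subgroup (center X))
  have hk0 : k ≠ 0 := by
    rintro rfl
    rw [pow_zero, Subgroup.card_eq_one] at hk
    exact (Subgroup.nontrivial_iff_ne_bot _).mp hX.center_nontrivial hk
  have hdvd : Nat.card (center X) ∣ Nat.card X := Subgroup.card_subgroup_dvd_card _
  rw [hk, hc] at hdvd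
  have hkn : k ≤ n := (Nat.pow_dvd_pow_iff_le_right hpp.one_lt).mp hdvd
  have hq : Nat.card (X ⧸ center X) = p ^ (n - k) := by
    have h1 := Subgroup.card_eq_card_quotient_mul_card_subgroup (center X)
    rw [hc, hk] at h1
    have h2 : p ^ n = p ^ (n - k) * p ^ k := by
      rw [← pow_add]; congr 1; omega
    rw [h2] at h1
    exact (Nat.eq_of_mul_eq_mul_right (pow_pos hpp.pos _) h1).symm
  have hY : IsPGroup p (X ⧸ center X) := hX.to_quotient _
  have hcl' : @Group.nilpotencyClass (X ⧸ center X) _ = n - 2 := by
    rw [Group.nilpotencyClass_quotient_center, hcl]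
    omega
  by_cases h2 : 2 ≤ n - k
  · have h3 := class_le hY h2 hq
    rw [hcl'] at h3
    have : k = 1 := by omega
    rw [hk, this, pow_one]
  · exfalso
    -- `X / Z(X)` has order at most `p`, hence is cyclic and `X` is abelian.
    have hcyc : IsCyclic (X ⧸ center X) := by
      have h3 : n - k = 0 ∨ n - k = 1 := by omega
      rcases h3 with h3 | h3
      · rw [h3, pow_zero] at hq
        have : Subsingleton (X ⧸ center X) := (Nat.card_eq_one_iff_unique.mp hq).1
        exact isCyclic_of_subsingleton
      · rw [h3, pow_one] at hq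
        exact isCyclic_of_prime_card hq
    have hcomm : IsMulCommutative X := by
      exact MonoidHom.isMulCommutative_of_isCyclic_of_ker_le_center (QuotientGroup.mk' (center X))
        (by simp)
    have h4 : @Group.nilpotencyClass X _ ≤ 1 := by
      let _ : CommGroup X := { (inferInstance : Group X) with mul_comm := hcomm.is_comm.comm }
      exact CommGroup.nilpotencyClass_le_one
    omega

/-- A nontrivial normal subgroup of order `p` is central. -/
theorem le_center_of_card_eq (hX : IsPGroup p X) (K : Subgroup X) [K.Normal]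
    (hK : Nat.card K = p) : K ≤ center X := by
  have hpp := hp.out
  have hne : K ≠ ⊥ := by
    intro h
    rw [h] at hK
    simp at hK
    exact hpp.one_lt.ne hK
  obtain ⟨z, hz, hzc, hzo⟩ := exists_central_orderOf_eq hX K hne
  have h1 : zpowers z = K := by
    apply Subgroup.eq_of_le_of_card_ge
    · rwa [Subgroup.zpowers_le]
    · rw [Nat.card_zpowers, hzo, hK]
  rw [← h1, Subgroup.zpowers_le]
  exact hzc

/-- **The normal subgroup of order `p ^ 2` of a `p`-group of maximal class is unique.** -/
theorem normal_card_sq_unique (hX : IsPGroup p X) {n : ℕ} (hn : 4 ≤ n) (hc : Nat.card X = p ^ n)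
    (hcl : @Group.nilpotencyClass X _ = n - 1) (K₁ K₂ : Subgroup X) [K₁.Normal] [K₂.Normal]
    (h₁ : Nat.card K₁ = p ^ 2) (h₂ : Nat.card K₂ = p ^ 2) : K₁ = K₂ := by
  have hpp := hp.out
  haveI := hX.isNilpotent
  have hZ := card_center_eq hX (by omega) hc hcl
  -- the quotient
  have hY : IsPGroup p (X ⧸ center X) := hX.to_quotient _
  have hq : Nat.card (X ⧸ center X) = p ^ (n - 1) := by
    have h1 := Subgroup.card_eq_card_quotient_mul_card_subgroup (center X)
    rw [hc, hZ] at h1
    have h2 : p ^ n = p ^ (n - 1) * p := by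
      rw [← pow_succ]; congr 1; omega
    rw [h2] at h1
    exact (Nat.eq_of_mul_eq_mul_right hpp.pos h1).symm
  have hcl' : @Group.nilpotencyClass (X ⧸ center X) _ = n - 1 - 1 := by
    rw [Group.nilpotencyClass_quotient_center, hcl]
  have hZY := card_center_eq hY (by omega) hq hcl'
  have key : ∀ K : Subgroup X, K.Normal → Nat.card K = p ^ 2 →
      center X ≤ K ∧ K.map (QuotientGroup.mk' (center X)) = center (X ⧸ center X) := by
    intro K hKn hK
    have hne : K ≠ ⊥ := by
      intro h
      rw [h] at hK
      simp at hK
      have := pow_pos hpp.pos 2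
      have h3 : 1 < p ^ 2 := Nat.one_lt_pow two_ne_zero hpp.one_lt
      omega
    obtain ⟨z, hz, hzc, hzo⟩ := exists_central_orderOf_eq hX K hne
    have hzZ : zpowers z = center X := by
      apply Subgroup.eq_of_le_of_card_ge
      · rwa [Subgroup.zpowers_le]
      · rw [Nat.card_zpowers, hzo, hZ]
    have hZK : center X ≤ K := by
      rw [← hzZ, Subgroup.zpowers_le]
      exact hz
    refine ⟨hZK, ?_⟩
    haveI : (K.map (QuotientGroup.mk' (center X))).Normal :=
      hKn.map _ (QuotientGroup.mk'_surjective _)
    have hcard : Nat.card (K.map (QuotientGroup.mk' (center X))) = p := by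
      have h3 : Nat.card K = Nat.card (K.map (QuotientGroup.mk' (center X))) * p := by
        let f : K →* K.map (QuotientGroup.mk' (center X)) := (QuotientGroup.mk' (center X)).subgroupMap K
        have hf : Function.Surjective f := (QuotientGroup.mk' (center X)).subgroupMap_surjective K
        have h4 : Nat.card f.ker * f.ker.index = Nat.card K := Subgroup.card_mul_index _
        rw [Subgroup.index_ker, MonoidHom.range_eq_top.mpr hf] at h4
        have h5 : Nat.card f.ker = p := by
          rw [← hZ]
          apply Nat.card_congr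
          exact
            { toFun := fun a => ⟨a.1.1, by
                have h6 := congrArg Subtype.val (MonoidHom.mem_ker.mp a.2)
                exact (QuotientGroup.eq_one_iff _).mp h6⟩
              invFun := fun a => ⟨⟨a.1, hZK a.2⟩, by
                rw [MonoidHom.mem_ker]
                apply Subtype.ext
                exact (QuotientGroup.eq_one_iff _).mpr a.2⟩
              left_inv := fun a => rfl
              right_inv := fun a => rfl }
        rw [h5] at h4
        rw [← h4, Subgroup.card_top, mul_comm]
      rw [hK, pow_two] at h3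
      exact (Nat.eq_of_mul_eq_mul_right hpp.pos h3).symm
    apply Subgroup.eq_of_le_of_card_ge (le_center_of_card_eq hY _ hcard)
    rw [hcard, hZY]
  obtain ⟨hZ1, hm1⟩ := key K₁ inferInstance h₁
  obtain ⟨hZ2, hm2⟩ := key K₂ inferInstance h₂
  have h3 : K₁.map (QuotientGroup.mk' (center X)) = K₂.map (QuotientGroup.mk' (center X)) := by
    rw [hm1, hm2]
  have h4 := congrArg (Subgroup.comap (QuotientGroup.mk' (center X))) h3
  rwa [QuotientGroup.comap_map_mk' , QuotientGroup.comap_map_mk', sup_eq_right.mpr hZ1,
    sup_eq_right.mpr hZ2] at h4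

end Cfsg.Agent.Lib.PGroups.RankTwoMaxClass
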