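/-
An automorphism of order `p` of a metacyclic `p`-group without cyclic subgroup of index `p`.
-/
import Cfsg.Agent.Lib.PGroups.RankTwoCore
import Cfsg.Agent.Lib.PGroups.RankTwoMaxClass
import Cfsg.Agent.Lib.Metacyclic.Basic

set_option autoImplicit false

namespace Cfsg.Agent.Lib.PGroups.RankTwoAut

open Cfsg Subgroup
open Cfsg.Agent.Lib.PGroups.RankTwoStruct Cfsg.Agent.Lib.PGroups.RankTwoCore
  Cfsg.Agent.Lib.PGroups.RankTwoMaxClass
open scoped commutatorElement

universe u

variable {p : ℕ} [hp : Fact p.Prime] {L : Type u} [Group L] [Finite L]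

/-- A nontrivial cyclic `p`-group has a cyclic subgroup of index `p`. -/
theorem not_isCyclic_of_no_index (hL : IsPGroup p L) (hnt : Nontrivial L)
    (hno : ∀ C : Subgroup L, IsCyclic C → C.index ≠ p) : ¬ IsCyclic L := by
  have hpp := hp.out
  intro hc
  obtain ⟨k, hk⟩ := IsPGroup.iff_card.mp hL
  have hk0 : k ≠ 0 := by
    rintro rfl
    have := Finite.one_lt_card (α := L)
    rw [hk] at this
    simp at this
  obtain ⟨k, rfl⟩ := Nat.exists_eq_succ_of_ne_zero hk0
  obtain ⟨C, hC⟩ := Sylow.exists_subgroup_card_pow_prime p (n := k) (G := L)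
    (by rw [hk]; exact pow_dvd_pow _ (Nat.le_succ k))
  apply hno C inferInstance
  have h1 := Subgroup.card_mul_index C
  rw [hC, hk, Nat.succ_eq_add_one, pow_succ] at h1
  exact Nat.eq_of_mul_eq_mul_left (pow_pos hpp.pos _) h1

/-- If `f ^ p = 1` and `f ^ j ∈ H` with `p ∤ j` then `f ∈ H`. -/
theorem mem_of_pow_mem {X : Type*} [Group X] {H : Subgroup X} {f : X} (hf : f ^ p = 1) {j : ℕ}
    (hj : ¬ p ∣ j) (h : f ^ j ∈ H) : f ∈ H := by
  have hpp := hp.out
  have hco : Nat.Coprime j p := ((Nat.Prime.coprime_iff_not_dvd hpp).mpr hj).symm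
  obtain ⟨m, hm⟩ := Nat.exists_mul_mod_eq_one_of_coprime hco hpp.one_lt
  have h1 : f = (f ^ j) ^ m := by
    rw [← pow_mul, pow_eq_pow_mod (j * m) hf, hm.2, pow_one]
  rw [h1]
  exact H.pow_mem h m

/-- If `g ∉ Z` then some `p`-power of `g` is outside `Z` with `p`-th power in `Z`. -/
theorem exists_pow_step (hL : IsPGroup p L) (Z : Subgroup L) {g : L} (hg : g ∉ Z) :
    ∃ k : ℕ, g ^ p ^ k ∉ Z ∧ (g ^ p ^ k) ^ p ∈ Z := by
  have hpp := hp.out
  classical
  obtain ⟨M, hM⟩ := IsPGroup.iff_orderOf.mp hL g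
  have hex : ∃ k, g ^ p ^ k ∈ Z := ⟨M, by rw [← hM, pow_orderOf_eq_one]; exact Z.one_mem⟩
  have h0 : Nat.find hex ≠ 0 := by
    intro h
    have := Nat.find_spec hex
    rw [h] at this
    simp at this
    exact hg this
  obtain ⟨k, hk⟩ := Nat.exists_eq_succ_of_ne_zero h0
  refine ⟨k, ?_, ?_⟩
  · exact Nat.find_min hex (by omega)
  · have := Nat.find_spec hex
    rw [hk, Nat.succ_eq_add_one, pow_succ, pow_mul] at this
    exact this

section
variable {N X : Subgroup L}

/-- The centralizer of `σ` is the line `Z`, provided some `e` with `e ^ p` generating `Z` has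
`e⁻¹ σ e ∉ Z`. -/
theorem fixed_mem_line (hO : OmegaData p N X) (hL : IsPGroup p L) (σ : MulAut L)
    {Z : Subgroup L} (hZc : Nat.card Z = p) (hZ : ∀ n, n ∈ Z ↔ n ∈ N ∧ σ n = n)
    (hZd : ∀ n ∈ N, n⁻¹ * σ n ∈ Z) {e : L} (heX : e ∈ X) (hez : e ^ p ∈ Z) (he1 : e ^ p ≠ 1)
    (hf : e⁻¹ * σ e ∉ Z) {g : L} (hg : σ g = g) : g ∈ Z := by
  have hpp := hp.out
  by_contra hgZ
  obtain ⟨k, hk1, hk2⟩ := exists_pow_step hL Z hgZ
  obtain ⟨g₁, hg₁⟩ : ∃ g₁, g₁ = g ^ p ^ k := ⟨_, rfl⟩
  rw [← hg₁] at hk1 hk2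
  have hg₁f : σ g₁ = g₁ := by rw [hg₁, map_pow, hg]
  have hg₁X : g₁ ∈ X := (hO.memX _).mpr ((hZ _).mp hk2).1
  -- `g₁ ^ p ≠ 1`
  have hg₁p : g₁ ^ p ≠ 1 := by
    intro h
    exact hk1 ((hZ _).mpr ⟨(hO.memN _).mpr h, hg₁f⟩)
  -- `Z = ⟨e ^ p⟩`
  have hord : orderOf (e ^ p) = p := by
    apply orderOf_eq_prime _ he1
    exact (hO.memN _).mp ((hZ _).mp hez).1
  have hZz : zpowers (e ^ p) = Z := by
    apply Subgroup.eq_of_le_of_card_ge
    · rwa [Subgroup.zpowers_le]
    · rw [Nat.card_zpowers, hord, hZc]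
  have hmem : g₁ ^ p ∈ zpowers (e ^ p) := hZz ▸ hk2
  obtain ⟨j, hj⟩ := Cfsg.Agent.Lib.Metacyclic.Basic.exists_natPow_of_mem_zpowers hmem
  have hjp : ¬ p ∣ j := by
    rintro ⟨t, rfl⟩
    apply hg₁p
    rw [hj, pow_mul, (hO.memN _).mp ((hZ _).mp hez).1, one_pow]
  -- the element `h = e ^ (-j) g₁` lies in `N`
  have hejX : e ^ j ∈ X := X.pow_mem heX j
  obtain ⟨h, hh⟩ : ∃ h, h = (e ^ j)⁻¹ * g₁ := ⟨_, rfl⟩
  have hhX : h ∈ X := hh ▸ X.mul_mem (X.inv_mem hejX) hg₁X
  have hhN : h ∈ N := by
    rw [hO.memN, hh, hO.powMul _ (X.inv_mem hejX) _ hg₁X, hj, inv_pow, ← pow_mul, ← pow_mul,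
      mul_comm j p, inv_mul_cancel]
  obtain ⟨f, hff⟩ : ∃ f, f = e⁻¹ * σ e := ⟨_, rfl⟩
  rw [← hff] at hf
  have hfN : f ∈ N := by
    rw [hO.memN, hff, delta_pow hO σ heX, ((hZ _).mp hez).2, inv_mul_cancel]
  have hσe : σ e = e * f := by rw [hff]; group
  have hef : Commute e f := (hO.central f hfN e heX).symm
  have hg₁e : g₁ = e ^ j * h := by rw [hh]; group
  have h1 : σ g₁ = e ^ j * f ^ j * σ h := by
    rw [hg₁e, map_mul, map_pow, hσe, hef.mul_pow]
  have hδ : h⁻¹ * σ h ∈ Z := hZd h hhN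
  have hσh : σ h = h * (h⁻¹ * σ h) := by group
  have hfjh : f ^ j * h = h * f ^ j := (hO.central h hhN (f ^ j) (hO.le (N.pow_mem hfN j))).symm
  have h2 : f ^ j * (h⁻¹ * σ h) = 1 := by
    have h3 : e ^ j * f ^ j * σ h = e ^ j * h := by rw [← h1, hg₁f, ← hg₁e]
    rw [mul_assoc] at h3
    have h4 := mul_left_cancel h3
    rw [hσh, ← mul_assoc, hfjh, mul_assoc] at h4
    exact mul_eq_left.mp h4
  have h3 : f ^ j ∈ Z := by
    rw [eq_inv_of_mul_eq_one_left h2]
    exact Z.inv_mem hδ
  exact hf (mem_of_pow_mem ((hO.memN f).mp hfN) hjp h3)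

end

/-- Elements killed by the order of `w`, in a cyclic group, are powers of `w`. -/
theorem mem_zpowers_of_pow_eq_one' {C : Type*} [Group C] [Finite C] [IsCyclic C] {w c : C} {n : ℕ}
    (hn : 0 < n) (hw : orderOf w = n) (hc : c ^ n = 1) : c ∈ zpowers w := by
  classical
  have := Fintype.ofFinite C
  have h1 : (Finset.univ.filter (fun a : C => a ^ n = 1)).card ≤ n :=
    IsCyclic.card_pow_eq_one_le hn
  have hT : ((zpowers w : Set C).toFinset).card = n := by
    rw [← Nat.card_eq_card_toFinset]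
    exact (Nat.card_zpowers w).trans hw
  have hsub : (zpowers w : Set C).toFinset ⊆ Finset.univ.filter (fun a : C => a ^ n = 1) := by
    intro a ha
    simp only [Set.mem_toFinset, SetLike.mem_coe, mem_zpowers_iff] at ha
    obtain ⟨i, rfl⟩ := ha
    simp only [Finset.mem_filter, Finset.mem_univ, true_and]
    rw [← zpow_natCast, ← zpow_mul, mul_comm, zpow_mul, zpow_natCast, ← hw, pow_orderOf_eq_one,
      one_zpow]
  have heq := Finset.eq_of_subset_of_card_le hsub (by rw [hT]; exact h1)
  have hc' : c ∈ Finset.univ.filter (fun a : C => a ^ n = 1) := by simp [hc]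
  rw [← heq] at hc'
  simpa using hc'

/-- The commutator subgroup of a metacyclic group is cyclic. -/
theorem isCyclic_commutator (hmc : IsMetacyclic L) : IsCyclic (commutator L) := by
  obtain ⟨A, hA, hAc, hQc⟩ := hmc
  have hle : commutator L ≤ A := by
    apply Subgroup.Normal.quotient_commutative_iff_commutator_le.mp
    exact IsCyclic.isMulCommutative
  exact isCyclic_of_injective (Subgroup.inclusion hle) (Subgroup.inclusion_injective hle)

section Semi

variable (a : MulAut L)

theorem fixed_of_mem_zpowers {a : MulAut L} {l : L} (h : a l = l) {b : MulAut L}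
    (hb : b ∈ zpowers a) : b l = l := by
  have hle : zpowers a ≤ MulAction.stabilizer (MulAut L) l := by
    rw [Subgroup.zpowers_le]
    exact h
  exact hle hb

/-- The semidirect product `L ⋊ ⟨a⟩`. -/
abbrev GG : Type u := SemidirectProduct L ↥(Subgroup.zpowers a) (Subgroup.zpowers a).subtype

theorem card_semi (hp1 : orderOf a = p) (m : ℕ) (hm : Nat.card L = p ^ m) :
    Nat.card (GG a) = p ^ (m + 1) := by
  rw [Nat.card_congr SemidirectProduct.equivProd, Nat.card_prod, hm, Nat.card_zpowers, hp1, pow_succ]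

/-- The forward direction of the main theorem. -/
theorem class_of_centralizer (hp1 : orderOf a = p) (m : ℕ) (hm : Nat.card L = p ^ m)
    {Z : Subgroup L} (hZc : Nat.card Z = p) (hZ : ∀ n, a n = n ↔ n ∈ Z)
    (hZcomm : ∀ x ∈ Z, ∀ y ∈ Z, x * y = y * x) :
    Group.nilpotencyClass (GG a) = m := by
  have hpp := hp.out
  have hfix : ∀ (b : zpowers a) {l : L}, l ∈ Z → (b : MulAut L) l = l :=
    fun b l hl => fixed_of_mem_zpowers ((hZ l).mpr hl) b.2
  let U : Subgroup (GG a) :=
    { carrier := {g | g.left ∈ Z}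
      mul_mem' := by
        intro g h hg hh
        show (g * h).left ∈ Z
        rw [SemidirectProduct.mul_left]
        have : (Subgroup.zpowers a).subtype g.right h.left = h.left := hfix g.right hh
        rw [this]
        exact Z.mul_mem hg hh
      one_mem' := Z.one_mem
      inv_mem' := by
        intro g hg
        show (g⁻¹).left ∈ Z
        rw [SemidirectProduct.inv_left]
        have : (Subgroup.zpowers a).subtype g.right⁻¹ g.left⁻¹ = g.left⁻¹ :=
          hfix g.right⁻¹ (Z.inv_mem hg)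
        rw [this]
        exact Z.inv_mem hg }
  have hUc : Nat.card U = p ^ 2 := by
    have : U ≃ Z × zpowers a :=
      { toFun := fun u => (⟨u.1.left, u.2⟩, u.1.right)
        invFun := fun x => ⟨⟨x.1.1, x.2⟩, x.1.2⟩
        left_inv := fun u => rfl
        right_inv := fun x => rfl }
    rw [Nat.card_congr this, Nat.card_prod, hZc, Nat.card_zpowers, hp1, pow_two]
  have hcent : centralizer (U : Set (GG a)) = U := by
    apply le_antisymm
    · intro g hg
      -- `g` commutes with `a`.
      have h1 : (⟨1, ⟨a, Subgroup.mem_zpowers a⟩⟩ : GG a) ∈ U := Z.one_mem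
      have h2 := Subgroup.mem_centralizer_iff.mp hg _ h1
      have h3 := congrArg SemidirectProduct.left h2
      rw [SemidirectProduct.mul_left, SemidirectProduct.mul_left] at h3
      simp only [one_mul, map_one, MulAut.one_apply, mul_one] at h3
      exact (hZ _).mp h3
    · intro g hg
      rw [Subgroup.mem_centralizer_iff]
      intro h hh
      apply SemidirectProduct.ext
      · rw [SemidirectProduct.mul_left, SemidirectProduct.mul_left]
        have e1 : (Subgroup.zpowers a).subtype g.right h.left = h.left := hfix g.right hh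
        have e2 : (Subgroup.zpowers a).subtype h.right g.left = g.left := hfix h.right hg
        rw [e1, e2]
        exact hZcomm _ hh _ hg
      · rw [SemidirectProduct.mul_right, SemidirectProduct.mul_right]
        exact (inferInstance : IsMulCommutative (zpowers a)).is_comm.comm _ _
  haveI : Finite (GG a) := Nat.finite_of_card_ne_zero (by
    rw [card_semi a hp1 m hm]; exact pow_ne_zero _ hpp.ne_zero)
  have := Cfsg.Agent.Lib.PGroups.MaximalClass.class_of_self_centralizing (p := p) (m + 1)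
    (card_semi a hp1 m hm) U hUc hcent
  simpa using this

/-- A characteristic subgroup of `L` gives a normal subgroup of `L ⋊ ⟨a⟩`. -/
theorem map_inl_normal (D : Subgroup L) (hD : ∀ σ : MulAut L, ∀ d ∈ D, σ d ∈ D) :
    (D.map (SemidirectProduct.inl : L →* GG a)).Normal := by
  constructor
  rintro _ ⟨d, hd, rfl⟩ g
  rw [← SemidirectProduct.inl_left_mul_inr_right g]
  have h1 : (SemidirectProduct.inr g.right : GG a) * SemidirectProduct.inl d *
      (SemidirectProduct.inr g.right)⁻¹ = SemidirectProduct.inl ((g.right : MulAut L) d) := by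
    rw [← map_inv]
    exact (SemidirectProduct.inl_aut g.right d).symm
  refine ⟨g.left * ((g.right : MulAut L) d) * g.left⁻¹, ?_, ?_⟩
  · exact hD (MulAut.conj g.left) _ (hD _ _ hd)
  · rw [map_mul, map_mul, map_inv, ← h1, mul_inv_rev]
    simp only [mul_assoc]

/-- The reverse direction of the main theorem. -/
theorem moves_of_class (hL : IsPGroup p L) (hmc : IsMetacyclic L)
    (hnc : ¬ IsCyclic L) (hO : ∃ N X : Subgroup L, OmegaData p N X)
    (hp1 : orderOf a = p) (m : ℕ) (hm : Nat.card L = p ^ m)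
    (hcl : Group.nilpotencyClass (GG a) = m) : ∃ x : L, orderOf x = p ∧ a x ≠ x := by
  have hpp := hp.out
  obtain ⟨N, X, hO⟩ := hO
  by_contra hcon
  push_neg at hcon
  have hfixN : ∀ n ∈ N, a n = n := by
    intro n hn
    by_cases h1 : n = 1
    · rw [h1, map_one]
    · exact hcon n (orderOf_eq_prime ((hO.memN n).mp hn) h1)
  haveI : Finite (GG a) := Nat.finite_of_card_ne_zero (by
    rw [card_semi a hp1 m hm]; exact pow_ne_zero _ hpp.ne_zero)
  have hGp : IsPGroup p (GG a) := IsPGroup.of_card (card_semi a hp1 m hm)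
  have hcard := card_semi a hp1 m hm
  -- `m ≥ 3`
  have hm3 : 3 ≤ m := by
    have h1 : N ≠ ⊥ := by
      intro h
      have h2 := hO.card
      rw [h] at h2
      simp at h2
      have h3 : 1 < p ^ 2 := Nat.one_lt_pow two_ne_zero hpp.one_lt
      omega
    have h2 : ∃ n ∈ N, n ≠ 1 := by
      by_contra h
      push_neg at h
      exact h1 ((Subgroup.eq_bot_iff_forall N).mpr h)
    obtain ⟨n, hn, hn1⟩ := h2
    obtain ⟨w, hw, rfl⟩ := hO.surj n hn
    have h3 : N < X := by
      refine lt_of_le_of_ne hO.le ?_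
      intro h
      rw [← h] at hw
      exact hn1 ((hO.memN w).mp hw)
    have h4 := Cfsg.Agent.Lib.PGroups.Basic.card_lt_of_lt h3
    have h5 : Nat.card X ≤ Nat.card L := Subgroup.card_le_card_group X
    rw [hO.card] at h4
    rw [hm] at h5
    have h6 : p ^ 2 < p ^ m := lt_of_lt_of_le h4 h5
    have := (Nat.pow_lt_pow_iff_right hpp.one_lt).mp h6
    omega
  have hNhat : (N.map (SemidirectProduct.inl : L →* GG a)).Normal := by
    apply map_inl_normal
    intro σ d hd
    exact map_memN hO σ hd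
  have hcardN : Nat.card (N.map (SemidirectProduct.inl : L →* GG a)) = p ^ 2 := by
    rw [Subgroup.card_map_of_injective SemidirectProduct.inl_injective, hO.card]
  -- some `s ∈ L` moves `N`.
  have hs : ∃ s : L, ∃ n ∈ N, s * n * s⁻¹ ≠ n := by
    by_contra hno
    push_neg at hno
    have hle : N.map (SemidirectProduct.inl : L →* GG a) ≤ center (GG a) := by
      rintro _ ⟨n, hn, rfl⟩
      rw [Subgroup.mem_center_iff]
      intro g
      obtain ⟨l, b, rfl⟩ : ∃ (l : L) (b : zpowers a), g = SemidirectProduct.inl l * SemidirectProduct.inr b :=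
        ⟨_, _, (SemidirectProduct.inl_left_mul_inr_right g).symm⟩
      have h1 : (SemidirectProduct.inr b : GG a) * SemidirectProduct.inl n =
          SemidirectProduct.inl n * SemidirectProduct.inr b := by
        have h2 := SemidirectProduct.inl_aut (φ := (Subgroup.zpowers a).subtype) b n
        have h3 : (Subgroup.zpowers a).subtype b n = n :=
          fixed_of_mem_zpowers (hfixN n hn) b.2
        rw [h3, map_inv, eq_mul_inv_iff_mul_eq] at h2
        exact h2.symm
      have h4 : l * n = n * l := by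
        have := hno l n hn
        rwa [mul_inv_eq_iff_eq_mul] at this
      rw [mul_assoc, h1, ← mul_assoc, ← map_mul, h4, map_mul, mul_assoc]
    have h5 := Subgroup.card_le_of_le hle
    rw [hcardN, card_center_eq hGp (n := m + 1) (by omega) hcard (by simpa using hcl), pow_two] at h5
    have := hpp.two_le
    nlinarith
  obtain ⟨s, n, hn, hsn⟩ := hs
  obtain ⟨w, hw, rfl⟩ := hO.surj n hn
  let σ : MulAut L := MulAut.conj s
  have hσ : ∀ x, σ x = s * x * s⁻¹ := fun x => rfl
  obtain ⟨e, he⟩ : ∃ e, e = w⁻¹ * σ w := ⟨_, rfl⟩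
  have heX : e ∈ X := he ▸ X.mul_mem (X.inv_mem hw) (map_memX hO σ hw)
  have hep : e ^ p = (w ^ p)⁻¹ * σ (w ^ p) := by rw [he]; exact delta_pow hO σ hw
  have hep1 : e ^ p ≠ 1 := by
    rw [hep, hσ]
    intro h
    exact hsn (inv_mul_eq_one.mp h).symm
  have hepN : e ^ p ∈ N := (hO.memX e).mp heX
  have hepp : e ^ p ^ 2 = 1 := by
    rw [pow_two, pow_mul]
    exact (hO.memN _).mp hepN
  have hordE : orderOf e = p ^ 2 :=
    orderOf_eq_prime_pow (n := 1) (by simpa using hep1) (by simpa using hepp)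
  have heD : e ∈ commutator L := by
    have h1 : e = ⁅w⁻¹, s⁆ := by
      rw [he, hσ, commutatorElement_def, inv_inv]
      group
    rw [h1]
    exact Subgroup.commutator_mem_commutator (Subgroup.mem_top _) (Subgroup.mem_top _)
  haveI hDc : IsCyclic (commutator L) := isCyclic_commutator hmc
  -- `⟨e⟩` is normal in the semidirect product
  have hKn : (zpowers (SemidirectProduct.inl e : GG a)).Normal := by
    have hsub : zpowers (SemidirectProduct.inl e : GG a) =
        (zpowers e).map (SemidirectProduct.inl : L →* GG a) := by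
      rw [MonoidHom.map_zpowers]
    rw [hsub]
    apply map_inl_normal
    intro τ d hd
    obtain ⟨k, rfl⟩ := Subgroup.mem_zpowers_iff.mp hd
    rw [map_zpow]
    apply Subgroup.zpow_mem
    -- `τ e` lies in the cyclic group `L'`.
    have hτD : τ e ∈ commutator L := by
      have h1 : (commutator L).map τ.toMonoidHom ≤ commutator L := by
        rw [_root_.commutator_def, Subgroup.map_commutator]
        exact Subgroup.commutator_mono le_top le_top
      exact h1 ⟨e, heD, rfl⟩
    have h2 : (⟨τ e, hτD⟩ : commutator L) ∈ zpowers (⟨e, heD⟩ : commutator L) := by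
      apply mem_zpowers_of_pow_eq_one' (n := p ^ 2) (pow_pos hpp.pos _)
      · rw [Subgroup.orderOf_mk, hordE]
      · apply Subtype.ext
        show (τ e) ^ p ^ 2 = 1
        rw [← map_pow, hepp, map_one]
    obtain ⟨k, hk⟩ := Subgroup.mem_zpowers_iff.mp h2
    exact Subgroup.mem_zpowers_iff.mpr ⟨k, by simpa using congrArg Subtype.val hk⟩
  have hKc : Nat.card (zpowers (SemidirectProduct.inl e : GG a)) = p ^ 2 := by
    rw [Nat.card_zpowers, orderOf_injective _ SemidirectProduct.inl_injective, hordE]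
  have hK := normal_card_sq_unique hGp (n := m + 1) (by omega) hcard (by simpa using hcl) _ _ hKc hcardN
  have h1 : (SemidirectProduct.inl e : GG a) ∈ N.map (SemidirectProduct.inl : L →* GG a) := by
    rw [← hK]
    exact Subgroup.mem_zpowers _
  obtain ⟨d, hd, hde⟩ := h1
  have := SemidirectProduct.inl_injective hde
  rw [this] at hd
  exact hep1 ((hO.memN e).mp hd)

/-- **Main theorem.** -/
theorem main (hp2 : p ≠ 2) (hL : IsPGroup p L) (hmc : IsMetacyclic L)
    (hno : ∀ C : Subgroup L, IsCyclic C → C.index ≠ p) (hp1 : orderOf a = p) (m : ℕ)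
    (hm : Nat.card L = p ^ m) :
    (∃ x : L, orderOf x = p ∧ a x ≠ x) ↔ (p = 3 ∧ Group.nilpotencyClass (GG a) = m) := by
  have hpp := hp.out
  have hnt : Nontrivial L := by
    by_contra h
    rw [not_nontrivial_iff_subsingleton] at h
    have h1 : a = 1 := by
      ext x
      exact Subsingleton.elim _ _
    rw [h1, orderOf_one] at hp1
    exact hpp.one_lt.ne hp1
  have hnc := not_isCyclic_of_no_index hL hnt hno
  obtain ⟨N, X, hO⟩ := struct hp2 hL hmc hnc hno
  constructor
  · rintro ⟨x, hx, hax⟩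
    have hσ : ∀ g : L, (a ^ p) g = g := by
      intro g
      rw [← hp1, pow_orderOf_eq_one, MulAut.one_apply]
    have hxN : x ∈ N := (hO.memN x).mpr (hx ▸ pow_orderOf_eq_one x)
    obtain ⟨Z, hZc, hZ, hZd⟩ := line hO a (fun g _ => hσ g) x hxN hax
    obtain ⟨w, hw, hwx⟩ := hO.surj x hxN
    have hwZ : w ^ p ∉ Z := by
      rw [hwx, hZ]
      exact fun h => hax h.2
    obtain ⟨hp3, hmv⟩ := core hO hp2 a (fun g _ => hσ g) hZ hZd hw hwZ
    refine ⟨hp3, ?_⟩
    -- the centralizer of `a` is `Z`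
    obtain ⟨e, he⟩ : ∃ e, e = w⁻¹ * a w := ⟨_, rfl⟩
    rw [← he] at hmv
    have heX : e ∈ X := he ▸ X.mul_mem (X.inv_mem hw) (map_memX hO a hw)
    have hep : e ^ p = (w ^ p)⁻¹ * a (w ^ p) := by rw [he]; exact delta_pow hO a hw
    have hez : e ^ p ∈ Z := hep ▸ hZd _ ((hO.memX w).mp hw)
    have he1 : e ^ p ≠ 1 := by
      rw [hep, hwx]
      intro h
      exact hax (inv_mul_eq_one.mp h).symm
    have hf : e⁻¹ * a e ∉ Z := by
      rw [hZ]
      exact fun h => hmv h.2
    apply class_of_centralizer a hp1 m hm hZc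
    · intro n
      constructor
      · intro h
        exact fixed_mem_line hO hL a hZc hZ hZd heX hez he1 hf h
      · intro h
        exact ((hZ n).mp h).2
    · intro u hu v hv
      exact comm_N hO ((hZ u).mp hu).1 ((hZ v).mp hv).1
  · rintro ⟨-, hcl⟩
    exact moves_of_class a hL hmc hnc ⟨N, X, hO⟩ hp1 m hm hcl

end Semi

end Cfsg.Agent.Lib.PGroups.RankTwoAut
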