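/-
`p` odd: a `p`-group all of whose elements of order `p` lie in a central subgroup of order at most `p²`
is metacyclic.
-/
import Cfsg.Agent.Lib.PGroups.RankTwoAut
import Cfsg.Agent.Lib.Metacyclic.Class

set_option autoImplicit false

namespace Cfsg.Agent.Lib.PGroups.RankTwoCentral

open Cfsg Subgroup
open Cfsg.Agent.Lib.Regular.Basic Cfsg.Agent.Lib.Regular.Metacyclic
  Cfsg.Agent.Lib.PGroups.NormalRankTwo Cfsg.Agent.Lib.PGroups.Basic
  Cfsg.Agent.Lib.PGroups.RankTwoAut
open scoped commutatorElement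

universe u

variable {p : ℕ} [hp : Fact p.Prime]

theorem index_powerClosure_le {M : Type*} [Group M] [Finite M] (hmc : IsMetacyclic M) :
    (powerClosure p 1 (⊤ : Subgroup M)).index ≤ p ^ 2 := by
  obtain ⟨a, b, h⟩ := Cfsg.Agent.Lib.Metacyclic.Basic.exists_setup hmc
  have h1 := Cfsg.Agent.Lib.Metacyclic.Class.index_closure_powers_le h p hp.out.pos
  have heq : powerClosure p 1 (⊤ : Subgroup M) = closure {x : M | ∃ y : M, y ^ p = x} := by
    unfold powerClosure
    congr 1
    ext x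
    simp [eq_comm]
  rw [heq, pow_two]
  exact h1

/-- If `Z ≤ ℧₁(G)` and `G / Z` is metacyclic, then so is `G`. -/
theorem isMetacyclic_lift {G : Type u} [Group G] [Finite G] (hp2 : p ≠ 2) (hG : IsPGroup p G)
    (Z : Subgroup G) [Z.Normal] (hZ : Z ≤ powerClosure p 1 (⊤ : Subgroup G))
    (hq : IsMetacyclic (G ⧸ Z)) : IsMetacyclic G := by
  apply isMetacyclic_of_index_le hp2 _ G rfl hG
  have h1 := index_powerClosure_le (p := p) hq
  have h2 : (powerClosure p 1 (⊤ : Subgroup G)).map (QuotientGroup.mk' Z) =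
      powerClosure p 1 (⊤ : Subgroup (G ⧸ Z)) := by
    rw [map_powerClosure, Subgroup.map_top_of_surjective _ (QuotientGroup.mk'_surjective Z)]
  have h3 := Subgroup.index_map_eq (powerClosure p 1 (⊤ : Subgroup G)) (QuotientGroup.mk'_surjective Z)
    (by rwa [QuotientGroup.ker_mk'])
  rw [← h3, h2]
  exact h1

theorem powerClosure_normal {G : Type*} [Group G] (K : Subgroup G) [hK : K.Normal] (q : ℕ) :
    (powerClosure p q K).Normal := by
  constructor
  intro n hn g
  have h1 : g * n * g⁻¹ ∈ (powerClosure p q K).map (MulAut.conj g).toMonoidHom := ⟨n, hn, rfl⟩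
  rw [map_powerClosure] at h1
  refine powerClosure_mono p q ?_ h1
  rintro _ ⟨k, hk, rfl⟩
  exact hK.conj_mem k hk g

section Sub
variable {G : Type u} [Group G] [Finite G]

theorem sub_pow_eq (hG : IsPGroup p G) (hp2 : p ≠ 2) {H : Subgroup G} (hH : IsMetacyclic H)
    {x y : G} (hx : x ∈ H) (hy : y ∈ H) (h : x ^ p = y ^ p) : (x⁻¹ * y) ^ p = 1 := by
  have hX := hG.to_subgroup H
  have h1 := pow_eq_imp (p := p) _ H rfl hX (regN_one_of_isMetacyclic hp2 hX hH) ⟨x, hx⟩ ⟨y, hy⟩
    (Subtype.ext (by simpa using h))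
  simpa using congrArg Subtype.val h1

theorem powerClosure_eq_map (H : Subgroup G) :
    (powerClosure p 1 (⊤ : Subgroup H)).map H.subtype = powerClosure p 1 H := by
  rw [map_powerClosure]
  congr 1
  rw [← MonoidHom.range_eq_map, Subgroup.range_subtype]

theorem sub_mem_O (hG : IsPGroup p G) (hp2 : p ≠ 2) {H : Subgroup G} (hH : IsMetacyclic H)
    {z : G} : z ∈ powerClosure p 1 H ↔ ∃ x ∈ H, z = x ^ p := by
  have hX := hG.to_subgroup H
  constructor
  · intro hz
    rw [← powerClosure_eq_map] at hz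
    obtain ⟨w, hw, rfl⟩ := hz
    obtain ⟨x, -, rfl⟩ := (mem_powerClosure_iff hX (regN_one_of_isMetacyclic hp2 hX hH) ⊤).mp hw
    exact ⟨x.1, x.2, by simp⟩
  · rintro ⟨x, hx, rfl⟩
    have := pow_mem_powerClosure p 1 hx
    simpa using this

theorem relIndex_O_le {H : Subgroup G} (hH : IsMetacyclic H) :
    (powerClosure p 1 H).relIndex H ≤ p ^ 2 := by
  have h1 : (powerClosure p 1 H).subgroupOf H = powerClosure p 1 (⊤ : Subgroup H) := by
    rw [← powerClosure_eq_map, Subgroup.subgroupOf, Subgroup.comap_map_eq_self_of_injective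
      H.subtype_injective]
  rw [Subgroup.relIndex, h1]
  exact index_powerClosure_le hH

theorem sub_mul_pow (hG : IsPGroup p G) (hp2 : p ≠ 2) {H : Subgroup G} (hH : IsMetacyclic H)
    {g h : G} (hg : g ∈ H) (hh : h ∈ H) :
    ∃ c ∈ ⁅H, H⁆, (g * h) ^ p = g ^ p * h ^ p * c ^ p := by
  obtain ⟨c, hc, hc'⟩ := exists_comm_pow hp2 (hG.to_subgroup H) (isCyclic_commutator hH)
    (⟨g, hg⟩ : H) ⟨h, hh⟩
  refine ⟨c.1, ?_, by simpa using congrArg Subtype.val hc'⟩
  have h1 : c.1 ∈ (commutator H).map H.subtype := ⟨c, hc, rfl⟩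
  rwa [Subgroup.map_subtype_commutator] at h1

/-- Index `p` and cyclic implies metacyclic. -/
theorem isMetacyclic_of_cyclic_index (hG : IsPGroup p G) {M : Subgroup G} (hM : M.index = p)
    (hc : IsCyclic M) : IsMetacyclic G := by
  have hpp := hp.out
  have hco : IsCoatom M := isCoatom_of_index_prime (hM ▸ hpp)
  have hn : M.Normal := normal_of_isCoatom hG hco
  refine ⟨M, hn, hc, ?_⟩
  have h1 : Nat.card (G ⧸ M) = p := by rw [← Subgroup.index_eq_card, hM]
  exact isCyclic_of_prime_card h1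

/-- A commutative group of exponent `p` generated by two elements has order at most `p²`. -/
theorem card_le_of_two_gen {Q : Type*} [Group Q] [Finite Q] (hc : ∀ a b : Q, a * b = b * a)
    (hexp : ∀ a : Q, a ^ p = 1) (g m : Q) (hgen : closure ({g, m} : Set Q) = ⊤) :
    Nat.card Q ≤ p ^ 2 := by
  have hpp := hp.out
  haveI : NeZero p := ⟨hpp.ne_zero⟩
  letI : CommGroup Q := { (inferInstance : Group Q) with mul_comm := hc }
  let f : Fin p × Fin p → Q := fun x => g ^ (x.1 : ℕ) * m ^ (x.2 : ℕ)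
  have hf : Function.Surjective f := by
    intro q
    have hq : q ∈ closure ({g, m} : Set Q) := by rw [hgen]; trivial
    obtain ⟨i, j, rfl⟩ := Subgroup.mem_closure_pair.mp hq
    have hpos : (0 : ℤ) < p := by exact_mod_cast hpp.pos
    have h1 : ∀ (u : Q) (i : ℤ), ∃ k : Fin p, u ^ (k : ℕ) = u ^ i := by
      intro u i
      refine ⟨⟨(i % p).toNat, ?_⟩, ?_⟩
      · have := Int.emod_lt_of_pos i hpos
        have h0 := Int.emod_nonneg i hpos.ne'
        omega
      · have h0 := Int.emod_nonneg i hpos.ne'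
        have h2 : u ^ (p : ℤ) = 1 := by rw [zpow_natCast]; exact hexp u
        rw [← zpow_natCast, Int.toNat_of_nonneg h0]
        exact (zpow_eq_zpow_emod i h2).symm
    obtain ⟨a, ha⟩ := h1 g i
    obtain ⟨b, hb⟩ := h1 m j
    exact ⟨(a, b), by simp only [f]; rw [ha, hb]⟩
  have h2 := Nat.card_le_card_of_surjective f hf
  rw [Nat.card_prod, Nat.card_fin, ← pow_two] at h2
  exact h2

end Sub

/-- **Central `Ω₁`**: `p` odd, all elements of order `p` lie in a central subgroup of order at most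
`p²`: the group is metacyclic. -/
theorem main (hp2 : p ≠ 2) (k : ℕ) : ∀ (G : Type u) [Group G] [Finite G], Nat.card G = k →
    IsPGroup p G → ∀ N : Subgroup G, N ≤ center G → Nat.card N ≤ p ^ 2 →
    (∀ g : G, g ^ p = 1 → g ∈ N) → IsMetacyclic G := by
  induction k using Nat.strong_induction_on with
  | _ k ih =>
  intro G _ _ hk hG N hNc hNcard hN
  have hpp := hp.out
  by_contra hM
  -- proper subgroups are metacyclic
  have hproper : ∀ H : Subgroup G, H ≠ ⊤ → IsMetacyclic H := by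
    intro H hH
    have hlt : Nat.card H < k := by
      rw [← hk]
      simpa using card_lt_of_lt (lt_top_iff_ne_top.mpr hH)
    refine ih _ hlt H rfl (hG.to_subgroup H) (N.subgroupOf H) ?_ ?_ ?_
    · intro x hx
      rw [Subgroup.mem_center_iff]
      intro y
      apply Subtype.ext
      exact (Subgroup.mem_center_iff.mp (hNc (Subgroup.mem_subgroupOf.mp hx))) y.1
    · refine le_trans ?_ hNcard
      apply Nat.card_le_card_of_injective
        (fun x : N.subgroupOf H => (⟨x.1.1, Subgroup.mem_subgroupOf.mp x.2⟩ : N))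
      intro a b hab
      have h1 := congrArg (fun z : N => (z : G)) hab
      exact Subtype.ext (Subtype.ext h1)
    · intro g hg
      rw [Subgroup.mem_subgroupOf]
      exact hN _ (by simpa using congrArg Subtype.val hg)
  -- the cyclic lemma
  have hcyc : ∀ H : Subgroup G, (∃ u ∈ N, u ∉ H) → IsCyclic H := by
    rintro H ⟨u, huN, huH⟩
    by_contra hnc
    obtain ⟨A, -, hA, hcA⟩ := exists_normal_card_sq hp2 (hG.to_subgroup H) hnc
    have h1 : A.map H.subtype ≤ N ⊓ H := by
      rintro _ ⟨a, ha, rfl⟩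
      refine ⟨hN _ (by simpa using congrArg Subtype.val (hA a ha)), a.2⟩
    have h2 : Nat.card (A.map H.subtype) = p ^ 2 := by
      rw [Subgroup.card_map_of_injective H.subtype_injective, hcA]
    have h3 : N ⊓ H < N := by
      refine lt_of_le_of_ne inf_le_left ?_
      intro h
      have : u ∈ N ⊓ H := by rw [h]; exact huN
      exact huH this.2
    have h4 := card_lt_of_lt h3
    have h5 := Subgroup.card_le_of_le h1
    omega
  -- coatoms above proper subgroups
  have hcoatom : ∀ H : Subgroup G, H ≠ ⊤ → ∃ M : Subgroup G, H ≤ M ∧ M.index = p := by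
    intro H hH
    obtain ⟨M, hM1, hM2⟩ := (eq_top_or_exists_le_coatom H).resolve_left hH
    exact ⟨M, hM2, index_eq_of_isCoatom hG hM1⟩
  have hindex_ne : ∀ M : Subgroup G, M.index = p → M ≠ ⊤ := by
    rintro M hM rfl
    rw [Subgroup.index_top] at hM
    exact hpp.one_lt.ne hM
  obtain ⟨K, hKdef⟩ : ∃ K, K = powerClosure p 1 (⊤ : Subgroup G) := ⟨_, rfl⟩
  haveI hKn : K.Normal := hKdef ▸ powerClosure_normal (p := p) ⊤ 1
  have hpowK : ∀ g : G, g ^ p ∈ K := by
    intro g
    rw [hKdef]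
    simpa using pow_mem_powerClosure p 1 (Subgroup.mem_top g)
  have hKidx : p ^ 3 ≤ K.index := by
    by_contra h
    push_neg at h
    apply hM
    apply isMetacyclic_of_index_le hp2 _ G rfl hG
    rw [← hKdef]
    obtain ⟨m, hm⟩ := IsPGroup.iff_card.mp hG
    have hdvd : K.index ∣ p ^ m := hm ▸ Subgroup.index_dvd_card K
    obtain ⟨a, -, ha⟩ := (Nat.dvd_prime_pow hpp).mp hdvd
    rw [ha] at h ⊢
    have := (Nat.pow_lt_pow_iff_right hpp.one_lt).mp h
    exact Nat.pow_le_pow_right hpp.pos (by omega)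
  -- Step 1: `℧₁(M) = K` for every maximal subgroup
  have hOM : ∀ M : Subgroup G, M.index = p → powerClosure p 1 M = K ∧ K.index = p ^ 3 := by
    intro M hMi
    have hmc := hproper M (hindex_ne M hMi)
    have h1 : powerClosure p 1 M ≤ K := by
      rw [hKdef]; exact powerClosure_mono p 1 le_top
    have h2 := relIndex_O_le (p := p) hmc
    have h3 := Subgroup.relIndex_mul_index (powerClosure_le p 1 M)
    have h4 := Subgroup.relIndex_mul_index h1
    rw [hMi] at h3
    have h5 : (powerClosure p 1 M).index ≤ p ^ 3 := by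
      rw [← h3, pow_succ]
      exact Nat.mul_le_mul_right _ h2
    have h6 : 0 < K.index := Nat.pos_of_ne_zero Subgroup.index_ne_zero_of_finite
    have h7 : 0 < (powerClosure p 1 M).relIndex K := by
      rcases Nat.eq_zero_or_pos ((powerClosure p 1 M).relIndex K) with h | h
      · rw [h, zero_mul] at h4
        have h8 : 0 < (powerClosure p 1 M).index :=
          Nat.pos_of_ne_zero Subgroup.index_ne_zero_of_finite
        omega
      · exact h
    have h8 : (powerClosure p 1 M).relIndex K = 1 := by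
      by_contra hne
      have h9 : 2 ≤ (powerClosure p 1 M).relIndex K := by omega
      have h10 : 2 * K.index ≤ (powerClosure p 1 M).index := by
        rw [← h4]
        exact Nat.mul_le_mul_right _ h9
      have : 0 < p ^ 3 := pow_pos hpp.pos 3
      omega
    rw [h8, one_mul] at h4
    refine ⟨le_antisymm h1 (Subgroup.relIndex_eq_one.mp h8), ?_⟩
    omega
  -- Step 2: `N ≤ M`
  have hNM : ∀ M : Subgroup G, M.index = p → N ≤ M := by
    intro M hMi
    by_contra h
    obtain ⟨u, hu, hu'⟩ := SetLike.not_le_iff_exists.mp h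
    exact hM (isMetacyclic_of_cyclic_index hG hMi (hcyc M ⟨u, hu, hu'⟩))
  have hKM : ∀ M : Subgroup G, M.index = p → K ≤ M := by
    intro M hMi
    rw [← (hOM M hMi).1]
    exact powerClosure_le p 1 M
  -- Step 3: `M' ≤ K`
  have hcommM : ∀ M : Subgroup G, M.index = p → ∀ g ∈ M, ∀ h ∈ M, ⁅g, h⁆ ∈ K := by
    intro M hMi g hg h hh
    have hmc := hproper M (hindex_ne M hMi)
    have h1 : (K.subgroupOf M).index ≤ p ^ 2 := by
      have h2 := relIndex_O_le (p := p) hmc
      rwa [(hOM M hMi).1] at h2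
    have h3 := commutator_le_of_index_le (hG.to_subgroup M) (K.subgroupOf M) h1
    have h4 : ⁅(⟨g, hg⟩ : M), (⟨h, hh⟩ : M)⁆ ∈ K.subgroupOf M :=
      h3 (Subgroup.commutator_mem_commutator (Subgroup.mem_top _) (Subgroup.mem_top _))
    exact Subgroup.mem_subgroupOf.mp h4
  have hKne : K ≠ ⊤ := by
    intro h
    rw [h, Subgroup.index_top] at hKidx
    have : 1 < p ^ 3 := Nat.one_lt_pow (by norm_num) hpp.one_lt
    omega
  obtain ⟨M₀, -, hM₀⟩ := hcoatom K hKne
  have hKidx' : K.index = p ^ 3 := (hOM M₀ hM₀).2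
  have hQc : Nat.card (G ⧸ K) = p ^ 3 := by rw [← Subgroup.index_eq_card, hKidx']
  obtain ⟨U, hUdef⟩ : ∃ U, U = powerClosure p 1 K := ⟨_, rfl⟩
  haveI hUn : U.Normal := hUdef ▸ powerClosure_normal K 1
  have hpowU : ∀ k ∈ K, k ^ p ∈ U := by
    intro k hk
    rw [hUdef]
    simpa using pow_mem_powerClosure p 1 hk
  by_cases hab : ∀ x y : G, ⁅x, y⁆ ∈ K
  · -- `G / K` is elementary abelian of order `p ^ 3`
    obtain ⟨g, hg⟩ : ∃ g, g ∉ M₀ := by
      by_contra h
      push_neg at h
      exact hindex_ne M₀ hM₀ (eq_top_iff.mpr fun x _ => h x)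
    have hgm : g ^ p ∈ powerClosure p 1 M₀ := by
      rw [(hOM M₀ hM₀).1]
      exact hpowK g
    obtain ⟨m, hm, hgmeq⟩ := (sub_mem_O hG hp2 (hproper M₀ (hindex_ne M₀ hM₀))).mp hgm
    have hne : closure ({g, m} : Set G) ⊔ K ≠ ⊤ := by
      intro h
      have h1 := card_le_of_two_gen (p := p) (Q := G ⧸ K) ?_ ?_ (g : G ⧸ K) (m : G ⧸ K) ?_
      · rw [hQc] at h1
        exact absurd h1 (not_le.mpr (Nat.pow_lt_pow_right hpp.one_lt (by norm_num)))
      · intro a b
        induction a using QuotientGroup.induction_on with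
        | H u =>
        induction b using QuotientGroup.induction_on with
        | H v =>
        have h2 := hab u v
        rw [← QuotientGroup.eq_one_iff, mk_comm, commutatorElement_eq_one_iff_mul_comm] at h2
        exact h2
      · intro a
        induction a using QuotientGroup.induction_on with
        | H u =>
        have h2 := hpowK u
        rw [← QuotientGroup.eq_one_iff] at h2
        simpa using h2
      · have h2 := congrArg (Subgroup.map (QuotientGroup.mk' K)) h
        rw [Subgroup.map_sup, MonoidHom.map_closure, Set.image_pair, QuotientGroup.map_mk'_self,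
          sup_bot_eq, Subgroup.map_top_of_surjective _ (QuotientGroup.mk'_surjective K)] at h2
        exact h2
    have hH := hproper _ hne
    have h1 := sub_pow_eq hG hp2 hH
      (Subgroup.mem_sup_left (Subgroup.subset_closure (by simp)))
      (Subgroup.mem_sup_left (Subgroup.subset_closure (by simp))) hgmeq
    have h2 : g⁻¹ * m ∈ M₀ := hNM M₀ hM₀ (hN _ h1)
    have h3 : g = m * (g⁻¹ * m)⁻¹ := by group
    exact hg (h3 ▸ M₀.mul_mem hm (M₀.inv_mem h2))
  -- `G / K` is nonabelian of order `p ^ 3`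
  push_neg at hab
  obtain ⟨x, y, hxy⟩ := hab
  have hQ : IsPGroup p (G ⧸ K) := hG.to_quotient K
  have hcenidx : (center (G ⧸ K)).index ≤ p ^ 2 := by
    have h1 := Subgroup.card_mul_index (center (G ⧸ K))
    rw [hQc] at h1
    haveI : Nontrivial (G ⧸ K) := by
      have : 1 < Nat.card (G ⧸ K) := by
        rw [hQc]
        exact Nat.one_lt_pow (by norm_num) hpp.one_lt
      exact Finite.one_lt_card_iff_nontrivial.mp this
    obtain ⟨z, -, hz, hzo⟩ := exists_central_orderOf_eq hQ (⊤ : Subgroup (G ⧸ K)) (by simp)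
    have h2 : p ≤ Nat.card (center (G ⧸ K)) := by
      have h3 : zpowers z ≤ center (G ⧸ K) := by rwa [Subgroup.zpowers_le]
      have h4 := Subgroup.card_le_of_le h3
      rwa [Nat.card_zpowers, hzo] at h4
    have h3 : p * (center (G ⧸ K)).index ≤ p * p ^ 2 := by
      calc p * (center (G ⧸ K)).index ≤ Nat.card (center (G ⧸ K)) * (center (G ⧸ K)).index :=
            Nat.mul_le_mul_right _ h2
        _ = p ^ 3 := h1
        _ = p * p ^ 2 := by ring
    exact Nat.le_of_mul_le_mul_left h3 hpp.pos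
  have hcomm_center := commutator_le_of_index_le hQ (center (G ⧸ K)) hcenidx
  have hΨ : ∀ a b : G, ((⁅a, b⁆ : G) : G ⧸ K) ∈ center (G ⧸ K) := fun a b => by
    rw [mk_comm]
    exact hcomm_center (Subgroup.commutator_mem_commutator (Subgroup.mem_top _) (Subgroup.mem_top _))
  obtain ⟨c, hc⟩ : ∃ c, c = x⁻¹ * (y⁻¹ * x * y) := ⟨_, rfl⟩
  have hcom : c = ⁅x⁻¹, y⁻¹⁆ := by
    rw [hc, commutatorElement_def]
    group
  have hcK : c ∉ K := by
    intro h
    apply hxy
    have h1 : ⁅x, y⁆ = (x * y) * c * (x * y)⁻¹ := by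
      rw [hc, commutatorElement_def]
      group
    rw [h1]
    exact hKn.conj_mem c h _
  have hcc : (c : G ⧸ K) ∈ center (G ⧸ K) := hcom ▸ hΨ _ _
  -- maximal subgroups through a non-central element
  have hplane : ∀ z w : G, ⁅z, w⁆ ∉ K → ∃ M : Subgroup G, M.index = p ∧ z ∈ M ∧
      (∀ a : G, (a : G ⧸ K) ∈ center (G ⧸ K) → a ∈ M) ∧ w ∉ M := by
    intro z w hzw
    let C : Subgroup G := (centralizer ({(z : G ⧸ K)} : Set (G ⧸ K))).comap (QuotientGroup.mk' K)
    have hCne : C ≠ ⊤ := by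
      intro h
      have h1 : w ∈ C := by rw [h]; trivial
      have h2 : (w : G ⧸ K) ∈ centralizer ({(z : G ⧸ K)} : Set (G ⧸ K)) := h1
      rw [Subgroup.mem_centralizer_singleton_iff] at h2
      apply hzw
      rw [← QuotientGroup.eq_one_iff, mk_comm, commutatorElement_eq_one_iff_mul_comm]
      exact h2.symm
    obtain ⟨M, hCM, hMi⟩ := hcoatom C hCne
    refine ⟨M, hMi, hCM ?_, ?_, ?_⟩
    · show (z : G ⧸ K) ∈ centralizer ({(z : G ⧸ K)} : Set (G ⧸ K))
      rw [Subgroup.mem_centralizer_singleton_iff]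
    · intro a ha
      apply hCM
      show (a : G ⧸ K) ∈ centralizer ({(z : G ⧸ K)} : Set (G ⧸ K))
      rw [Subgroup.mem_centralizer_singleton_iff]
      exact ((Subgroup.mem_center_iff.mp ha) _).symm
    · intro hw
      exact hzw (hcommM M hMi z (hCM (by
        show (z : G ⧸ K) ∈ centralizer ({(z : G ⧸ K)} : Set (G ⧸ K))
        rw [Subgroup.mem_centralizer_singleton_iff])) w hw)
  have hyx : ⁅y, x⁆ ∉ K := by
    intro h
    apply hxy
    rw [← commutatorElement_inv]
    exact K.inv_mem h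
  obtain ⟨Mx, hMxi, hxMx, hcMx, hyMx⟩ := hplane x y hxy
  obtain ⟨My, hMyi, hyMy, -, -⟩ := hplane y x hyx
  have hcMx' : c ∈ Mx := hcMx c hcc
  -- (P2)
  have hP2 : ∀ M : Subgroup G, M.index = p → ∀ g ∈ M, ∀ h ∈ M, ∃ u ∈ U, (g * h) ^ p = g ^ p * h ^ p * u := by
    intro M hMi g hg h hh
    obtain ⟨c₁, hc₁, he⟩ := sub_mul_pow hG hp2 (hproper M (hindex_ne M hMi)) hg hh
    have h1 : ⁅M, M⁆ ≤ K := Subgroup.commutator_le.mpr (hcommM M hMi)
    exact ⟨c₁ ^ p, hpowU c₁ (h1 hc₁), he⟩
  -- (P3)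
  have hP3 : ∀ M : Subgroup G, M.index = p → ∀ k ∈ K, ∀ h ∈ M, h⁻¹ * k * h * k⁻¹ ∈ U := by
    intro M hMi k hk h hh
    have hk' : k ∈ powerClosure p 1 M := by rw [(hOM M hMi).1]; exact hk
    obtain ⟨m, hm, rfl⟩ := (sub_mem_O hG hp2 (hproper M (hindex_ne M hMi))).mp hk'
    obtain ⟨c₂, hc₂⟩ : ∃ c₂, c₂ = m⁻¹ * (h⁻¹ * m * h) := ⟨_, rfl⟩
    have hc₂K : c₂ ∈ K := by
      have h1 : c₂ = ⁅m⁻¹, h⁻¹⁆ := by
        rw [hc₂, commutatorElement_def]
        group
      rw [h1]
      exact hcommM M hMi _ (M.inv_mem hm) _ (M.inv_mem hh)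
    have h2 : h⁻¹ * m * h = m * c₂ := by rw [hc₂]; group
    obtain ⟨u, hu, he⟩ := hP2 M hMi m hm c₂ (hKM M hMi hc₂K)
    have h3 : h⁻¹ * m ^ p * h = (m * c₂) ^ p := by
      rw [← h2]
      have := conj_pow (a := h⁻¹) (b := m) (i := p)
      simpa using this.symm
    rw [h3, he]
    have h4 : m ^ p * c₂ ^ p * u * (m ^ p)⁻¹ = m ^ p * (c₂ ^ p * u) * (m ^ p)⁻¹ := by group
    rw [h4]
    exact hUn.conj_mem _ (U.mul_mem (hpowU _ hc₂K) hu) _
  -- (P5)
  obtain ⟨u, hu, he1⟩ := hP2 Mx hMxi x hxMx c hcMx'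
  have he2 : y⁻¹ * x * y = x * c := by rw [hc]; group
  have he3 : (x * c) ^ p = y⁻¹ * x ^ p * y := by
    rw [← he2]
    have := conj_pow (a := y⁻¹) (b := x) (i := p)
    simpa using this
  have hu₂ := hP3 My hMyi (x ^ p) (hpowK x) y hyMy
  have hcpU : c ^ p ∈ U := by
    have h1 : c ^ p = (x ^ p)⁻¹ * (y⁻¹ * x ^ p * y * (x ^ p)⁻¹) * x ^ p * u⁻¹ := by
      have h2 : y⁻¹ * x ^ p * y = x ^ p * c ^ p * u := by rw [← he3, he1]
      rw [h2]
      group
    rw [h1]
    apply U.mul_mem _ (U.inv_mem hu)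
    have := hUn.conj_mem _ hu₂ (x ^ p)⁻¹
    simpa using this
  have hcpO : c ^ p ∈ powerClosure p 1 K := hUdef ▸ hcpU
  obtain ⟨k₀, hk₀, hk₀e⟩ := (sub_mem_O hG hp2 (hproper K hKne)).mp hcpO
  obtain ⟨t, ht⟩ : ∃ t, t = c⁻¹ * k₀ := ⟨_, rfl⟩
  have htN : t ∈ N := by
    apply hN
    rw [ht]
    exact sub_pow_eq hG hp2 (hproper Mx (hindex_ne Mx hMxi)) hcMx' (hKM Mx hMxi hk₀) hk₀e
  have htK : t ∉ K := by
    intro h
    apply hcK
    have h1 : c = k₀ * t⁻¹ := by rw [ht]; group
    rw [h1]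
    exact K.mul_mem hk₀ (K.inv_mem h)
  have htc : t ∈ center G := hNc htN
  have htQ : (t : G ⧸ K) ∈ center (G ⧸ K) := by
    have h1 : (t : G ⧸ K) = (c : G ⧸ K)⁻¹ := by
      rw [ht, QuotientGroup.mk_mul, QuotientGroup.mk_inv, (QuotientGroup.eq_one_iff k₀).mpr hk₀, mul_one]
    rw [h1]
    exact Subgroup.inv_mem _ hcc
  -- (P6)
  have hP6 : ∀ z w : G, ⁅z, w⁆ ∉ K → IsCyclic (closure ({z} : Set G) ⊔ K : Subgroup G) := by
    intro z w hzw
    apply hcyc
    refine ⟨t, htN, ?_⟩
    intro htM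
    rw [Subgroup.mem_sup_of_normal_right] at htM
    obtain ⟨a, ha, b, hb, hab⟩ := htM
    rw [← Subgroup.zpowers_eq_closure] at ha
    obtain ⟨i, rfl⟩ := Cfsg.Agent.Lib.Metacyclic.Basic.exists_natPow_of_mem_zpowers ha
    have hi : ¬ p ∣ i := by
      rintro ⟨j, rfl⟩
      apply htK
      rw [← hab, pow_mul]
      exact K.mul_mem (K.pow_mem (hpowK z) j) hb
    have h1 : ((z : G ⧸ K)) ^ i ∈ center (G ⧸ K) := by
      have h2 : (t : G ⧸ K) = (z : G ⧸ K) ^ i := by
        rw [← hab, QuotientGroup.mk_mul, (QuotientGroup.eq_one_iff b).mpr hb, mul_one,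
          QuotientGroup.mk_pow]
      rwa [← h2]
    have h2 : (z : G ⧸ K) ^ p = 1 := by
      rw [← QuotientGroup.mk_pow]
      exact (QuotientGroup.eq_one_iff _).mpr (hpowK z)
    have h3 := mem_of_pow_mem h2 hi h1
    apply hzw
    rw [← QuotientGroup.eq_one_iff, mk_comm, commutatorElement_eq_one_iff_mul_comm]
    exact ((Subgroup.mem_center_iff.mp h3) _).symm
  have hP6' : ∀ z w : G, ⁅z, w⁆ ∉ K → (∀ k ∈ K, z * k = k * z) ∧ ∀ k₁ ∈ K, ∀ k₂ ∈ K, k₁ * k₂ = k₂ * k₁ := by
    intro z w hzw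
    haveI := hP6 z w hzw
    have hcomm : IsMulCommutative (closure ({z} : Set G) ⊔ K : Subgroup G) := IsCyclic.isMulCommutative
    have hcm : ∀ a ∈ (closure ({z} : Set G) ⊔ K : Subgroup G), ∀ b ∈ (closure ({z} : Set G) ⊔ K : Subgroup G),
        a * b = b * a := by
      intro a ha b hb
      exact congrArg Subtype.val (hcomm.is_comm.comm ⟨a, ha⟩ ⟨b, hb⟩)
    refine ⟨fun k hk => hcm _ (Subgroup.mem_sup_left (Subgroup.subset_closure rfl)) _
      (Subgroup.mem_sup_right hk), fun k₁ h₁ k₂ h₂ => hcm _ (Subgroup.mem_sup_right h₁) _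
      (Subgroup.mem_sup_right h₂)⟩
  obtain ⟨hxK, hKK⟩ := hP6' x y hxy
  obtain ⟨hyK, -⟩ := hP6' y x hyx
  -- (P7)
  have hKcen : K ≤ center G := by
    intro k hk
    rw [Subgroup.mem_center_iff]
    have hS : centralizer (K : Set G) = ⊤ := by
      by_contra hne
      obtain ⟨M, hSM, hMi⟩ := hcoatom _ hne
      apply hxy
      apply hcommM M hMi x (hSM _) y (hSM _)
      · rw [Subgroup.mem_centralizer_iff]
        intro k hk
        exact (hxK k hk).symm
      · rw [Subgroup.mem_centralizer_iff]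
        intro k hk
        exact (hyK k hk).symm
    intro g
    have h1 : g ∈ centralizer (K : Set G) := by rw [hS]; trivial
    exact (Subgroup.mem_centralizer_iff.mp h1 k hk).symm
  -- (P8)
  have hΦle : closure ({t} : Set G) ⊔ K ≤ center G := by
    refine sup_le ?_ hKcen
    rw [Subgroup.closure_le]
    rintro _ rfl
    exact htc
  haveI hΦn : (closure ({t} : Set G) ⊔ K : Subgroup G).Normal := by
    constructor
    intro n hn g
    have := (Subgroup.mem_center_iff.mp (hΦle hn)) g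
    rw [this, mul_inv_cancel_right]
    exact hn
  have hΦidx : (closure ({t} : Set G) ⊔ K : Subgroup G).index ≤ p ^ 2 := by
    have h1 := Subgroup.relIndex_mul_index (le_sup_right : K ≤ closure ({t} : Set G) ⊔ K)
    rw [hKidx'] at h1
    have h2 : p ≤ K.relIndex (closure ({t} : Set G) ⊔ K) := by
      apply p_le_relIndex hG le_sup_right
      intro h
      apply htK
      rw [h]
      exact Subgroup.mem_sup_left (Subgroup.subset_closure rfl)
    have h3 : p * (closure ({t} : Set G) ⊔ K : Subgroup G).index ≤ p * p ^ 2 := by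
      calc p * (closure ({t} : Set G) ⊔ K : Subgroup G).index
          ≤ K.relIndex (closure ({t} : Set G) ⊔ K) * (closure ({t} : Set G) ⊔ K : Subgroup G).index :=
            Nat.mul_le_mul_right _ h2
        _ = p ^ 3 := h1
        _ = p * p ^ 2 := by ring
    exact Nat.le_of_mul_le_mul_left h3 hpp.pos
  have hclass : ∀ a b : G, ⁅a, b⁆ ∈ center G := by
    intro a b
    exact hΦle (commutator_le_of_index_le hG _ hΦidx
      (Subgroup.commutator_mem_commutator (Subgroup.mem_top _) (Subgroup.mem_top _)))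
  -- (P9)
  have hmulpow : ∀ g h : G, (g * h) ^ p = g ^ p * h ^ p := by
    intro g h
    rw [Cfsg.Agent.Lib.PGroups.ClassTwo.mul_pow hclass]
    obtain ⟨j, hj⟩ := Cfsg.Agent.Lib.PGroups.ClassTwo.prime_dvd_choose_two hpp hp2
    rw [hj, pow_mul, ← Cfsg.Agent.Lib.PGroups.ClassTwo.comm_pow_left hclass]
    have h1 : ⁅h ^ p, g⁆ = 1 := by
      rw [commutatorElement_eq_one_iff_mul_comm]
      exact ((Subgroup.mem_center_iff.mp (hKcen (hpowK h))) g).symm
    rw [h1, one_pow, mul_one]
  -- (P10)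
  let P : G →* G := MonoidHom.mk' (fun g => g ^ p) hmulpow
  have h1 : Nat.card P.ker * P.ker.index = Nat.card G := Subgroup.card_mul_index _
  rw [Subgroup.index_ker] at h1
  have h2 : Nat.card P.ker ≤ p ^ 2 := by
    refine le_trans (Subgroup.card_le_of_le ?_) hNcard
    intro g hg
    exact hN g (MonoidHom.mem_ker.mp hg)
  have h3 : Nat.card P.range ≤ Nat.card K := by
    apply Subgroup.card_le_of_le
    rintro _ ⟨g, rfl⟩
    exact hpowK g
  have h4 := Subgroup.card_mul_index K
  rw [hKidx'] at h4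
  have h5 : 0 < Nat.card K := Nat.card_pos
  have h6 : Nat.card K * p ^ 3 ≤ Nat.card K * p ^ 2 := by
    rw [h4, ← h1, mul_comm (Nat.card K)]
    exact Nat.mul_le_mul h2 h3
  have h7 := Nat.le_of_mul_le_mul_left h6 h5
  exact absurd h7 (not_le.mpr (Nat.pow_lt_pow_right hpp.one_lt (by norm_num)))

end Cfsg.Agent.Lib.PGroups.RankTwoCentral
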