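/-
An order-`p` automorphism of an abelian group `C_{p^(m+1)} × C_p`: the abstract computations behind the
classification of `p`-groups of rank at most two, `p` odd.
-/
import Cfsg.Agent.Lib.PGroups.RankTwoCentral

set_option autoImplicit false

namespace Cfsg.Agent.Lib.PGroups.RankTwoCaseIAbs

open Cfsg Subgroup
open Cfsg.Agent.Lib.PGroups.RankTwoCore Cfsg.Agent.Lib.PGroups.RankTwoAut
open scoped commutatorElement

universe u

variable {p : ℕ} [hp : Fact p.Prime]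

/-- The group is generated by `z` and `w` if `⟨z⟩` has index `p` and `w ∉ ⟨z⟩`. -/
theorem gen_of_not_mem {A : Type*} [Group A] [Finite A] {z w : A} (hD : (zpowers z).index = p)
    (hw : w ∉ zpowers z) (hn : (zpowers z).Normal) : ∀ g : A, ∃ a b : ℕ, g = z ^ a * w ^ b := by
  have hco : IsCoatom (zpowers z) :=
    Cfsg.Agent.Lib.PGroups.Basic.isCoatom_of_index_prime (hD ▸ hp.out)
  have h1 : zpowers z ⊔ zpowers w = ⊤ := by
    apply hco.2
    refine lt_of_le_of_ne le_sup_left ?_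
    intro h
    apply hw
    rw [h]
    exact Subgroup.mem_sup_right (Subgroup.mem_zpowers w)
  intro g
  have hg : g ∈ zpowers z ⊔ zpowers w := by rw [h1]; trivial
  rw [Subgroup.mem_sup_of_normal_left] at hg
  obtain ⟨a, ha, b, hb, rfl⟩ := hg
  obtain ⟨i, rfl⟩ := Cfsg.Agent.Lib.Metacyclic.Basic.exists_natPow_of_mem_zpowers ha
  obtain ⟨j, rfl⟩ := Cfsg.Agent.Lib.Metacyclic.Basic.exists_natPow_of_mem_zpowers hb
  exact ⟨i, j, rfl⟩

/-- The action of an automorphism of order `p` on a cyclic `p`-group. -/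
theorem act {A : Type*} [Group A] (hp2 : p ≠ 2) (σ : MulAut A) {w : A} {k m : ℕ}
    (ho : orderOf w = p ^ m) (h1 : σ w = w ^ (1 + p * k)) (h2 : (σ ^ p) w = w) :
    p ^ m ∣ p * k * p := by
  have hpp := hp.out
  have hit : ∀ i : ℕ, (σ ^ i) w = w ^ ((1 + p * k) ^ i) := by
    intro i
    induction i with
    | zero => simp
    | succ i ih =>
      rw [pow_succ, MulAut.mul_apply, h1, map_pow, ih, ← pow_mul, pow_succ]
  have h3 := hit p
  rw [h2] at h3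
  have h4 : w ^ 1 = w ^ ((1 + p * k) ^ p) := by rw [pow_one]; exact h3
  rw [pow_eq_pow_iff_modEq, ho] at h4
  by_cases hk : k = 0
  · rw [hk]; simp
  have hodd : Odd p := hpp.odd_of_ne_two hp2
  have hk0 : p * k ≠ 0 := mul_ne_zero hpp.ne_zero hk
  have h5 : 1 < 1 + p * k := by omega
  have hdvdx : p ∣ (1 + p * k) - 1 := by simp
  have hnx : ¬ p ∣ 1 + p * k := by
    intro h
    have h6 : p ∣ 1 := (Nat.dvd_add_left (Nat.dvd_mul_right p k)).mp h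
    exact hpp.one_lt.ne' (Nat.dvd_one.mp h6)
  have h7 := padicValNat.pow_sub_pow hodd h5 hdvdx hnx hpp.ne_zero
  rw [padicValNat_self, one_pow, Nat.add_sub_cancel_left] at h7
  have h8 : 1 ≤ (1 + p * k) ^ p := Nat.one_le_pow _ _ (by omega)
  have h9 : p ^ m ∣ (1 + p * k) ^ p - 1 := (Nat.modEq_iff_dvd' h8).mp h4
  have hne : (1 + p * k) ^ p - 1 ≠ 0 := by
    have : 1 < (1 + p * k) ^ p := Nat.one_lt_pow hpp.ne_zero h5
    omega
  have h10 := (padicValNat_dvd_iff_le hne).mp h9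
  rw [h7] at h10
  -- `p ^ m ∣ (p * k) * p`
  have h11 : p ^ padicValNat p (p * k) ∣ p * k := pow_padicValNat_dvd
  calc p ^ m ∣ p ^ (padicValNat p (p * k) + 1) := pow_dvd_pow _ h10
    _ = p ^ padicValNat p (p * k) * p := pow_succ _ _
    _ ∣ p * k * p := Nat.mul_dvd_mul_right h11 p

/-- The partial norms of an automorphism. -/
def normP {A : Type*} [Group A] (σ : MulAut A) (g : A) : ℕ → A
  | 0 => 1
  | k + 1 => normP σ g k * (σ ^ k) g

section Abs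

variable {A : Type*} [CommGroup A]

theorem fix_pow_mem {z : A} {m : ℕ} (hzo : orderOf z = p ^ (m + 1)) {a : ℕ}
    (h : (z ^ a) ^ p = 1) : ∃ k : ℕ, z ^ a = (z ^ p ^ m) ^ k := by
  have hpp := hp.out
  have h1 : p ^ (m + 1) ∣ a * p := by
    rw [← hzo]
    apply orderOf_dvd_of_pow_eq_one
    rw [pow_mul]; exact h
  have h2 : p ^ m ∣ a := by
    rw [pow_succ] at h1
    exact Nat.dvd_of_mul_dvd_mul_right hpp.pos h1
  obtain ⟨k, rfl⟩ := h2
  exact ⟨k, by rw [pow_mul]⟩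

/-- **Dichotomy.** -/
theorem dichotomy [Finite A] (hp2 : p ≠ 2) (σ : MulAut A) (hσ : ∀ g, (σ ^ p) g = g) {m : ℕ} (hm : 1 ≤ m)
    {z y : A} (hzo : orderOf z = p ^ (m + 1)) (hgen : ∀ g : A, ∃ a b : ℕ, g = z ^ a * y ^ b)
    (hyp : y ^ p = 1) (hy : y ∉ zpowers z) (hz₀ : σ (z ^ p ^ m) = z ^ p ^ m) {c : ℕ} (hc : ¬ p ∣ c)
    (hδ : σ y = y * (z ^ p ^ m) ^ c) :
    (∃ d : ℕ, σ z = z * (z ^ p ^ m) ^ d) ∨
    (∃ (u : A) (c₂ : ℕ), ¬ p ∣ c₂ ∧ σ z = z * u ∧ u ^ p = 1 ∧ u ∉ zpowers z ∧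
      σ u = u * (z ^ p ^ m) ^ c₂) := by
  have hpp := hp.out
  obtain ⟨z₀, hz₀def⟩ : ∃ z₀, z₀ = z ^ p ^ m := ⟨_, rfl⟩
  rw [← hz₀def] at hz₀ hδ ⊢
  have hz₀p : z₀ ^ p = 1 := by
    rw [hz₀def, ← pow_mul, ← pow_succ, ← hzo, pow_orderOf_eq_one]
  obtain ⟨u, hu⟩ : ∃ u, u = z⁻¹ * σ z := ⟨_, rfl⟩
  have hσz : σ z = z * u := by rw [hu]; group
  obtain ⟨a, b, hab⟩ := hgen u
  have hyM : y ^ p ^ m = 1 := by
    obtain ⟨t, rfl⟩ : ∃ t, m = t + 1 := ⟨m - 1, by omega⟩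
    rw [pow_succ, mul_comm, pow_mul, hyp, one_pow]
  have h1 : u ^ p ^ m = 1 := by
    have h2 : (σ z) ^ p ^ m = z₀ := by
      rw [← map_pow, ← hz₀def, hz₀]
    rw [hσz, mul_pow, ← hz₀def] at h2
    exact mul_eq_left.mp h2
  have hpa : p ∣ a := by
    have h2 : z ^ (a * p ^ m) = 1 := by
      rw [hab, mul_pow, ← pow_mul, ← pow_mul, mul_comm b, pow_mul y, hyM, one_pow, mul_one] at h1
      exact h1
    have h3 : p ^ (m + 1) ∣ a * p ^ m := hzo ▸ orderOf_dvd_of_pow_eq_one h2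
    rw [pow_succ'] at h3
    exact Nat.dvd_of_mul_dvd_mul_right (pow_pos hpp.pos m) h3
  obtain ⟨k, rfl⟩ := hpa
  by_cases hb : p ∣ b
  · left
    have hyb : y ^ b = 1 := by
      obtain ⟨t, rfl⟩ := hb
      rw [pow_mul, hyp, one_pow]
    rw [hyb, mul_one] at hab
    have h2 : σ z = z ^ (1 + p * k) := by
      rw [hσz, hab, pow_add, pow_one]
    have h3 := act hp2 σ hzo h2 (hσ z)
    have h4 : p ^ m ∣ p * k := by
      rw [pow_succ] at h3
      exact Nat.dvd_of_mul_dvd_mul_right hpp.pos h3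
    obtain ⟨d, hd⟩ := h4
    refine ⟨d, ?_⟩
    rw [hσz, hab, hd, pow_mul, hz₀def]
  · right
    have hupow : u ^ p = z ^ (p * k * p) := by
      rw [hab, mul_pow, ← pow_mul, ← pow_mul, mul_comm b, pow_mul y, hyp, one_pow, mul_one]
    -- action on `z ^ p`
    have hσzp : σ (z ^ p) = (z ^ p) ^ (1 + p * k) := by
      rw [map_pow, hσz, mul_pow, hupow, pow_add, pow_one, ← pow_mul, mul_comm (p * k) p]
    have hordw : orderOf (z ^ p) = p ^ m := by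
      rw [orderOf_pow_of_dvd hpp.ne_zero (by rw [hzo]; exact dvd_pow_self p (Nat.succ_ne_zero m)), hzo,
        pow_succ]
      exact Nat.mul_div_cancel _ hpp.pos
    have h3 := act hp2 σ hordw hσzp (hσ _)
    obtain ⟨d', hd'⟩ := h3
    have hup0 : u ^ p = z₀ ^ d' := by
      rw [hupow, hd', pow_mul, hz₀def]
    -- `σ u`
    have hσzp' : σ (z ^ p) = z ^ p * z₀ ^ d' := by
      rw [map_pow, hσz, mul_pow, hup0]
    have hσu : σ u = u * z₀ ^ (d' * k + c * b) := by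
      have h4 : σ u = (σ (z ^ p)) ^ k * (σ y) ^ b := by
        rw [hab, pow_mul, map_mul, map_pow σ (z ^ p) k, map_pow σ y b]
      rw [h4, hσzp', hδ, mul_pow, mul_pow, hab, pow_mul z p k, pow_add, pow_mul z₀, pow_mul z₀]
      simp only [mul_comm, mul_left_comm, mul_assoc]
    obtain ⟨f, hf⟩ : ∃ f, f = z₀ ^ (d' * k + c * b) := ⟨_, rfl⟩
    rw [← hf] at hσu
    have hfp : f ^ p = 1 := by
      rw [hf, ← pow_mul, mul_comm, pow_mul, hz₀p, one_pow]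
    have hσf : σ f = f := by
      rw [hf, map_pow, hz₀]
    haveI : Finite A := inferInstance
    have hie := iter_e σ hσz hσu hσf (Commute.all u f) p
    rw [hσ] at hie
    have hf1 : f ^ p.choose 2 = 1 := by
      obtain ⟨t, ht⟩ := Cfsg.Agent.Lib.PGroups.ClassTwo.prime_dvd_choose_two hpp hp2
      rw [ht, pow_mul, hfp, one_pow]
    rw [hf1, mul_one] at hie
    have hup1 : u ^ p = 1 := (mul_eq_left.mp hie.symm)
    have hunot : u ∉ zpowers z := by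
      intro h
      apply hy
      have h5 : y ^ b = (z ^ (p * k))⁻¹ * u := by
        rw [hab]; group
      have h6 : y ^ b ∈ zpowers z := by
        rw [h5]
        exact Subgroup.mul_mem _ (Subgroup.inv_mem _ (Subgroup.pow_mem _ (Subgroup.mem_zpowers z) _)) h
      exact mem_of_pow_mem hyp hb h6
    have hzk : (z ^ (p * k)) ^ p = 1 := by
      have h5 : z ^ (p * k) = u * (y ^ b)⁻¹ := by
        rw [hab]; group
      rw [h5, mul_pow, hup1, one_mul, inv_pow, ← pow_mul, mul_comm b, pow_mul, hyp, one_pow, inv_one]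
    obtain ⟨k', hk'⟩ := fix_pow_mem hzo hzk
    rw [← hz₀def] at hk'
    refine ⟨u, c * b, ?_, hσz, hup1, hunot, ?_⟩
    · intro h
      rcases hpp.dvd_mul.mp h with h | h
      · exact hc h
      · exact hb h
    · have h5 : u = z₀ ^ k' * y ^ b := by rw [hab, hk']
      have h6 : σ u = (σ z₀) ^ k' * (σ y) ^ b := by
        rw [h5, map_mul, map_pow, map_pow]
      rw [h6, hz₀, hδ, mul_pow, h5, pow_mul z₀ c b]
      simp only [mul_assoc]

theorem alpha_data (σ : MulAut A) {m : ℕ} (hm : 1 ≤ m) {z y : A} (hzo : orderOf z = p ^ (m + 1))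
    (hyp : y ^ p = 1) (hz₀ : σ (z ^ p ^ m) = z ^ p ^ m) {c : ℕ} (hc : ¬ p ∣ c)
    (hδ : σ y = y * (z ^ p ^ m) ^ c) {d : ℕ} (hd : σ z = z * (z ^ p ^ m) ^ d) :
    ∃ (y₁ z₁ : A) (e₁ e₂ : ℕ), y₁ ^ p = 1 ∧ z₁ ^ p ^ (m + 1) = 1 ∧ σ z₁ = z₁ ∧
      σ y₁ = y₁ * z₁ ^ p ^ m ∧ z₁ ^ p ^ m = z ^ p ^ m ∧ z = z₁ * y₁ ^ e₁ ∧ y = y₁ ^ e₂ := by
  have hpp := hp.out
  obtain ⟨z₀, hz₀def⟩ : ∃ z₀, z₀ = z ^ p ^ m := ⟨_, rfl⟩
  rw [← hz₀def] at hz₀ hδ hd
  have hz₀p : z₀ ^ p = 1 := by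
    rw [hz₀def, ← pow_mul, ← pow_succ, ← hzo, pow_orderOf_eq_one]
  have hco : Nat.Coprime c p := ((Nat.Prime.coprime_iff_not_dvd hpp).mpr hc).symm
  obtain ⟨c', -, hc'⟩ := Nat.exists_mul_mod_eq_one_of_coprime hco hpp.one_lt
  obtain ⟨y₁, hy₁⟩ : ∃ y₁, y₁ = y ^ c' := ⟨_, rfl⟩
  have hy₁p : y₁ ^ p = 1 := by
    rw [hy₁, ← pow_mul, mul_comm, pow_mul, hyp, one_pow]
  have hy₁M : y₁ ^ p ^ m = 1 := by
    obtain ⟨t, rfl⟩ : ∃ t, m = t + 1 := ⟨m - 1, by omega⟩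
    rw [pow_succ, mul_comm, pow_mul, hy₁p, one_pow]
  have hσy₁ : σ y₁ = y₁ * z₀ := by
    rw [hy₁, map_pow, hδ, mul_pow, ← pow_mul z₀, pow_eq_pow_mod (c * c') hz₀p, hc', pow_one]
  obtain ⟨z₁, hz₁⟩ : ∃ z₁, z₁ = z * (y₁ ^ d)⁻¹ := ⟨_, rfl⟩
  have hz₁M : z₁ ^ p ^ m = z₀ := by
    rw [hz₁, mul_pow, inv_pow, ← pow_mul, mul_comm d, pow_mul, hy₁M, one_pow, inv_one, mul_one, hz₀def]
  refine ⟨y₁, z₁, d, c, hy₁p, ?_, ?_, ?_, ?_, ?_, ?_⟩
  · rw [pow_succ, pow_mul, hz₁M, hz₀p]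
  · rw [hz₁, map_mul, map_inv, map_pow, hd, hσy₁, mul_pow, mul_inv]
    have : z * z₀ ^ d * ((y₁ ^ d)⁻¹ * (z₀ ^ d)⁻¹) = z * (y₁ ^ d)⁻¹ * (z₀ ^ d * (z₀ ^ d)⁻¹) := by
      simp only [mul_comm, mul_left_comm, mul_assoc]
    rw [this, mul_inv_cancel, mul_one]
  · rw [hσy₁, hz₁M]
  · rw [hz₁M, hz₀def]
  · rw [hz₁, inv_mul_cancel_right]
  · rw [hy₁, ← pow_mul, mul_comm, pow_eq_pow_mod (c * c') hyp, hc', pow_one]

theorem alpha_fixed (σ : MulAut A) {y₁ z₁ z₀ : A} (hz₀1 : z₀ ≠ 1) (hz₀p : z₀ ^ p = 1)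
    (hy₁p : y₁ ^ p = 1) (h1 : σ z₁ = z₁) (h2 : σ y₁ = y₁ * z₀) {a b : ℕ}
    (hg : σ (z₁ ^ a * y₁ ^ b) = z₁ ^ a * y₁ ^ b) : z₁ ^ a * y₁ ^ b = z₁ ^ a := by
  have hpp := hp.out
  rw [map_mul, map_pow, map_pow, h1, h2, mul_pow, ← mul_assoc] at hg
  have h3 : z₀ ^ b = 1 := mul_eq_left.mp hg
  have h4 : orderOf z₀ = p := orderOf_eq_prime hz₀p hz₀1
  have h5 : p ∣ b := h4 ▸ orderOf_dvd_of_pow_eq_one h3
  obtain ⟨t, rfl⟩ := h5
  rw [pow_mul, hy₁p, one_pow, mul_one]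

theorem beta_iter [Finite A] (σ : MulAut A) {z u f : A} (h1 : σ z = z * u) (h2 : σ u = u * f)
    (h3 : σ f = f) (j : ℕ) :
    (σ ^ j) z = z * (u ^ j * f ^ (j.choose 2)) ∧
    (σ ^ j) (u ^ j * f ^ (j.choose 2)) = (u ^ j * f ^ (j.choose 2)) * f ^ (j * j) := by
  have hf : ∀ i : ℕ, (σ ^ i) f = f := by
    intro i
    induction i with
    | zero => simp
    | succ i ih => rw [pow_succ', MulAut.mul_apply, ih, h3]
  have hu : (σ ^ j) u = u * f ^ j := by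
    have := iter_e σ (z := 1) h2 (by rw [mul_one]; exact h3) (map_one σ) (Commute.one_right f) j
    simpa using this
  refine ⟨?_, ?_⟩
  · rw [iter_e σ h1 h2 h3 (Commute.all u f) j, mul_assoc]
  · rw [map_mul, map_pow, map_pow, hu, hf, mul_pow, ← pow_mul]
    simp only [mul_comm, mul_left_comm, mul_assoc]

/-- Choosing the parameter `s`. -/
theorem exists_j_s {c₂ : ℕ} (hc : ¬ p ∣ c₂) :
    ∃ j s : ℕ, ¬ p ∣ j ∧ (s = 1 ∨ ¬ IsSquare (s : ZMod p)) ∧ ((c₂ * (j * j) : ℕ) : ZMod p) = s := by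
  have hpp := hp.out
  haveI : NeZero p := ⟨hpp.ne_zero⟩
  by_cases h : IsSquare (c₂ : ZMod p)
  · obtain ⟨r, hr⟩ := h
    have hc0 : (c₂ : ZMod p) ≠ 0 := by
      rwa [Ne, ZMod.natCast_eq_zero_iff]
    have hr0 : r ≠ 0 := by
      rintro rfl
      rw [hr, mul_zero] at hc0
      exact hc0 rfl
    refine ⟨(r⁻¹).val, 1, ?_, Or.inl rfl, ?_⟩
    · rw [← ZMod.natCast_eq_zero_iff, ZMod.natCast_zmod_val]
      exact inv_ne_zero hr0
    · push_cast
      rw [ZMod.natCast_zmod_val, hr]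
      field_simp
  · refine ⟨1, c₂, ?_, Or.inr h, by simp⟩
    intro h1
    exact hpp.one_lt.ne' (Nat.dvd_one.mp h1)

/-- The norm of `z`. -/
theorem norm_z [Finite A] (σ : MulAut A) {z u f : A} (h1 : σ z = z * u) (h2 : σ u = u * f)
    (h3 : σ f = f) (k : ℕ) :
    normP σ z k = z ^ k * u ^ (k.choose 2) * f ^ (k.choose 3) := by
  induction k with
  | zero => simp [normP]
  | succ k ih =>
    have h4 : (k + 1).choose 2 = k + k.choose 2 := by
      rw [Nat.choose_succ_succ' k 1, Nat.choose_one_right]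
    have h5 : (k + 1).choose 3 = k.choose 2 + k.choose 3 := Nat.choose_succ_succ' k 2
    rw [normP, ih, iter_e σ h1 h2 h3 (Commute.all u f) k, h4, h5]
    have := rearr (L := A) (w := 1) (e := z) (f := u) (z := f) (Commute.all _ _) (Commute.all _ _)
      (Commute.all _ _) k (k.choose 2) (k.choose 3) k (k.choose 2)
    simpa using this

theorem normP_pow_inv (σ : MulAut A) (g : A) (e k : ℕ) :
    normP σ (g ^ e)⁻¹ k = (normP σ g k ^ e)⁻¹ := by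
  induction k with
  | zero => simp [normP]
  | succ k ih =>
    rw [normP, normP, ih, map_inv, map_pow, mul_pow, mul_inv]

/-- The fixed points in the second case of the dichotomy. -/
theorem beta_fixed [Finite A] (hp2 : p ≠ 2) (σ : MulAut A) {m' : ℕ} {z u : A} {c₂ : ℕ}
    (hzo : orderOf z = p ^ (m' + 2)) (hc₂ : ¬ p ∣ c₂)
    (hup : u ^ p = 1) (hu : u ∉ zpowers z)
    (hgen : ∀ g : A, ∃ a b : ℕ, g = z ^ a * u ^ b)
    (h1 : σ z = z * u) (h2 : σ u = u * (z ^ p ^ (m' + 1)) ^ c₂)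
    (h3 : σ (z ^ p ^ (m' + 1)) = z ^ p ^ (m' + 1)) (hcase : p ≠ 3 ∨ 1 ≤ m')
    {X : A} (hX : σ X = X) :
    ∃ e : ℕ, X = (z ^ p * ((z ^ p ^ (m' + 1)) ^ c₂) ^ (p.choose 3)) ^ e := by
  have hpp := hp.out
  obtain ⟨z₀, hz₀def⟩ : ∃ z₀, z₀ = z ^ p ^ (m' + 1) := ⟨_, rfl⟩
  rw [← hz₀def] at h2 h3 ⊢
  have hz₀p : z₀ ^ p = 1 := by
    rw [hz₀def, ← pow_mul, ← pow_succ, ← hzo, pow_orderOf_eq_one]
  have hz₀1 : z₀ ≠ 1 := by
    rw [hz₀def]
    apply pow_ne_one_of_lt_orderOf (pow_ne_zero _ hpp.ne_zero)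
    rw [hzo]
    exact Nat.pow_lt_pow_right hpp.one_lt (by omega)
  have hz₀o : orderOf z₀ = p := orderOf_eq_prime hz₀p hz₀1
  obtain ⟨f, hf⟩ : ∃ f, f = z₀ ^ c₂ := ⟨_, rfl⟩
  rw [← hf] at h2 ⊢
  have hσf : σ f = f := by rw [hf, map_pow, h3]
  have hfp : f ^ p = 1 := by rw [hf, ← pow_mul, mul_comm, pow_mul, hz₀p, one_pow]
  -- `X = z ^ (p * a')`
  obtain ⟨a, b, rfl⟩ := hgen X
  have h4 : u ^ a * f ^ b = 1 := by
    rw [map_mul, map_pow, map_pow, h1, h2, mul_pow, mul_pow] at hX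
    have h5 : z ^ a * u ^ a * (u ^ b * f ^ b) = (z ^ a * u ^ b) * (u ^ a * f ^ b) := by
      simp only [mul_comm, mul_left_comm, mul_assoc]
    rw [h5] at hX
    exact mul_eq_left.mp hX
  have hfz : f ∈ zpowers z := by
    rw [hf, hz₀def]
    exact Subgroup.pow_mem _ (Subgroup.pow_mem _ (Subgroup.mem_zpowers z) _) _
  have hpa : p ∣ a := by
    by_contra hna
    apply hu
    apply mem_of_pow_mem hup hna
    rw [eq_inv_of_mul_eq_one_left h4]
    exact Subgroup.inv_mem _ (Subgroup.pow_mem _ hfz _)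
  obtain ⟨a', rfl⟩ := hpa
  rw [pow_mul u, hup, one_pow, one_mul] at h4
  have hpb : p ∣ b := by
    rw [hf, ← pow_mul] at h4
    have h5 : p ∣ c₂ * b := hz₀o ▸ orderOf_dvd_of_pow_eq_one h4
    exact (hpp.dvd_mul.mp h5).resolve_left hc₂
  obtain ⟨b', rfl⟩ := hpb
  rw [pow_mul u, hup, one_pow, mul_one]
  -- `ν` generates `⟨z ^ p⟩`
  obtain ⟨ν, hν⟩ : ∃ ν, ν = z ^ p * f ^ (p.choose 3) := ⟨_, rfl⟩
  rw [← hν]
  have hzp : z ^ p ^ (m' + 1) = (z ^ p) ^ p ^ m' := by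
    rw [pow_succ', pow_mul]
  have hνpow : ν ^ p ^ m' = z₀ := by
    rw [hν, mul_pow, ← hzp, ← hz₀def, ← pow_mul]
    have h5 : f ^ (p.choose 3 * p ^ m') = 1 := by
      rcases hcase with h | h
      · have hp5 : 3 < p := by
          have := hpp.two_le
          omega
        obtain ⟨t, ht⟩ := hpp.dvd_choose_self (k := 3) (by norm_num) hp5
        rw [ht, mul_assoc, pow_mul, hfp, one_pow]
      · obtain ⟨t, rfl⟩ : ∃ t, m' = t + 1 := ⟨m' - 1, by omega⟩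
        have h6 : p.choose 3 * p ^ (t + 1) = p * (p.choose 3 * p ^ t) := by ring
        rw [h6, pow_mul, hfp, one_pow]
    rw [h5, mul_one]
  have hνord : orderOf ν = p ^ (m' + 1) := by
    apply orderOf_eq_prime_pow
    · rw [hνpow]; exact hz₀1
    · rw [pow_succ, pow_mul, hνpow, hz₀p]
  have hzpord : orderOf (z ^ p) = p ^ (m' + 1) := by
    rw [orderOf_pow_of_dvd hpp.ne_zero (by rw [hzo]; exact dvd_pow_self p (Nat.succ_ne_zero _)), hzo,
      pow_succ]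
    exact Nat.mul_div_cancel _ hpp.pos
  have hle : zpowers ν ≤ zpowers (z ^ p) := by
    rw [Subgroup.zpowers_le, hν]
    apply Subgroup.mul_mem _ (Subgroup.mem_zpowers _)
    apply Subgroup.pow_mem
    rw [hf, hz₀def, hzp]
    exact Subgroup.pow_mem _ (Subgroup.pow_mem _ (Subgroup.mem_zpowers _) _) _
  have heq : zpowers ν = zpowers (z ^ p) := by
    apply Subgroup.eq_of_le_of_card_ge hle
    rw [Nat.card_zpowers, Nat.card_zpowers, hνord, hzpord]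
  have hmem : z ^ (p * a') ∈ zpowers ν := by
    rw [heq, pow_mul]
    exact Subgroup.pow_mem _ (Subgroup.mem_zpowers _) _
  obtain ⟨e, he⟩ := Cfsg.Agent.Lib.Metacyclic.Basic.exists_natPow_of_mem_zpowers hmem
  exact ⟨e, he⟩

end Abs

end Cfsg.Agent.Lib.PGroups.RankTwoCaseIAbs
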