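/-
`p` odd, `G` a `p`-group, `N` normal elementary abelian of order `p²`, `C = C_G(N)` of index `p` with a
cyclic subgroup of index `p`.
-/
import Cfsg.Agent.Lib.PGroups.RankTwoCaseIAbs
import Cfsg.Agent.Lib.TwoFusion.SecRank

set_option autoImplicit false

namespace Cfsg.Agent.Lib.PGroups.RankTwoCaseI

open Cfsg Subgroup
open Cfsg.Agent.Lib.Regular.Metacyclic Cfsg.Agent.Lib.PGroups.NormalRankTwo
  Cfsg.Agent.Lib.PGroups.Basic
  Cfsg.Agent.Lib.PGroups.RankTwoCore Cfsg.Agent.Lib.PGroups.RankTwoAut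
  Cfsg.Agent.Lib.PGroups.RankTwoMaxClass Cfsg.Agent.Lib.PGroups.RankTwoCentral
  Cfsg.Agent.Lib.PGroups.RankTwoCaseIAbs
open scoped commutatorElement

universe u

variable {p : ℕ} [hp : Fact p.Prime] {G : Type u} [Group G] [Finite G]

/-- Mod a central line of `N`, the group `N` is central. -/
theorem comm_mem_of_card (hG : IsPGroup p G) {N : Subgroup G} [hN : N.Normal] (hc : Nat.card N = p ^ 2)
    {z₀ : G} (hz₀ : z₀ ∈ N) (hz₀c : z₀ ∈ center G) (hz₀o : orderOf z₀ = p) {n : G} (hn : n ∈ N) (g : G) :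
    n⁻¹ * (g⁻¹ * n * g) ∈ zpowers z₀ := by
  have hpp := hp.out
  haveI hZn : (zpowers z₀).Normal := by
    constructor
    intro a ha b
    have hac : a ∈ center G := (Subgroup.zpowers_le.mpr hz₀c) ha
    rw [(Subgroup.mem_center_iff.mp hac) b, mul_inv_cancel_right]
    exact ha
  have hZN : zpowers z₀ ≤ N := Subgroup.zpowers_le.mpr hz₀
  haveI : (N.map (QuotientGroup.mk' (zpowers z₀))).Normal :=
    hN.map _ (QuotientGroup.mk'_surjective _)
  have hcard : Nat.card (N.map (QuotientGroup.mk' (zpowers z₀))) = p := by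
    let f : N →* N.map (QuotientGroup.mk' (zpowers z₀)) := (QuotientGroup.mk' (zpowers z₀)).subgroupMap N
    have hf : Function.Surjective f := (QuotientGroup.mk' (zpowers z₀)).subgroupMap_surjective N
    have h4 : Nat.card f.ker * f.ker.index = Nat.card N := Subgroup.card_mul_index _
    rw [Subgroup.index_ker, MonoidHom.range_eq_top.mpr hf] at h4
    have h5 : Nat.card f.ker = p := by
      rw [← hz₀o, ← Nat.card_zpowers]
      apply Nat.card_congr
      exact
        { toFun := fun a => ⟨a.1.1, by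
            have h6 := congrArg Subtype.val (MonoidHom.mem_ker.mp a.2)
            exact (QuotientGroup.eq_one_iff _).mp h6⟩
          invFun := fun a => ⟨⟨a.1, hZN a.2⟩, by
            rw [MonoidHom.mem_ker]
            apply Subtype.ext
            exact (QuotientGroup.eq_one_iff _).mpr a.2⟩
          left_inv := fun a => rfl
          right_inv := fun a => rfl }
    rw [h5, Subgroup.card_top, hc, pow_two] at h4
    exact Nat.eq_of_mul_eq_mul_left hpp.pos h4
  have h1 := le_center_of_card_eq (hG.to_quotient _) _ hcard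
  have h2 : (n : G ⧸ zpowers z₀) ∈ center (G ⧸ zpowers z₀) := h1 ⟨n, hn, rfl⟩
  rw [← QuotientGroup.eq_one_iff]
  have h3 := (Subgroup.mem_center_iff.mp h2) (g : G ⧸ zpowers z₀)
  simp only [QuotientGroup.mk_mul, QuotientGroup.mk_inv]
  rw [mul_assoc ((g : G ⧸ zpowers z₀))⁻¹, ← h3]
  group

/-- `N` is generated by a point and a line. -/
theorem eq_closure_pair (hG : IsPGroup p G) {N : Subgroup G} (hc : Nat.card N = p ^ 2)
    {y z₀ : G} (hyN : y ∈ N) (hz₀ : z₀ ∈ N) (hz₀o : orderOf z₀ = p) (hy : y ∉ zpowers z₀) :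
    N = closure ({y, z₀} : Set G) := by
  have hpp := hp.out
  symm
  apply Subgroup.eq_of_le_of_card_ge
  · rw [Subgroup.closure_le]
    rintro _ (rfl | rfl)
    · exact hyN
    · exact hz₀
  · have hle : zpowers z₀ ≤ closure ({y, z₀} : Set G) :=
      Subgroup.zpowers_le.mpr (Subgroup.subset_closure (by simp))
    have hne : zpowers z₀ ≠ closure ({y, z₀} : Set G) := by
      intro h
      apply hy
      rw [h]
      exact Subgroup.subset_closure (by simp)
    have h1 := p_le_relIndex hG hle hne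
    have h2 := Cfsg.Agent.Lib.PGroups.MaxAbelian.relIndex_mul_card hle
    rw [Nat.card_zpowers, hz₀o] at h2
    rw [hc, ← h2, pow_two]
    exact Nat.mul_le_mul_right _ h1

theorem mem_centralizer_of_commute_pair (hG : IsPGroup p G) {N : Subgroup G} (hc : Nat.card N = p ^ 2)
    {y z₀ x : G} (hyN : y ∈ N) (hz₀ : z₀ ∈ N) (hz₀o : orderOf z₀ = p) (hy : y ∉ zpowers z₀)
    (h1 : x * y = y * x) (h2 : x * z₀ = z₀ * x) : x ∈ centralizer (N : Set G) := by
  rw [Subgroup.mem_centralizer_iff]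
  have h3 : N ≤ centralizer ({x} : Set G) := by
    rw [eq_closure_pair hG hc hyN hz₀ hz₀o hy, Subgroup.closure_le]
    rintro _ (rfl | rfl)
    · exact Subgroup.mem_centralizer_singleton_iff.mpr h1.symm
    · exact Subgroup.mem_centralizer_singleton_iff.mpr h2.symm
  intro n hn
  exact Subgroup.mem_centralizer_singleton_iff.mp (h3 hn)

/-- `|G : C_G(N)| ≤ p`. -/
theorem index_centralizer_le (hG : IsPGroup p G) {N : Subgroup G} [hN : N.Normal]
    (hc : Nat.card N = p ^ 2) (hexp : ∀ a ∈ N, a ^ p = 1) :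
    (centralizer (N : Set G)).index ≤ p := by
  have hpp := hp.out
  have hne : N ≠ ⊥ := by
    intro h
    rw [h] at hc
    simp at hc
    have h3 : 1 < p ^ 2 := Nat.one_lt_pow two_ne_zero hpp.one_lt
    omega
  obtain ⟨z₀, hz₀, hz₀c, hz₀o⟩ := exists_central_orderOf_eq hG N hne
  -- a point outside the line
  have hex : ∃ y ∈ N, y ∉ zpowers z₀ := by
    by_contra h
    push_neg at h
    have h1 := Subgroup.card_le_of_le (show N ≤ zpowers z₀ from h)
    rw [hc, Nat.card_zpowers, hz₀o, pow_two] at h1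
    have := hpp.one_lt
    nlinarith
  obtain ⟨y, hyN, hy⟩ := hex
  let f : G → zpowers z₀ := fun g => ⟨y⁻¹ * (g * y * g⁻¹), by
    have := comm_mem_of_card hG hc hz₀ hz₀c hz₀o hyN g⁻¹
    simpa using this⟩
  have h1 := Cfsg.Agent.Lib.TwoFusion.SecRank.relIndex_le_of_fun (centralizer (N : Set G)) ⊤ f (by
    intro r _ r' _ hrr
    have h2 : y⁻¹ * (r * y * r⁻¹) = y⁻¹ * (r' * y * r'⁻¹) := congrArg Subtype.val hrr
    have h3 := mul_left_cancel h2
    apply mem_centralizer_of_commute_pair hG hc hyN hz₀ hz₀o hy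
    · have h4 : r⁻¹ * r' * y = r⁻¹ * (r' * y * r'⁻¹) * r' := by group
      rw [h4, ← h3]
      group
    · exact (Subgroup.mem_center_iff.mp hz₀c) _)
  rwa [Subgroup.relIndex_top_right, Nat.card_zpowers, hz₀o] at h1

/-- `N` lies in its centralizer. -/
theorem le_centralizer_self {N : Subgroup G} (hc : Nat.card N = p ^ 2) :
    N ≤ centralizer (N : Set G) := by
  have hcomm : IsMulCommutative N := IsPGroup.isMulCommutative_of_card_eq_prime_sq hc
  intro n hn
  rw [Subgroup.mem_centralizer_iff]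
  intro m hm
  exact congrArg Subtype.val (hcomm.is_comm.comm (⟨m, hm⟩ : N) ⟨n, hn⟩)

section Setup

variable {N : Subgroup G}

/-- The basic structure of `C` in Case I. -/
theorem setup (hG : IsPGroup p G) (hc : Nat.card N = p ^ 2) (hexp : ∀ a ∈ N, a ^ p = 1) {m : ℕ}
    (hcardC : Nat.card (centralizer (N : Set G)) = p ^ (m + 2)) (z : centralizer (N : Set G))
    (hz : (zpowers z).index = p) :
    ∃ y : centralizer (N : Set G), y.1 ∈ N ∧ y ∉ zpowers z ∧ orderOf z = p ^ (m + 1) ∧
      (∀ a b : centralizer (N : Set G), a * b = b * a) ∧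
      ∀ g : centralizer (N : Set G), ∃ a b : ℕ, g = z ^ a * y ^ b := by
  have hpp := hp.out
  have hNC := le_centralizer_self (p := p) hc
  have hGC : IsPGroup p (centralizer (N : Set G)) := hG.to_subgroup _
  -- the order of `z`
  have hoz : orderOf z = p ^ (m + 1) := by
    have h1 := Subgroup.card_mul_index (zpowers z)
    rw [Nat.card_zpowers, hz, hcardC, pow_succ p (m + 1)] at h1
    exact Nat.eq_of_mul_eq_mul_right hpp.pos h1
  -- a point of `N` outside `⟨z⟩`
  have hex : ∃ y : centralizer (N : Set G), y.1 ∈ N ∧ y ∉ zpowers z := by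
    by_contra hcon
    push_neg at hcon
    have hcyc : IsCyclic N := by
      let j : N →* zpowers z :=
        { toFun := fun n => ⟨⟨n.1, hNC n.2⟩, hcon ⟨n.1, hNC n.2⟩ n.2⟩
          map_one' := rfl
          map_mul' := fun _ _ => rfl }
      apply isCyclic_of_injective j
      intro a b hab
      have h1 := congrArg (fun w : zpowers z => (w : centralizer (N : Set G))) hab
      have h2 := congrArg (fun w : centralizer (N : Set G) => (w : G)) h1
      exact Subtype.ext h2
    have h1 := Cfsg.Agent.Lib.PGroups.RankTwoStruct.card_le_of_isCyclic (p := p) (H := N)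
      (fun x => Subtype.ext (hexp x.1 x.2))
    rw [hc, pow_two] at h1
    have := hpp.one_lt
    nlinarith
  obtain ⟨y, hyN, hy⟩ := hex
  have hco : IsCoatom (zpowers z) := isCoatom_of_index_prime (hz ▸ hpp)
  have hzn : (zpowers z).Normal := normal_of_isCoatom hGC hco
  have hgen := gen_of_not_mem hz hy hzn
  refine ⟨y, hyN, hy, hoz, ?_, hgen⟩
  have hyc : ∀ g : centralizer (N : Set G), Commute y g := by
    intro g
    apply Subtype.ext
    exact (Subgroup.mem_centralizer_iff.mp g.2) y.1 hyN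
  intro a b
  obtain ⟨i, j, rfl⟩ := hgen a
  obtain ⟨k, l, rfl⟩ := hgen b
  have h1 : Commute (z ^ i * y ^ j) (z ^ k * y ^ l) := by
    apply Commute.mul_left
    · apply Commute.mul_right ((Commute.refl z).pow_pow i k)
      exact ((hyc (z ^ i)).pow_left l).symm
    · apply Commute.mul_right
      · exact (hyc (z ^ k)).pow_left j
      · exact (Commute.refl y).pow_pow j l
  exact h1

variable [hCn : (centralizer (N : Set G)).Normal]

/-- The line `⟨z ^ p ^ m⟩` is central in `G`. -/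
theorem central_line (hG : IsPGroup p G) {m : ℕ} (hm : 1 ≤ m) {z y : centralizer (N : Set G)}
    (hoz : orderOf z = p ^ (m + 1)) (hyp : y ^ p = 1)
    (hcomm : ∀ a b : centralizer (N : Set G), a * b = b * a)
    (hgen : ∀ g : centralizer (N : Set G), ∃ a b : ℕ, g = z ^ a * y ^ b) :
    ((z ^ p ^ m : centralizer (N : Set G)) : G) ∈ center G := by
  have hpp := hp.out
  have hyM : y ^ p ^ m = 1 := by
    obtain ⟨t, rfl⟩ : ∃ t, m = t + 1 := ⟨m - 1, by omega⟩
    rw [pow_succ, mul_comm, pow_mul, hyp, one_pow]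
  obtain ⟨w, hw⟩ : ∃ w, w = ((z ^ p ^ m : centralizer (N : Set G)) : G) := ⟨_, rfl⟩
  rw [← hw]
  have hw1 : w ≠ 1 := by
    rw [hw]
    intro h
    have h1 : z ^ p ^ m = 1 := Subtype.ext h
    have h2 := orderOf_dvd_of_pow_eq_one h1
    rw [hoz] at h2
    have h3 := (Nat.pow_dvd_pow_iff_le_right hpp.one_lt).mp h2
    omega
  have hwp : w ^ p = 1 := by
    rw [hw]
    have h1 : (z ^ p ^ m) ^ p = 1 := by
      rw [← pow_mul, ← pow_succ, ← hoz, pow_orderOf_eq_one]
    have h2 := congrArg (fun u : centralizer (N : Set G) => (u : G)) h1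
    simpa using h2
  have hwo : orderOf w = p := orderOf_eq_prime hwp hw1
  haveI hZn : (zpowers w).Normal := by
    constructor
    intro a ha g
    obtain ⟨k, rfl⟩ := Subgroup.mem_zpowers_iff.mp ha
    have h1 : g * w ^ k * g⁻¹ = (g * w * g⁻¹) ^ k := by rw [conj_zpow]
    rw [h1]
    apply Subgroup.zpow_mem
    obtain ⟨a, b, hab⟩ := hgen ⟨g * z.1 * g⁻¹, hCn.conj_mem z.1 z.2 g⟩
    have h2 : g * w * g⁻¹ = (g * z.1 * g⁻¹) ^ p ^ m := by
      rw [hw, conj_pow]
      simp
    have h3 : g * z.1 * g⁻¹ = (z ^ a * y ^ b : centralizer (N : Set G)) :=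
      congrArg Subtype.val hab
    rw [h2, h3]
    have h4 : (z ^ a * y ^ b) ^ p ^ m = (z ^ p ^ m) ^ a := by
      have h5 : Commute (z ^ a) (y ^ b) := hcomm _ _
      rw [h5.mul_pow, ← pow_mul, ← pow_mul, mul_comm b, pow_mul y, hyM, one_pow, mul_one, mul_comm a]
      rw [pow_mul]
    have h7 : (((z ^ a * y ^ b : centralizer (N : Set G)) : G)) ^ p ^ m = w ^ a := by
      rw [← Subgroup.coe_pow, h4, Subgroup.coe_pow, ← hw]
    rw [h7]
    exact Subgroup.pow_mem _ (Subgroup.mem_zpowers w) a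
  have hcard : Nat.card (zpowers w) = p := by rw [Nat.card_zpowers, hwo]
  exact le_center_of_card_eq hG _ hcard (Subgroup.mem_zpowers w)

/-- Conjugation by `x⁻¹` on `C`. -/
noncomputable def sig (x : G) : MulAut (centralizer (N : Set G)) := MulAut.conjNormal x⁻¹

theorem sig_val (x : G) (a : centralizer (N : Set G)) : ((sig x a : centralizer (N : Set G)) : G) = x⁻¹ * a.1 * x := by
  simp [sig, MulAut.conjNormal_apply]

theorem sig_pow_val (x : G) (j : ℕ) (a : centralizer (N : Set G)) :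
    ((((sig x) ^ j) a : centralizer (N : Set G)) : G) = (x ^ j)⁻¹ * a.1 * x ^ j := by
  have h1 : (sig (N := N) x) ^ j = MulAut.conjNormal ((x ^ j)⁻¹) := by
    rw [sig, ← map_pow, inv_pow]
  rw [h1, MulAut.conjNormal_apply, inv_inv]

theorem sig_pow_eq {x : G} (hcomm : ∀ a b : centralizer (N : Set G), a * b = b * a)
    (hx : x ^ p ∈ centralizer (N : Set G)) (g : centralizer (N : Set G)) :
    ((sig x) ^ p) g = g := by
  apply Subtype.ext
  rw [sig_pow_val]
  have h1 := congrArg Subtype.val (hcomm g ⟨x ^ p, hx⟩)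
  have h2 : g.1 * x ^ p = x ^ p * g.1 := h1
  rw [mul_assoc, h2]
  group

/-- Generators. -/
theorem centralizer_le_of_gen {z y : centralizer (N : Set G)}
    (hgen : ∀ g : centralizer (N : Set G), ∃ a b : ℕ, g = z ^ a * y ^ b) {T : Subgroup G} (hz : z.1 ∈ T)
    (hy : y.1 ∈ T) : centralizer (N : Set G) ≤ T := by
  intro g hg
  obtain ⟨a, b, hab⟩ := hgen ⟨g, hg⟩
  have h1 : g = z.1 ^ a * y.1 ^ b := by
    have := congrArg Subtype.val hab
    simpa using this
  rw [h1]
  exact T.mul_mem (T.pow_mem hz a) (T.pow_mem hy b)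

theorem top_of_gen (hco : IsCoatom (centralizer (N : Set G))) {T : Subgroup G} {x : G}
    (hx : x ∉ centralizer (N : Set G)) (hxT : x ∈ T) (hCT : centralizer (N : Set G) ≤ T) : T = ⊤ :=
  hco.2 T (lt_of_le_of_ne hCT (fun h => hx (h ▸ hxT)))

/-- The action on the central line and on `y`. -/
theorem prep (hG : IsPGroup p G) (hc : Nat.card N = p ^ 2) (hexp : ∀ a ∈ N, a ^ p = 1)
    (hΩ : ∀ g ∈ centralizer (N : Set G), g ^ p = 1 → g ∈ N) {m : ℕ} (hm : 1 ≤ m)
    {z y : centralizer (N : Set G)} (hyN : y.1 ∈ N) (hy : y ∉ zpowers z) (hoz : orderOf z = p ^ (m + 1))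
    (hcomm : ∀ a b : centralizer (N : Set G), a * b = b * a)
    (hgen : ∀ g : centralizer (N : Set G), ∃ a b : ℕ, g = z ^ a * y ^ b)
    {x : G} (hx : x ∉ centralizer (N : Set G)) [hN : N.Normal] :
    sig x (z ^ p ^ m) = z ^ p ^ m ∧ ∃ c : ℕ, ¬ p ∣ c ∧ sig x y = y * (z ^ p ^ m) ^ c := by
  have hpp := hp.out
  have hyp : y ^ p = 1 := Subtype.ext (hexp _ hyN)
  have hcen := central_line hG hm hoz hyp hcomm hgen
  obtain ⟨w, hw⟩ : ∃ w, w = ((z ^ p ^ m : centralizer (N : Set G)) : G) := ⟨_, rfl⟩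
  rw [← hw] at hcen
  have hz₀ : sig x (z ^ p ^ m) = z ^ p ^ m := by
    apply Subtype.ext
    rw [sig_val, ← hw, (Subgroup.mem_center_iff.mp hcen) x⁻¹]
    group
  refine ⟨hz₀, ?_⟩
  have hw1 : w ≠ 1 := by
    rw [hw]
    intro h
    have h1 : z ^ p ^ m = 1 := Subtype.ext h
    have h2 := orderOf_dvd_of_pow_eq_one h1
    rw [hoz] at h2
    have h3 := (Nat.pow_dvd_pow_iff_le_right hpp.one_lt).mp h2
    omega
  have hwp : w ^ p = 1 := by
    rw [hw]
    have h1 : (z ^ p ^ m) ^ p = 1 := by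
      rw [← pow_mul, ← pow_succ, ← hoz, pow_orderOf_eq_one]
    have h2 := congrArg (fun u : centralizer (N : Set G) => (u : G)) h1
    simpa using h2
  have hwo : orderOf w = p := orderOf_eq_prime hwp hw1
  have hwN : w ∈ N := by
    apply hΩ _ _ hwp
    rw [hw]
    exact (z ^ p ^ m).2
  have hyw : y.1 ∉ zpowers w := by
    intro h
    obtain ⟨k, hk⟩ := Cfsg.Agent.Lib.Metacyclic.Basic.exists_natPow_of_mem_zpowers h
    apply hy
    have h2 : y = (z ^ p ^ m) ^ k := by
      apply Subtype.ext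
      rw [hk, hw]
      simp
    rw [h2]
    exact Subgroup.pow_mem _ (Subgroup.pow_mem _ (Subgroup.mem_zpowers z) _) _
  have h1 := comm_mem_of_card hG hc hwN hcen hwo hyN x
  obtain ⟨c, hc'⟩ := Cfsg.Agent.Lib.Metacyclic.Basic.exists_natPow_of_mem_zpowers h1
  refine ⟨c, ?_, ?_⟩
  · rintro ⟨t, rfl⟩
    rw [pow_mul, hwp, one_pow] at hc'
    apply hx
    apply mem_centralizer_of_commute_pair hG hc hyN hwN hwo hyw
    · have h2 : x⁻¹ * y.1 * x = y.1 := by
        rwa [inv_mul_eq_one, eq_comm] at hc'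
      calc x * y.1 = x * (x⁻¹ * y.1 * x) := by rw [h2]
        _ = y.1 * x := by group
    · exact (Subgroup.mem_center_iff.mp hcen) x
  · apply Subtype.ext
    rw [sig_val]
    have h2 : x⁻¹ * y.1 * x = y.1 * w ^ c := by
      rw [← hc']
      group
    rw [h2, hw]
    simp

theorem pow_mul_norm (hcomm : ∀ a b : centralizer (N : Set G), a * b = b * a) (x : G)
    (g : centralizer (N : Set G)) (k : ℕ) :
    (x * g.1) ^ k = x ^ k * (normP (sig x) g k).1 := by
  induction k with
  | zero => simp [normP]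
  | succ k ih =>
    rw [pow_succ', ih, normP, hcomm, Subgroup.coe_mul, sig_pow_val]
    group

/-- Case I, `n ≥ 4`, an element of order `p` outside `C`. -/
theorem caseI_pos_root (hp2 : p ≠ 2) (hG : IsPGroup p G) [hN : N.Normal] (hc : Nat.card N = p ^ 2)
    (hexp : ∀ a ∈ N, a ^ p = 1) (hΩ : ∀ g ∈ centralizer (N : Set G), g ^ p = 1 → g ∈ N)
    (hco : IsCoatom (centralizer (N : Set G))) {m : ℕ} (hm : 1 ≤ m)
    (hcardC : Nat.card (centralizer (N : Set G)) = p ^ (m + 2)) (z : centralizer (N : Set G))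
    (hz : (zpowers z).index = p) {x : G} (hx : x ∉ centralizer (N : Set G)) (hxp : x ^ p = 1) :
    (∃ x y z : G, closure ({x, y, z} : Set G) = ⊤ ∧ x ^ p = 1 ∧ y ^ p = 1 ∧ z ^ p ^ (m + 1) = 1 ∧
      x * z = z * x ∧ y * z = z * y ∧ x⁻¹ * y * x = y * z ^ p ^ m) ∨
    (∃ (s : ℕ) (x y z : G), (s = 1 ∨ ¬ IsSquare (s : ZMod p)) ∧ closure ({x, y, z} : Set G) = ⊤ ∧
      x ^ p = 1 ∧ y ^ p = 1 ∧ z ^ p ^ (m + 1) = 1 ∧ y * z = z * y ∧ x⁻¹ * y * x = y * z ^ (s * p ^ m) ∧
      x⁻¹ * z * x = y * z) := by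
  have hpp := hp.out
  obtain ⟨y, hyN, hy, hoz, hcomm, hgen⟩ := setup hG hc hexp hcardC z hz
  have hyp : y ^ p = 1 := Subtype.ext (hexp _ hyN)
  obtain ⟨hz₀, c, hc', hδ⟩ := prep hG hc hexp hΩ hm hyN hy hoz hcomm hgen hx
  have hxC : x ^ p ∈ centralizer (N : Set G) := by rw [hxp]; exact Subgroup.one_mem _
  have hσ := sig_pow_eq hcomm hxC
  have hzco : IsCoatom (zpowers z) := isCoatom_of_index_prime (hz ▸ hpp)
  have hzn : (zpowers z).Normal := normal_of_isCoatom (hG.to_subgroup _) hzco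
  letI instC : CommGroup (centralizer (N : Set G)) :=
    { (inferInstance : Group (centralizer (N : Set G))) with mul_comm := hcomm }
  rcases dichotomy hp2 (sig x) hσ hm hoz hgen hyp hy hz₀ hc' hδ with ⟨d, hd⟩ | ⟨u, c₂, hc₂, hσz, hup, hu, hσu⟩
  · left
    obtain ⟨y₁, z₁, e₁, e₂, h1, h2, h3, h4, h5, h6, h7⟩ := alpha_data (sig x) hm hoz hyp hz₀ hc' hδ hd
    refine ⟨x, y₁.1, z₁.1, ?_, hxp, ?_, ?_, ?_, ?_, ?_⟩
    · apply top_of_gen hco hx (Subgroup.subset_closure (by simp))
      apply centralizer_le_of_gen hgen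
      · rw [h6]
        have hy₁ : y₁.1 ∈ closure ({x, y₁.1, z₁.1} : Set G) := Subgroup.subset_closure (by simp)
        have hz₁ : z₁.1 ∈ closure ({x, y₁.1, z₁.1} : Set G) := Subgroup.subset_closure (by simp)
        exact Subgroup.mul_mem _ hz₁ (by simpa using Subgroup.pow_mem _ hy₁ e₁)
      · rw [h7]
        have hy₁ : y₁.1 ∈ closure ({x, y₁.1, z₁.1} : Set G) := Subgroup.subset_closure (by simp)
        simpa using Subgroup.pow_mem _ hy₁ e₂
    · simpa using congrArg Subtype.val h1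
    · simpa using congrArg Subtype.val h2
    · have h8 := congrArg Subtype.val h3
      rw [sig_val] at h8
      calc x * z₁.1 = x * (x⁻¹ * z₁.1 * x) := by rw [h8]
        _ = z₁.1 * x := by group
    · exact congrArg Subtype.val (hcomm y₁ z₁)
    · have h8 := congrArg Subtype.val h4
      rw [sig_val] at h8
      simpa using h8
  · right
    obtain ⟨j, s, hj, hs, hjs⟩ := exists_j_s hc₂
    have hz₀p : (z ^ p ^ m) ^ p = 1 := by
      rw [← pow_mul, ← pow_succ, ← hoz, pow_orderOf_eq_one]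
    obtain ⟨f, hf⟩ : ∃ f, f = (z ^ p ^ m) ^ c₂ := ⟨_, rfl⟩
    rw [← hf] at hσu
    have hfp : f ^ p = 1 := by rw [hf, ← pow_mul, mul_comm, pow_mul, hz₀p, one_pow]
    have hσf : sig x f = f := by rw [hf, map_pow, hz₀]
    obtain ⟨hit1, hit2⟩ := beta_iter (A := centralizer (N : Set G)) (sig x) hσz hσu hσf j
    obtain ⟨y', hy'⟩ : ∃ y', y' = u ^ j * f ^ (j.choose 2) := ⟨_, rfl⟩
    rw [← hy'] at hit1 hit2
    have hfjj : f ^ (j * j) = (z ^ p ^ m) ^ s := by
      rw [hf, ← pow_mul, pow_eq_pow_mod _ hz₀p, pow_eq_pow_mod s hz₀p]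
      congr 1
      exact (ZMod.natCast_eq_natCast_iff' _ _ _).mp hjs
    rw [hfjj] at hit2
    refine ⟨s, x ^ j, y'.1, z.1, hs, ?_, ?_, ?_, ?_, ?_, ?_, ?_⟩
    · obtain ⟨T, hT⟩ : ∃ T, T = closure ({x ^ j, y'.1, z.1} : Set G) := ⟨_, rfl⟩
      rw [← hT]
      have hxj : x ^ j ∈ T := hT ▸ Subgroup.subset_closure (by simp)
      have hy'T : y'.1 ∈ T := hT ▸ Subgroup.subset_closure (by simp)
      have hzT : z.1 ∈ T := hT ▸ Subgroup.subset_closure (by simp)
      have hxT : x ∈ T := mem_of_pow_mem hxp hj hxj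
      have hz₀T : (z ^ p ^ m).1 ∈ T := by
        simpa using T.pow_mem hzT (p ^ m)
      have hfT : f.1 ∈ T := by
        rw [hf]
        simpa using T.pow_mem hz₀T c₂
      have huj : (u ^ j).1 ∈ T := by
        have h1 : u ^ j = y' * (f ^ (j.choose 2))⁻¹ := by
          rw [hy']; group
        rw [h1]
        have h2 := T.mul_mem hy'T (T.inv_mem (T.pow_mem hfT (j.choose 2)))
        simpa using h2
      have huT : u.1 ∈ T := by
        have hup' : u.1 ^ p = 1 := by simpa using congrArg Subtype.val hup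
        apply mem_of_pow_mem hup' hj
        simpa using huj
      apply top_of_gen hco hx hxT
      exact centralizer_le_of_gen (gen_of_not_mem hz hu hzn) hzT huT
    · rw [← pow_mul, mul_comm, pow_mul, hxp, one_pow]
    · have h1 : y' ^ p = 1 := by
        rw [hy', mul_pow, ← pow_mul, mul_comm j, pow_mul, hup, one_pow, one_mul, ← pow_mul,
          mul_comm (j.choose 2), pow_mul, hfp, one_pow]
      simpa using congrArg Subtype.val h1
    · have h1 : z ^ p ^ (m + 1) = 1 := by rw [← hoz, pow_orderOf_eq_one]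
      simpa using congrArg Subtype.val h1
    · exact congrArg Subtype.val (hcomm y' z)
    · have h1 := congrArg Subtype.val hit2
      rw [sig_pow_val] at h1
      rw [h1, mul_comm s, pow_mul]
      simp
    · have h1 := congrArg Subtype.val hit1
      rw [sig_pow_val] at h1
      rw [h1]
      exact congrArg Subtype.val (hcomm z y')

/-- Case I, `n ≥ 4`, no element of order `p` outside `C`. -/
theorem caseI_pos_noroot (hp2 : p ≠ 2) (hG : IsPGroup p G) [hN : N.Normal] (hc : Nat.card N = p ^ 2)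
    (hexp : ∀ a ∈ N, a ^ p = 1) (hΩ : ∀ g ∈ centralizer (N : Set G), g ^ p = 1 → g ∈ N)
    (hco : IsCoatom (centralizer (N : Set G))) {m : ℕ} (hm : 1 ≤ m)
    (hcardG : Nat.card G = p ^ (m + 3))
    (hcardC : Nat.card (centralizer (N : Set G)) = p ^ (m + 2)) (z : centralizer (N : Set G))
    (hz : (zpowers z).index = p) {x : G} (hx : x ∉ centralizer (N : Set G))
    (hno : ∀ t : G, t ∉ centralizer (N : Set G) → t ^ p ≠ 1) :
    IsMetacyclic G ∨ (p = 3 ∧ m = 1 ∧ (⊤ : Subgroup G).lowerCentralSeries 2 ≠ ⊥) := by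
  have hpp := hp.out
  obtain ⟨y, hyN, hy, hoz, hcomm, hgen⟩ := setup hG hc hexp hcardC z hz
  have hyp : y ^ p = 1 := Subtype.ext (hexp _ hyN)
  obtain ⟨hz₀, c, hc', hδ⟩ := prep hG hc hexp hΩ hm hyN hy hoz hcomm hgen hx
  have hCidx := index_eq_of_isCoatom hG hco
  have hxC : x ^ p ∈ centralizer (N : Set G) := by
    have := Subgroup.pow_index_mem (centralizer (N : Set G)) x
    rwa [hCidx] at this
  have hσ := sig_pow_eq hcomm hxC
  have hzco : IsCoatom (zpowers z) := isCoatom_of_index_prime (hz ▸ hpp)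
  have hzn : (zpowers z).Normal := normal_of_isCoatom (hG.to_subgroup _) hzco
  obtain ⟨X, hXdef⟩ : ∃ X : centralizer (N : Set G), X = ⟨x ^ p, hxC⟩ := ⟨_, rfl⟩
  have hX1 : X.1 = x ^ p := by rw [hXdef]
  have hXf : sig x X = X := by
    apply Subtype.ext
    rw [sig_val, hX1]
    have h1 : x⁻¹ * x ^ p = x ^ p * x⁻¹ := ((Commute.refl x).pow_right p).inv_left.eq
    rw [h1]
    group
  have hz₀p : (z ^ p ^ m) ^ p = 1 := by
    rw [← pow_mul, ← pow_succ, ← hoz, pow_orderOf_eq_one]
  have hz₀1 : z ^ p ^ m ≠ 1 := by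
    apply pow_ne_one_of_lt_orderOf (pow_ne_zero _ hpp.ne_zero)
    rw [hoz]
    exact Nat.pow_lt_pow_right hpp.one_lt (by omega)
  letI instC : CommGroup (centralizer (N : Set G)) :=
    { (inferInstance : Group (centralizer (N : Set G))) with mul_comm := hcomm }
  rcases dichotomy hp2 (sig x) hσ hm hoz hgen hyp hy hz₀ hc' hδ with ⟨d, hd⟩ | ⟨u, c₂, hc₂, hσz, hup, hu, hσu⟩
  · left
    obtain ⟨y₁, z₁, e₁, e₂, h1, h2, h3, h4, h5, h6, h7⟩ := alpha_data (sig x) hm hoz hyp hz₀ hc' hδ hd
    rw [h5] at h4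
    -- `X` is a power of `z₁`
    obtain ⟨i, j, hij⟩ := hgen X
    have hgen₁ : X = z₁ ^ i * y₁ ^ (e₁ * i + e₂ * j) := by
      conv_lhs => rw [hij, h6, h7]
      rw [mul_pow, ← pow_mul, ← pow_mul, pow_add, mul_assoc]
    have hfix := alpha_fixed (sig x) hz₀1 hz₀p h1 h3 h4 (a := i) (b := e₁ * i + e₂ * j)
      (by rw [← hgen₁]; exact hXf)
    rw [← hgen₁] at hfix
    have hz₁c : ∀ a : ℕ, x * (z₁ ^ a).1 = (z₁ ^ a).1 * x := by
      intro a
      have h8 := congrArg Subtype.val (show sig x (z₁ ^ a) = z₁ ^ a by rw [map_pow, h3])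
      rw [sig_val] at h8
      calc x * (z₁ ^ a).1 = x * (x⁻¹ * (z₁ ^ a).1 * x) := by rw [h8]
        _ = (z₁ ^ a).1 * x := by group
    have hxpz : x ^ p = (z₁ ^ i).1 := by
      rw [← hX1, hfix]
    by_cases hpi : p ∣ i
    · exfalso
      obtain ⟨a, rfl⟩ := hpi
      apply hno (x * ((z₁ ^ a).1)⁻¹)
      · intro h
        apply hx
        have h9 : x = x * ((z₁ ^ a).1)⁻¹ * (z₁ ^ a).1 := by group
        rw [h9]
        exact Subgroup.mul_mem _ h (z₁ ^ a).2
      · have h10 : Commute x ((z₁ ^ a).1)⁻¹ := (show Commute x (z₁ ^ a).1 from hz₁c a).inv_right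
        have h12 : ((z₁ ^ a).1) ^ p = (z₁ ^ (p * a)).1 := by
          rw [mul_comm p a, pow_mul]
          simp
        rw [h10.mul_pow, hxpz, inv_pow, h12, mul_inv_cancel]
    · -- `⟨x⟩` has index `p`
      have hz₁M : ((z₁ ^ i) ^ p ^ m) ≠ 1 := by
        rw [← pow_mul, mul_comm, pow_mul, h5]
        intro h
        have h11 : orderOf (z ^ p ^ m) = p := orderOf_eq_prime hz₀p hz₀1
        exact hpi (h11 ▸ orderOf_dvd_of_pow_eq_one h)
      have hz₁M' : ((z₁ ^ i) ^ p ^ (m + 1)) = 1 := by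
        rw [← pow_mul, mul_comm, pow_mul, h2, one_pow]
      have hord : orderOf x = p ^ (m + 1 + 1) := by
        apply orderOf_eq_prime_pow
        · rw [pow_succ', pow_mul, hxpz]
          intro h
          apply hz₁M
          apply Subtype.ext
          simpa using h
        · rw [pow_succ', pow_mul, hxpz]
          have := congrArg Subtype.val hz₁M'
          simpa using this
      apply isMetacyclic_of_cyclic_index hG (M := zpowers x)
      · have h1 := Subgroup.card_mul_index (zpowers x)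
        rw [Nat.card_zpowers, hord, hcardG, show m + 3 = m + 1 + 1 + 1 by ring, pow_succ p (m + 1 + 1)] at h1
        exact Nat.eq_of_mul_eq_mul_left (pow_pos hpp.pos _) h1
      · infer_instance
  · obtain ⟨f, hf⟩ : ∃ f, f = (z ^ p ^ m) ^ c₂ := ⟨_, rfl⟩
    have hσu0 := hσu
    rw [← hf] at hσu
    have hf1 : f ≠ 1 := by
      rw [hf]
      intro h
      have h11 : orderOf (z ^ p ^ m) = p := orderOf_eq_prime hz₀p hz₀1
      exact hc₂ (h11 ▸ orderOf_dvd_of_pow_eq_one h)
    by_cases hcase : p ≠ 3 ∨ 2 ≤ m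
    · exfalso
      obtain ⟨m', rfl⟩ : ∃ m', m = m' + 1 := ⟨m - 1, by omega⟩
      have hcase' : p ≠ 3 ∨ 1 ≤ m' := by
        rcases hcase with h | h
        · exact Or.inl h
        · exact Or.inr (by omega)
      have hgen₂ := gen_of_not_mem hz hu hzn
      obtain ⟨e, he⟩ := beta_fixed hp2 (sig x) hoz hc₂ hup hu hgen₂ hσz hσu0 hz₀ hcase' hXf
      rw [← hf] at he
      have hσf : sig x f = f := by rw [hf, map_pow, hz₀]
      have hn := norm_z (A := centralizer (N : Set G)) (sig x) hσz hσu hσf p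
      have hu1 : u ^ p.choose 2 = 1 := by
        obtain ⟨t, ht⟩ := Cfsg.Agent.Lib.PGroups.ClassTwo.prime_dvd_choose_two hpp hp2
        rw [ht, pow_mul, hup, one_pow]
      rw [hu1, mul_one] at hn
      apply hno (x * ((z ^ e)⁻¹).1)
      · intro h
        apply hx
        have h9 : x = x * ((z ^ e)⁻¹).1 * (((z ^ e)⁻¹).1)⁻¹ := by group
        rw [h9]
        exact Subgroup.mul_mem _ h (Subgroup.inv_mem _ ((z ^ e)⁻¹).2)
      · rw [pow_mul_norm hcomm, normP_pow_inv, hn, ← he, ← hX1]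
        simp
    · right
      have hp3 : p = 3 := by
        by_contra h
        exact hcase (Or.inl h)
      have hm1 : m = 1 := by
        by_contra h
        exact hcase (Or.inr (by omega))
      refine ⟨hp3, hm1, ?_⟩
      intro hbot
      apply hf1
      have hfv : f.1 = ⁅(u⁻¹).1, x⁻¹⁆ := by
        have h1 : x⁻¹ * u.1 * x = u.1 * f.1 := by
          have := congrArg Subtype.val hσu
          rw [sig_val] at this
          simpa using this
        rw [commutatorElement_def]
        simp only [Subgroup.coe_inv, inv_inv]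
        calc f.1 = u.1⁻¹ * (u.1 * f.1) := by group
          _ = u.1⁻¹ * (x⁻¹ * u.1 * x) := by rw [h1]
          _ = _ := by group
      have huv : u.1 = ⁅(z⁻¹).1, x⁻¹⁆ := by
        have h1 : x⁻¹ * z.1 * x = z.1 * u.1 := by
          have := congrArg Subtype.val hσz
          rw [sig_val] at this
          simpa using this
        rw [commutatorElement_def]
        simp only [Subgroup.coe_inv, inv_inv]
        calc u.1 = z.1⁻¹ * (z.1 * u.1) := by group
          _ = z.1⁻¹ * (x⁻¹ * z.1 * x) := by rw [h1]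
          _ = _ := by group
      have hu1 : u.1 ∈ (⊤ : Subgroup G).lowerCentralSeries 1 := by
        rw [huv]
        exact Subgroup.commutator_mem_commutator (Subgroup.mem_top _) (Subgroup.mem_top _)
      have hf2 : f.1 ∈ (⊤ : Subgroup G).lowerCentralSeries 2 := by
        rw [hfv]
        apply Subgroup.commutator_mem_commutator _ (Subgroup.mem_top _)
        simpa using Subgroup.inv_mem _ hu1
      rw [hbot] at hf2
      exact Subtype.ext (Subgroup.mem_bot.mp hf2)

/-- Case I, `n = 3`, an element of order `p` outside `C`. -/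
theorem caseI_zero_root (hG : IsPGroup p G) [hN : N.Normal] (hc : Nat.card N = p ^ 2)
    (hexp : ∀ a ∈ N, a ^ p = 1) (hco : IsCoatom (centralizer (N : Set G)))
    (hcardC : Nat.card (centralizer (N : Set G)) = p ^ 2) {x : G} (hx : x ∉ centralizer (N : Set G))
    (hxp : x ^ p = 1) :
    ∃ x y z : G, closure ({x, y, z} : Set G) = ⊤ ∧ x ^ p = 1 ∧ y ^ p = 1 ∧ z ^ p = 1 ∧
      x * z = z * x ∧ y * z = z * y ∧ x⁻¹ * y * x = y * z := by
  have hpp := hp.out
  have hne : N ≠ ⊥ := by
    intro h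
    rw [h] at hc
    simp at hc
    have h3 : 1 < p ^ 2 := Nat.one_lt_pow two_ne_zero hpp.one_lt
    omega
  obtain ⟨z₀, hz₀, hz₀c, hz₀o⟩ := exists_central_orderOf_eq hG N hne
  have hex : ∃ y ∈ N, y ∉ zpowers z₀ := by
    by_contra h
    push_neg at h
    have h1 := Subgroup.card_le_of_le (show N ≤ zpowers z₀ from h)
    rw [hc, Nat.card_zpowers, hz₀o, pow_two] at h1
    have := hpp.one_lt
    nlinarith
  obtain ⟨y, hyN, hy⟩ := hex
  have hNC : N = centralizer (N : Set G) := by
    apply Subgroup.eq_of_le_of_card_ge (le_centralizer_self (p := p) hc)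
    rw [hc, hcardC]
  have h1 := comm_mem_of_card hG hc hz₀ hz₀c hz₀o hyN x
  obtain ⟨w, hw⟩ : ∃ w, w = y⁻¹ * (x⁻¹ * y * x) := ⟨_, rfl⟩
  rw [← hw] at h1
  have hwN : w ∈ N := (Subgroup.zpowers_le.mpr hz₀) h1
  have hw1 : w ≠ 1 := by
    intro h
    apply hx
    rw [h, ] at hw
    apply mem_centralizer_of_commute_pair hG hc hyN hz₀ hz₀o hy
    · have h2 : x⁻¹ * y * x = y := by
        have h3 := hw.symm
        rwa [inv_mul_eq_one, eq_comm] at h3
      calc x * y = x * (x⁻¹ * y * x) := by rw [h2]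
        _ = y * x := by group
    · exact (Subgroup.mem_center_iff.mp hz₀c) x
  have hwp : w ^ p = 1 := hexp w hwN
  have hwo : orderOf w = p := orderOf_eq_prime hwp hw1
  have hwc : w ∈ center G := (Subgroup.zpowers_le.mpr hz₀c) h1
  have hyw : y ∉ zpowers w := fun h => hy ((Subgroup.zpowers_le.mpr h1) h)
  refine ⟨x, y, w, ?_, hxp, hexp y hyN, hwp, ?_, ?_, ?_⟩
  · apply top_of_gen hco hx (Subgroup.subset_closure (by simp))
    rw [← hNC, eq_closure_pair hG hc hyN hwN hwo hyw]
    rw [Subgroup.closure_le]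
    rintro _ (rfl | rfl)
    · exact Subgroup.subset_closure (by simp)
    · exact Subgroup.subset_closure (by simp)
  · exact (Subgroup.mem_center_iff.mp hwc) x
  · exact (Subgroup.mem_center_iff.mp hwc) y
  · rw [hw]; group

/-- Case I, `n = 3`, no element of order `p` outside `C`. -/
theorem caseI_zero_noroot (hG : IsPGroup p G) (hc : Nat.card N = p ^ 2)
    (hexp : ∀ a ∈ N, a ^ p = 1) (hco : IsCoatom (centralizer (N : Set G)))
    (hcardG : Nat.card G = p ^ 3)
    (hcardC : Nat.card (centralizer (N : Set G)) = p ^ 2) {x : G} (hx : x ∉ centralizer (N : Set G))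
    (hno : ∀ t : G, t ∉ centralizer (N : Set G) → t ^ p ≠ 1) : IsMetacyclic G := by
  have hpp := hp.out
  have hNC : N = centralizer (N : Set G) := by
    apply Subgroup.eq_of_le_of_card_ge (le_centralizer_self (p := p) hc)
    rw [hc, hcardC]
  have hCidx := index_eq_of_isCoatom hG hco
  have hxC : x ^ p ∈ centralizer (N : Set G) := by
    have := Subgroup.pow_index_mem (centralizer (N : Set G)) x
    rwa [hCidx] at this
  have hord : orderOf x = p ^ (1 + 1) := by
    apply orderOf_eq_prime_pow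
    · rw [pow_one]; exact hno x hx
    · rw [pow_two, pow_mul]
      rw [← hNC] at hxC
      exact hexp _ hxC
  apply isMetacyclic_of_cyclic_index hG (M := zpowers x)
  · have h1 := Subgroup.card_mul_index (zpowers x)
    rw [Nat.card_zpowers, hord, hcardG, show 3 = 1 + 1 + 1 by ring, pow_succ p (1 + 1)] at h1
    exact Nat.eq_of_mul_eq_mul_left (pow_pos hpp.pos _) h1
  · infer_instance

end Setup

end Cfsg.Agent.Lib.PGroups.RankTwoCaseI
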