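/-
`p` odd, `G` a `p`-group, `N` normal elementary abelian of order `p²`, `C = C_G(N)` of index `p`, metacyclic,
without cyclic subgroups of index `p`.
-/
import Cfsg.Agent.Lib.PGroups.RankTwoCaseI

set_option autoImplicit false

namespace Cfsg.Agent.Lib.PGroups.RankTwoCaseII

open Cfsg Subgroup
open Cfsg.Agent.Lib.Regular.Metacyclic Cfsg.Agent.Lib.PGroups.NormalRankTwo
  Cfsg.Agent.Lib.PGroups.Basic Cfsg.Agent.Lib.PGroups.RankTwoStruct
  Cfsg.Agent.Lib.PGroups.RankTwoCore Cfsg.Agent.Lib.PGroups.RankTwoAut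
  Cfsg.Agent.Lib.PGroups.RankTwoMaxClass Cfsg.Agent.Lib.PGroups.RankTwoCentral
  Cfsg.Agent.Lib.PGroups.RankTwoCaseIAbs Cfsg.Agent.Lib.PGroups.RankTwoCaseI
open scoped commutatorElement

universe u

variable {p : ℕ} [hp : Fact p.Prime] {G : Type u} [Group G] [Finite G]
variable {N : Subgroup G} [hCn : (centralizer (N : Set G)).Normal]

/-- The data of Case II. -/
structure Data (p : ℕ) (N : Subgroup G) [(centralizer (N : Set G)).Normal]
    (NC X Z : Subgroup (centralizer (N : Set G))) : Prop where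
  hO : OmegaData p NC X
  memN : ∀ g, g ∈ NC ↔ g.1 ∈ N
  cardZ : Nat.card Z = p
  central : ∀ z ∈ Z, z ∈ NC ∧ z.1 ∈ center G
  fixed : ∀ t : G, t ∉ centralizer (N : Set G) → ∀ n, n ∈ Z ↔ n ∈ NC ∧ sig t n = n
  delta : ∀ t : G, t ∉ centralizer (N : Set G) → ∀ n ∈ NC, n⁻¹ * sig t n ∈ Z
  comm : ∀ w ∈ X, ∀ c : centralizer (N : Set G), w⁻¹ * (c⁻¹ * w * c) ∈ Z

/-- Case II: existence of the data. -/
theorem exists_data (hp2 : p ≠ 2) (hG : IsPGroup p G) [hN : N.Normal] (hc : Nat.card N = p ^ 2)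
    (hexp : ∀ a ∈ N, a ^ p = 1) (hΩ : ∀ g ∈ centralizer (N : Set G), g ^ p = 1 → g ∈ N)
    (hco : IsCoatom (centralizer (N : Set G))) (hmc : IsMetacyclic (centralizer (N : Set G)))
    (hno : ∀ D : Subgroup (centralizer (N : Set G)), IsCyclic D → D.index ≠ p)
    {x : G} (hx : x ∉ centralizer (N : Set G)) :
    ∃ NC X Z, Data p N NC X Z := by
  have hpp := hp.out
  have hNC := le_centralizer_self (p := p) hc
  have hGC : IsPGroup p (centralizer (N : Set G)) := hG.to_subgroup _
  have hCidx := index_eq_of_isCoatom hG hco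
  -- `C` is not cyclic
  have hnc : ¬ IsCyclic (centralizer (N : Set G)) := by
    intro hcy
    have hcyc : IsCyclic N := by
      let j : N →* centralizer (N : Set G) :=
        { toFun := fun n => ⟨n.1, hNC n.2⟩
          map_one' := rfl
          map_mul' := fun _ _ => rfl }
      apply isCyclic_of_injective j
      intro a b hab
      have h := congrArg (fun w : centralizer (N : Set G) => (w : G)) hab
      exact Subtype.ext h
    have h1 := card_le_of_isCyclic (p := p) (H := N) (fun x => Subtype.ext (hexp x.1 x.2))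
    rw [hc, pow_two] at h1
    have := hpp.one_lt
    nlinarith
  obtain ⟨NC, X, hO⟩ := struct hp2 hGC hmc hnc hno
  have hmemN : ∀ g, g ∈ NC ↔ g.1 ∈ N := by
    intro g
    rw [hO.memN]
    constructor
    · intro h
      exact hΩ _ g.2 (by simpa using congrArg Subtype.val h)
    · intro h
      exact Subtype.ext (hexp _ h)
  -- central in `C`
  have hNCcen : ∀ n ∈ NC, ∀ c : centralizer (N : Set G), c * n = n * c := by
    intro n hn c
    apply Subtype.ext
    exact (Subgroup.mem_centralizer_iff.mp c.2) n.1 ((hmemN n).mp hn) |>.symm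
  -- powers land in `C`
  have hpowC : ∀ t : G, t ^ p ∈ centralizer (N : Set G) := by
    intro t
    have := Subgroup.pow_index_mem (centralizer (N : Set G)) t
    rwa [hCidx] at this
  -- `σ_t ^ p` is trivial on `N`
  have hσp : ∀ t : G, ∀ g ∈ NC, ((sig t) ^ p) g = g := by
    intro t g hg
    apply Subtype.ext
    rw [sig_pow_val]
    have h1 := congrArg Subtype.val (hNCcen g hg ⟨t ^ p, hpowC t⟩)
    have h2 : t ^ p * g.1 = g.1 * t ^ p := h1
    rw [mul_assoc, ← h2]
    group
  -- `t ∉ C` moves `N`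
  have hmove : ∀ t : G, t ∉ centralizer (N : Set G) → ∃ n ∈ NC, sig t n ≠ n := by
    intro t ht
    by_contra hcon
    push_neg at hcon
    apply ht
    rw [Subgroup.mem_centralizer_iff]
    intro n hn
    have h1 := hcon ⟨n, hNC hn⟩ ((hmemN _).mpr hn)
    have h2 := congrArg Subtype.val h1
    rw [sig_val] at h2
    calc n * t = t * (t⁻¹ * n * t) := by group
      _ = t * n := by rw [h2]
  -- the line
  obtain ⟨n₁, hn₁, hn₁m⟩ := hmove x hx
  obtain ⟨Z, hZc, hZ, hZd⟩ := line hO (sig x) (hσp x) n₁ hn₁ hn₁m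
  -- fixed elements of `N` are central
  have hcent : ∀ t : G, t ∉ centralizer (N : Set G) → ∀ n ∈ NC, sig t n = n → n.1 ∈ center G := by
    intro t ht n hn hf
    have h1 : centralizer ({n.1} : Set G) = ⊤ := by
      apply top_of_gen hco ht
      · rw [Subgroup.mem_centralizer_singleton_iff]
        have h2 := congrArg Subtype.val hf
        rw [sig_val] at h2
        calc t * n.1 = t * (t⁻¹ * n.1 * t) := by rw [h2]
          _ = n.1 * t := by group
      · intro c hc'
        rw [Subgroup.mem_centralizer_singleton_iff]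
        exact ((Subgroup.mem_centralizer_iff.mp hc') n.1 ((hmemN n).mp hn)).symm
    rw [Subgroup.mem_center_iff]
    intro g
    have h2 : g ∈ centralizer ({n.1} : Set G) := by rw [h1]; trivial
    exact Subgroup.mem_centralizer_singleton_iff.mp h2
  have hsigc : ∀ (t : G) (n : centralizer (N : Set G)), n.1 ∈ center G → sig t n = n := by
    intro t n hn
    apply Subtype.ext
    rw [sig_val, (Subgroup.mem_center_iff.mp hn) t⁻¹]
    group
  have hcentral : ∀ z ∈ Z, z ∈ NC ∧ z.1 ∈ center G := by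
    intro z hz
    obtain ⟨h1, h2⟩ := (hZ z).mp hz
    exact ⟨h1, hcent x hx z h1 h2⟩
  have hfixed : ∀ t : G, t ∉ centralizer (N : Set G) → ∀ n, n ∈ Z ↔ n ∈ NC ∧ sig t n = n := by
    intro t ht n
    constructor
    · intro hn
      obtain ⟨h1, h2⟩ := hcentral n hn
      exact ⟨h1, hsigc t n h2⟩
    · rintro ⟨h1, h2⟩
      exact (hZ n).mpr ⟨h1, hsigc x n (hcent t ht n h1 h2)⟩
  have hdelta : ∀ t : G, t ∉ centralizer (N : Set G) → ∀ n ∈ NC, n⁻¹ * sig t n ∈ Z := by
    intro t ht n hn
    obtain ⟨m₁, hm₁, hm₁m⟩ := hmove t ht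
    obtain ⟨Zt, -, hZt, hZtd⟩ := line hO (sig t) (hσp t) m₁ hm₁ hm₁m
    have h1 := (hZt _).mp (hZtd n hn)
    exact (hfixed t ht _).mpr h1
  -- commutators
  have hcomm : ∀ w ∈ X, ∀ c : centralizer (N : Set G), w⁻¹ * (c⁻¹ * w * c) ∈ Z := by
    intro w hw c
    -- in `N`
    have hR := regN_one_of_isMetacyclic hp2 hGC hmc
    have h1 : w ^ p = (c⁻¹ * w * c) ^ p := by
      have h2 := conj_pow (a := c⁻¹) (b := w) (i := p)
      simp only [inv_inv] at h2
      rw [h2, mul_assoc, ← hNCcen _ ((hO.memX w).mp hw) c, inv_mul_cancel_left]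
    have h3 := pow_eq_imp (p := p) _ _ rfl hGC hR _ _ h1
    have hmemNC : w⁻¹ * (c⁻¹ * w * c) ∈ NC := (hO.memN _).mpr h3
    refine (hZ _).mpr ⟨hmemNC, ?_⟩
    -- in the derived group
    obtain ⟨a, ha⟩ : ∃ a, a = w⁻¹ * (c⁻¹ * w * c) := ⟨_, rfl⟩
    rw [← ha] at hmemNC ⊢
    have haD : a.1 ∈ ⁅centralizer (N : Set G), centralizer (N : Set G)⁆ := by
      have h4 : a = ⁅w⁻¹, c⁻¹⁆ := by
        rw [ha, commutatorElement_def]
        group
      have h5 : a ∈ commutator (centralizer (N : Set G)) := by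
        rw [h4]
        exact Subgroup.commutator_mem_commutator (Subgroup.mem_top _) (Subgroup.mem_top _)
      have h6 : a.1 ∈ (commutator (centralizer (N : Set G))).map (centralizer (N : Set G)).subtype :=
        ⟨a, h5, rfl⟩
      rwa [Subgroup.map_subtype_commutator] at h6
    -- `N ⊓ C'` is normal of order at most `p`
    obtain ⟨E, hE⟩ : ∃ E, E = N ⊓ ⁅centralizer (N : Set G), centralizer (N : Set G)⁆ := ⟨_, rfl⟩
    haveI hEn : E.Normal := by
      rw [hE]
      infer_instance
    have hKc : IsCyclic (⁅centralizer (N : Set G), centralizer (N : Set G)⁆ : Subgroup G) := by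
      have h6 := isCyclic_commutator hmc
      rw [← Subgroup.map_subtype_commutator]
      exact isCyclic_of_surjective ((centralizer (N : Set G)).subtype.subgroupMap _)
        ((centralizer (N : Set G)).subtype.subgroupMap_surjective _)
    have hEK : E ≤ ⁅centralizer (N : Set G), centralizer (N : Set G)⁆ := by
      rw [hE]; exact inf_le_right
    haveI hEcyc : IsCyclic E :=
      isCyclic_of_injective (Subgroup.inclusion hEK) (Subgroup.inclusion_injective hEK)
    have hEcard : Nat.card E ≤ p := by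
      apply card_le_of_isCyclic
      rintro ⟨e, he⟩
      apply Subtype.ext
      rw [hE] at he
      exact hexp e he.1
    have haE : a.1 ∈ E := by
      rw [hE]
      exact ⟨(hmemN a).mp hmemNC, haD⟩
    have hEc : E ≤ center G := by
      by_cases hE1 : Nat.card E = p
      · exact le_center_of_card_eq hG E hE1
      · have hE2 : Nat.card E ∣ p ^ 2 := by
          have : E ≤ N := by
            rw [hE]; exact inf_le_left
          have h10 := Subgroup.card_dvd_of_le this
          rwa [hc] at h10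
        obtain ⟨k, -, hk⟩ := (Nat.dvd_prime_pow hpp).mp hE2
        have hk0 : k = 0 := by
          rcases Nat.eq_zero_or_pos k with h | h
          · exact h
          · exfalso
            obtain ⟨k', rfl⟩ : ∃ k', k = k' + 1 := ⟨k - 1, by omega⟩
            rw [hk] at hEcard hE1
            have h11 : p ^ (k' + 1) ≤ p ^ 1 := by simpa using hEcard
            have h12 := (Nat.pow_le_pow_iff_right hpp.one_lt).mp h11
            have h13 : k' = 0 := by omega
            rw [h13] at hE1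
            simp at hE1
        rw [hk0, pow_zero, Subgroup.card_eq_one] at hk
        rw [hk]
        exact bot_le
    exact hsigc x a (hEc haE)
  exact ⟨NC, X, Z, hO, hmemN, hZc, hcentral, hfixed, hdelta, hcomm⟩

theorem card_map_mk {G' : Type*} [Group G'] (K L : Subgroup G') [K.Normal] (h : K ≤ L) :
    Nat.card (L.map (QuotientGroup.mk' K)) * Nat.card K = Nat.card L := by
  let f : L →* L.map (QuotientGroup.mk' K) := (QuotientGroup.mk' K).subgroupMap L
  have hf : Function.Surjective f := (QuotientGroup.mk' K).subgroupMap_surjective L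
  have h4 : Nat.card f.ker * f.ker.index = Nat.card L := Subgroup.card_mul_index _
  rw [Subgroup.index_ker, MonoidHom.range_eq_top.mpr hf] at h4
  have h5 : Nat.card f.ker = Nat.card K := by
    apply Nat.card_congr
    exact
      { toFun := fun a => ⟨a.1.1, by
          have h6 := congrArg Subtype.val (MonoidHom.mem_ker.mp a.2)
          exact (QuotientGroup.eq_one_iff _).mp h6⟩
        invFun := fun a => ⟨⟨a.1, h a.2⟩, by
          rw [MonoidHom.mem_ker]
          apply Subtype.ext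
          exact (QuotientGroup.eq_one_iff _).mpr a.2⟩
        left_inv := fun a => rfl
        right_inv := fun a => rfl }
  rw [h5, Subgroup.card_top] at h4
  rw [← h4, mul_comm]

section Data

variable {NC X Z : Subgroup (centralizer (N : Set G))}

theorem exists_w (hD : Data p N NC X Z) : ∃ w ∈ X, w ^ p ∉ Z := by
  have hpp := hp.out
  have h1 : ∃ n ∈ NC, n ∉ Z := by
    by_contra h
    push_neg at h
    have h2 := Subgroup.card_le_of_le (show NC ≤ Z from h)
    rw [hD.hO.card, hD.cardZ, pow_two] at h2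
    have := hpp.one_lt
    nlinarith
  obtain ⟨n, hn, hnZ⟩ := h1
  obtain ⟨w, hw, rfl⟩ := hD.hO.surj n hn
  exact ⟨w, hw, hnZ⟩

theorem mem_X_of_pow_mem (hD : Data p N NC X Z) {g : centralizer (N : Set G)} (hg : g ^ p ∈ Z) : g ∈ X :=
  (hD.hO.memX g).mpr (hD.central _ hg).1

/-- **No root of `Z` outside `C`**, unless `p = 3`. -/
theorem no_root (hD : Data p N NC X Z) (hp2 : p ≠ 2) {t : G} (ht : t ∉ centralizer (N : Set G))
    {z : centralizer (N : Set G)} (hz : z ∈ Z) (htz : t ^ p = z.1) {w : centralizer (N : Set G)}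
    (hw : w ∈ X) (hwZ : w ^ p ∉ Z) :
    p = 3 ∧ (w⁻¹ * sig t w)⁻¹ * sig t (w⁻¹ * sig t w) ∉ Z := by
  have hσ : ∀ g ∈ X, ((sig t) ^ p) g = g := by
    intro g hg
    apply Subtype.ext
    rw [sig_pow_val, htz]
    have h1 := congrArg Subtype.val (hD.hO.central z (hD.central z hz).1 g hg)
    have h2 : z.1 * g.1 = g.1 * z.1 := h1
    rw [mul_assoc, ← h2]
    group
  obtain ⟨hp3, hmv⟩ := core hD.hO hp2 (sig t) hσ (hD.fixed t ht) (hD.delta t ht) hw hwZ
  refine ⟨hp3, fun h => hmv ?_⟩
  exact ((hD.fixed t ht _).mp h).2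

/-- The element `e` with `e ^ p` generating `Z`. -/
theorem exists_e (hD : Data p N NC X Z) {x : G} (hx : x ∉ centralizer (N : Set G)) :
    ∃ e ∈ X, e ^ p ∈ Z ∧ e ^ p ≠ 1 := by
  obtain ⟨w, hw, hwZ⟩ := exists_w hD
  refine ⟨w⁻¹ * sig x w, X.mul_mem (X.inv_mem hw) (map_memX hD.hO _ hw), ?_, ?_⟩
  · rw [delta_pow hD.hO _ hw]
    exact hD.delta x hx _ ((hD.hO.memX w).mp hw)
  · rw [delta_pow hD.hO _ hw]
    intro h
    rw [inv_mul_eq_one] at h
    exact hwZ ((hD.fixed x hx _).mpr ⟨(hD.hO.memX w).mp hw, h.symm⟩)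

theorem powers_of_Z (hD : Data p N NC X Z) {e : centralizer (N : Set G)} (hez : e ^ p ∈ Z) (he1 : e ^ p ≠ 1)
    {z : centralizer (N : Set G)} (hz : z ∈ Z) : ∃ k : ℕ, z = (e ^ k) ^ p := by
  have hpp := hp.out
  have hord : orderOf (e ^ p) = p := by
    apply orderOf_eq_prime _ he1
    exact (hD.hO.memN _).mp (hD.central _ hez).1
  have hZz : zpowers (e ^ p) = Z := by
    apply Subgroup.eq_of_le_of_card_ge
    · rwa [Subgroup.zpowers_le]
    · rw [Nat.card_zpowers, hord, hD.cardZ]
  have h1 : z ∈ zpowers (e ^ p) := by rw [hZz]; exact hz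
  obtain ⟨k, hk⟩ := Cfsg.Agent.Lib.Metacyclic.Basic.exists_natPow_of_mem_zpowers h1
  exact ⟨k, by rw [hk, ← pow_mul, ← pow_mul, mul_comm]⟩

/-- The subgroup `Y = {g ∈ C | g ^ p ∈ Z}`. -/
def Ysub (hD : Data p N NC X Z) : Subgroup (centralizer (N : Set G)) where
  carrier := {g | g ^ p ∈ Z}
  mul_mem' := by
    intro a b ha hb
    show (a * b) ^ p ∈ Z
    rw [hD.hO.powMul a (mem_X_of_pow_mem hD ha) b (mem_X_of_pow_mem hD hb)]
    exact Z.mul_mem ha hb
  one_mem' := by
    show (1 : centralizer (N : Set G)) ^ p ∈ Z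
    rw [one_pow]
    exact Z.one_mem
  inv_mem' := by
    intro a ha
    show a⁻¹ ^ p ∈ Z
    rw [inv_pow]
    exact Z.inv_mem ha

theorem mem_Ysub (hD : Data p N NC X Z) (g : centralizer (N : Set G)) : g ∈ Ysub hD ↔ g ^ p ∈ Z := Iff.rfl

theorem card_Ysub_le (hD : Data p N NC X Z) : Nat.card (Ysub hD) ≤ p ^ 3 := by
  have hpp := hp.out
  let f : Ysub hD →* Z :=
    { toFun := fun g => ⟨g.1 ^ p, g.2⟩
      map_one' := by
        apply Subtype.ext
        simp
      map_mul' := by
        intro a b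
        apply Subtype.ext
        exact hD.hO.powMul a.1 (mem_X_of_pow_mem hD a.2) b.1 (mem_X_of_pow_mem hD b.2) }
  have h1 : Nat.card f.ker * f.ker.index = Nat.card (Ysub hD) := Subgroup.card_mul_index _
  rw [Subgroup.index_ker] at h1
  have h2 : Nat.card f.ker ≤ p ^ 2 := by
    rw [← hD.hO.card]
    apply Nat.card_le_card_of_injective (f := fun x : f.ker => (⟨x.1.1, by
      have := x.2
      rw [MonoidHom.mem_ker] at this
      exact (hD.hO.memN _).mpr (congrArg Subtype.val this)⟩ : NC))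
    intro a b hab
    have h := congrArg (fun z : NC => (z : centralizer (N : Set G))) hab
    exact Subtype.ext (Subtype.ext h)
  have h3 : Nat.card f.range ≤ p := by
    calc Nat.card f.range ≤ Nat.card Z := Subgroup.card_le_card_group _
      _ = p := hD.cardZ
  rw [← h1, pow_succ]
  exact Nat.mul_le_mul h2 h3

/-- `Ẑ`. -/
def Zhat (_hD : Data p N NC X Z) : Subgroup G := Z.map (centralizer (N : Set G)).subtype

theorem mem_Zhat (hD : Data p N NC X Z) {g : G} : g ∈ Zhat hD ↔ ∃ z ∈ Z, z.1 = g := by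
  simp only [Zhat, Subgroup.mem_map, Subgroup.coe_subtype]

theorem Zhat_le_center (hD : Data p N NC X Z) : Zhat hD ≤ center G := by
  intro g hg
  obtain ⟨z, hz, rfl⟩ := (mem_Zhat hD).mp hg
  exact (hD.central z hz).2

instance Zhat_normal (hD : Data p N NC X Z) : (Zhat hD).Normal := by
  constructor
  intro n hn g
  have := (Subgroup.mem_center_iff.mp (Zhat_le_center hD hn)) g
  rw [this, mul_inv_cancel_right]
  exact hn

theorem card_Zhat (hD : Data p N NC X Z) : Nat.card (Zhat hD) = p := by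
  rw [Zhat, Subgroup.card_map_of_injective (Subgroup.subtype_injective _), hD.cardZ]

/-- `Ŷ`. -/
def Yhat (hD : Data p N NC X Z) : Subgroup G := (Ysub hD).map (centralizer (N : Set G)).subtype

theorem Zhat_le_Yhat (hD : Data p N NC X Z) : Zhat hD ≤ Yhat hD := by
  apply Subgroup.map_mono
  intro z hz
  rw [mem_Ysub, (hD.hO.memN z).mp (hD.central z hz).1]
  exact Z.one_mem

/-- The quotient `G / Ẑ`, when `Z` has no roots outside `C`. -/
theorem quot_data (hD : Data p N NC X Z) (hroot : ∀ t : G, t ∉ centralizer (N : Set G) → ∀ z ∈ Z, t ^ p ≠ z.1) :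
    Nat.card ((Yhat hD).map (QuotientGroup.mk' (Zhat hD))) ≤ p ^ 2 ∧
    (∀ q : G ⧸ Zhat hD, q ^ p = 1 → q ∈ (Yhat hD).map (QuotientGroup.mk' (Zhat hD))) ∧
    (∀ q ∈ (Yhat hD).map (QuotientGroup.mk' (Zhat hD)), q ^ p = 1) := by
  have hpp := hp.out
  refine ⟨?_, ?_, ?_⟩
  · have h1 := card_map_mk (Zhat hD) (Yhat hD) (Zhat_le_Yhat hD)
    have h2 : Nat.card (Yhat hD) ≤ p ^ 3 := by
      rw [Yhat, Subgroup.card_map_of_injective (Subgroup.subtype_injective _)]
      exact card_Ysub_le hD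
    rw [card_Zhat hD] at h1
    rw [← h1, pow_succ] at h2
    exact Nat.le_of_mul_le_mul_right h2 hpp.pos
  · intro q hq
    obtain ⟨g, rfl⟩ := QuotientGroup.mk_surjective q
    rw [← QuotientGroup.mk_pow, QuotientGroup.eq_one_iff] at hq
    obtain ⟨z, hz, hzg⟩ := (mem_Zhat hD).mp hq
    by_cases hgC : g ∈ centralizer (N : Set G)
    · refine ⟨g, ⟨⟨g, hgC⟩, ?_, rfl⟩, rfl⟩
      show (⟨g, hgC⟩ : centralizer (N : Set G)) ^ p ∈ Z
      have h1 : (⟨g, hgC⟩ : centralizer (N : Set G)) ^ p = z := by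
        apply Subtype.ext
        rw [hzg]
        simp
      rw [h1]
      exact hz
    · exact absurd hzg.symm (hroot g hgC z hz)
  · rintro _ ⟨_, ⟨y, hy, rfl⟩, rfl⟩
    show ((y.1 : G) : G ⧸ Zhat hD) ^ p = 1
    rw [← QuotientGroup.mk_pow, QuotientGroup.eq_one_iff]
    exact (mem_Zhat hD).mpr ⟨_, hy, by simp⟩

theorem Zhat_le_powerClosure (hD : Data p N NC X Z) {x : G} (hx : x ∉ centralizer (N : Set G)) :
    Zhat hD ≤ powerClosure p 1 (⊤ : Subgroup G) := by
  obtain ⟨e, -, hez, he1⟩ := exists_e hD hx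
  intro g hg
  obtain ⟨z, hz, rfl⟩ := (mem_Zhat hD).mp hg
  obtain ⟨k, rfl⟩ := powers_of_Z hD hez he1 hz
  have := Cfsg.Agent.Lib.Regular.Basic.pow_mem_powerClosure p 1 (Subgroup.mem_top (((e ^ k : centralizer (N : Set G)) : G)))
  simpa using this

/-- Case A: if `x` acts trivially on `Y / Z`, then everything does. -/
theorem all_trivial (hD : Data p N NC X Z) (hco : IsCoatom (centralizer (N : Set G))) {x : G}
    (hx : x ∉ centralizer (N : Set G)) (hA : ∀ g ∈ Ysub hD, g⁻¹ * sig x g ∈ Z) (t : G) :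
    ∀ g ∈ Ysub hD, g⁻¹ * sig t g ∈ Z := by
  have hsigc : ∀ (t : G) (n : centralizer (N : Set G)), n ∈ Z → sig t n = n := by
    intro t n hn
    apply Subtype.ext
    rw [sig_val, (Subgroup.mem_center_iff.mp (hD.central n hn).2) t⁻¹]
    group
  have hYinv : ∀ (t : G), ∀ g ∈ Ysub hD, sig t g ∈ Ysub hD := by
    intro t g hg
    rw [mem_Ysub] at hg ⊢
    rw [← map_pow, hsigc t _ hg]
    exact hg
  have hsigmul : ∀ (t₁ t₂ : G) (g : centralizer (N : Set G)), sig (t₁ * t₂) g = sig t₂ (sig t₁ g) := by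
    intro t₁ t₂ g
    apply Subtype.ext
    rw [sig_val, sig_val, sig_val]
    group
  let S : Subgroup G :=
    { carrier := {t | ∀ g ∈ Ysub hD, g⁻¹ * sig t g ∈ Z}
      mul_mem' := by
        intro t₁ t₂ h₁ h₂ g hg
        rw [hsigmul]
        have h3 : sig t₁ g = g * (g⁻¹ * sig t₁ g) := by group
        rw [h3, map_mul, hsigc t₂ _ (h₁ g hg)]
        have h4 : g⁻¹ * (sig t₂ g * (g⁻¹ * sig t₁ g)) = (g⁻¹ * sig t₂ g) * (g⁻¹ * sig t₁ g) := by group
        rw [h4]
        exact Z.mul_mem (h₂ g hg) (h₁ g hg)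
      one_mem' := by
        intro g hg
        have : sig (1 : G) g = g := by
          apply Subtype.ext
          rw [sig_val]
          simp
        rw [this, inv_mul_cancel]
        exact Z.one_mem
      inv_mem' := by
        intro t h g hg
        have h1 := h _ (hYinv t⁻¹ g hg)
        have h2 : sig t (sig t⁻¹ g) = g := by
          rw [← hsigmul, inv_mul_cancel]
          apply Subtype.ext
          rw [sig_val]
          simp
        rw [h2] at h1
        have h3 := Z.inv_mem h1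
        simpa using h3 }
  have hS : S = ⊤ := by
    apply top_of_gen (T := S) hco hx hA
    intro c hc g hg
    have h1 := hD.comm g (mem_X_of_pow_mem hD hg) ⟨c, hc⟩
    have h2 : sig c g = (⟨c, hc⟩ : centralizer (N : Set G))⁻¹ * g * ⟨c, hc⟩ := by
      apply Subtype.ext
      rw [sig_val]
      simp
    rw [h2]
    exact h1
  have ht : t ∈ S := by rw [hS]; trivial
  exact ht

/-- In case A, `Y / Z` is central in `G / Z`. -/
theorem Yhat_central (hD : Data p N NC X Z) (hA : ∀ t : G, ∀ g ∈ Ysub hD, g⁻¹ * sig t g ∈ Z) :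
    (Yhat hD).map (QuotientGroup.mk' (Zhat hD)) ≤ center (G ⧸ Zhat hD) := by
  rintro _ ⟨_, ⟨y, hy, rfl⟩, rfl⟩
  rw [Subgroup.mem_center_iff]
  intro q
  obtain ⟨t, rfl⟩ := QuotientGroup.mk_surjective q
  have h1 := hA t y hy
  have h2 : (y⁻¹ * sig t y).1 ∈ Zhat hD := (mem_Zhat hD).mpr ⟨_, h1, rfl⟩
  have h3 : (y⁻¹ * sig t y).1 = y.1⁻¹ * (t⁻¹ * y.1 * t) := by
    rw [Subgroup.coe_mul, sig_val]
    simp
  rw [h3, ← QuotientGroup.eq_one_iff] at h2
  show (t : G ⧸ Zhat hD) * (y.1 : G ⧸ Zhat hD) = (y.1 : G ⧸ Zhat hD) * (t : G ⧸ Zhat hD)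
  simp only [QuotientGroup.mk_mul, QuotientGroup.mk_inv] at h2
  have h4 : (y.1 : G ⧸ Zhat hD) * (t : G ⧸ Zhat hD) =
      (t : G ⧸ Zhat hD) * ((y.1 : G ⧸ Zhat hD) * (((y.1 : G ⧸ Zhat hD))⁻¹ * ((t : G ⧸ Zhat hD)⁻¹ * (y.1 : G ⧸ Zhat hD) * (t : G ⧸ Zhat hD)))) := by
    group
  rw [h4, h2]
  simp

/-- Case B: the group has maximal class. -/
theorem class_of_caseB (hD : Data p N NC X Z) (hG : IsPGroup p G)
    (hco : IsCoatom (centralizer (N : Set G))) {n : ℕ} (hcardG : Nat.card G = p ^ n) {x : G}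
    (hx : x ∉ centralizer (N : Set G)) {g : centralizer (N : Set G)} (hg : g ∈ Ysub hD)
    (hf : g⁻¹ * sig x g ∉ Z) : Group.nilpotencyClass G = n - 1 := by
  have hpp := hp.out
  have hgX := mem_X_of_pow_mem hD hg
  have hg1 : g ^ p ≠ 1 := by
    intro h
    exact hf (hD.delta x hx g ((hD.hO.memN g).mpr h))
  have hfix : ∀ a : centralizer (N : Set G), sig x a = a → a ∈ Z := by
    intro a ha
    exact fixed_mem_line hD.hO (hG.to_subgroup _) (sig x) hD.cardZ (hD.fixed x hx) (hD.delta x hx)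
      hgX hg hg1 hf ha
  -- `U = C_G(x)`
  obtain ⟨U, hUdef⟩ : ∃ U, U = centralizer ({x} : Set G) := ⟨_, rfl⟩
  have hmemU : ∀ a, a ∈ U ↔ a * x = x * a := by
    intro a
    rw [hUdef, Subgroup.mem_centralizer_singleton_iff]
  have hinf : U ⊓ centralizer (N : Set G) = Zhat hD := by
    ext a
    constructor
    · rintro ⟨h1, h2⟩
      refine (mem_Zhat hD).mpr ⟨⟨a, h2⟩, hfix _ ?_, rfl⟩
      apply Subtype.ext
      rw [sig_val]
      have h3 := (hmemU a).mp h1
      show x⁻¹ * a * x = a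
      rw [mul_assoc, h3]
      group
    · intro h
      obtain ⟨z, hz, rfl⟩ := (mem_Zhat hD).mp h
      refine ⟨(hmemU _).mpr ?_, z.2⟩
      exact ((Subgroup.mem_center_iff.mp (hD.central z hz).2) x).symm
  have hsup : U ⊔ centralizer (N : Set G) = ⊤ := by
    apply top_of_gen hco hx
    · exact Subgroup.mem_sup_left ((hmemU x).mpr rfl)
    · exact le_sup_right
  have hcardU : Nat.card U = p ^ 2 := by
    have h1 : (centralizer (N : Set G)).relIndex U = p := by
      have := Subgroup.relIndex_sup_right (H := U) (K := centralizer (N : Set G))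
      rw [hsup, Subgroup.relIndex_top_right, index_eq_of_isCoatom hG hco] at this
      exact this.symm
    have h2 := Cfsg.Agent.Lib.PGroups.MaxAbelian.relIndex_mul_card
      (inf_le_left : U ⊓ centralizer (N : Set G) ≤ U)
    rw [Subgroup.inf_relIndex_left, h1, hinf, card_Zhat hD] at h2
    rw [← h2, pow_two]
  have hcomm : IsMulCommutative U := IsPGroup.isMulCommutative_of_card_eq_prime_sq hcardU
  have hcent : centralizer (U : Set G) = U := by
    apply le_antisymm
    · intro a ha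
      have hxU : x ∈ U := (hmemU x).mpr rfl
      have := (Subgroup.mem_centralizer_iff.mp ha) x hxU
      exact (hmemU a).mpr this.symm
    · intro a ha
      rw [Subgroup.mem_centralizer_iff]
      intro b hb
      exact congrArg Subtype.val (hcomm.is_comm.comm (⟨b, hb⟩ : U) ⟨a, ha⟩)
  exact Cfsg.Agent.Lib.PGroups.MaximalClass.class_of_self_centralizing n hcardG U hcardU hcent

end Data

end Cfsg.Agent.Lib.PGroups.RankTwoCaseII
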