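/-
The classification of the `p`-groups of rank at most two, `p` odd.
-/
import Cfsg.Agent.Lib.PGroups.RankTwoCaseII

set_option autoImplicit false

namespace Cfsg.Agent.Lib.PGroups.RankTwoMain

open Cfsg Subgroup
open Cfsg.Agent.Lib.Regular.Metacyclic Cfsg.Agent.Lib.PGroups.NormalRankTwo
  Cfsg.Agent.Lib.PGroups.Basic Cfsg.Agent.Lib.PGroups.RankTwoStruct
  Cfsg.Agent.Lib.PGroups.RankTwoCore Cfsg.Agent.Lib.PGroups.RankTwoAut
  Cfsg.Agent.Lib.PGroups.RankTwoMaxClass Cfsg.Agent.Lib.PGroups.RankTwoCentral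
  Cfsg.Agent.Lib.PGroups.RankTwoCaseIAbs Cfsg.Agent.Lib.PGroups.RankTwoCaseI
  Cfsg.Agent.Lib.PGroups.RankTwoCaseII
open scoped commutatorElement

universe u

variable {p : ℕ} [hp : Fact p.Prime]

theorem isMetacyclic_of_isCyclic {G : Type*} [Group G] (h : IsCyclic G) : IsMetacyclic G := by
  refine ⟨⊤, inferInstance, ?_, ?_⟩
  · exact isCyclic_of_surjective (Subgroup.topEquiv (G := G)).symm.toMonoidHom
      (Subgroup.topEquiv (G := G)).symm.surjective
  · exact isCyclic_of_surjective (QuotientGroup.mk' (⊤ : Subgroup G)) (QuotientGroup.mk'_surjective _)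

variable {G : Type u} [Group G] [Finite G]

/-- `C` is metacyclic. -/
theorem centralizer_isMetacyclic (hp2 : p ≠ 2) (hG : IsPGroup p G) {N : Subgroup G}
    (hc : Nat.card N = p ^ 2) (hΩ : ∀ g ∈ centralizer (N : Set G), g ^ p = 1 → g ∈ N) :
    IsMetacyclic (centralizer (N : Set G)) := by
  refine RankTwoCentral.main hp2 _ _ rfl (hG.to_subgroup _) (N.subgroupOf (centralizer (N : Set G))) ?_ ?_ ?_
  · intro a ha
    rw [Subgroup.mem_center_iff]
    intro b
    apply Subtype.ext
    exact ((Subgroup.mem_centralizer_iff.mp b.2) a.1 (Subgroup.mem_subgroupOf.mp ha)).symm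
  · rw [← hc]
    apply Nat.card_le_card_of_injective
      (fun a : N.subgroupOf (centralizer (N : Set G)) => (⟨a.1.1, Subgroup.mem_subgroupOf.mp a.2⟩ : N))
    intro a b hab
    have h := congrArg (fun z : N => (z : G)) hab
    exact Subtype.ext (Subtype.ext h)
  · intro g hg
    rw [Subgroup.mem_subgroupOf]
    exact hΩ _ g.2 (by simpa using congrArg Subtype.val hg)

/-- The index of `C` is `1` or `p`. -/
theorem index_centralizer_cases (hG : IsPGroup p G) {N : Subgroup G} [hN : N.Normal]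
    (hc : Nat.card N = p ^ 2) (hexp : ∀ a ∈ N, a ^ p = 1) :
    centralizer (N : Set G) = ⊤ ∨ (centralizer (N : Set G)).index = p := by
  have hpp := hp.out
  have h1 := index_centralizer_le hG hc hexp
  obtain ⟨n, hn⟩ := IsPGroup.iff_card.mp hG
  have h2 : (centralizer (N : Set G)).index ∣ p ^ n := hn ▸ Subgroup.index_dvd_card _
  obtain ⟨k, -, hk⟩ := (Nat.dvd_prime_pow hpp).mp h2
  rw [hk] at h1
  have h3 : p ^ k ≤ p ^ 1 := by simpa using h1
  have h4 := (Nat.pow_le_pow_iff_right hpp.one_lt).mp h3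
  have h5 : k = 0 ∨ k = 1 := by omega
  rcases h5 with rfl | rfl
  · left
    rw [pow_zero, Subgroup.index_eq_one] at hk
    exact hk
  · right
    rw [pow_one] at hk
    exact hk

/-- The central case. -/
theorem metacyclic_of_centralizer_top (hp2 : p ≠ 2) (hG : IsPGroup p G) {N : Subgroup G}
    (hc : Nat.card N = p ^ 2) (hΩ : ∀ g ∈ centralizer (N : Set G), g ^ p = 1 → g ∈ N)
    (hC : centralizer (N : Set G) = ⊤) : IsMetacyclic G := by
  refine RankTwoCentral.main hp2 _ G rfl hG N ?_ hc.le ?_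
  · intro a ha
    rw [Subgroup.mem_center_iff]
    intro b
    have hb : b ∈ centralizer (N : Set G) := by rw [hC]; trivial
    exact ((Subgroup.mem_centralizer_iff.mp hb) a ha).symm
  · intro g hg
    exact hΩ g (by rw [hC]; trivial) hg

/-- Case I wrapped, no root. -/
theorem caseI_noroot_wrap (hp2 : p ≠ 2) (hG : IsPGroup p G) {N : Subgroup G} [hN : N.Normal]
    [hCn : (centralizer (N : Set G)).Normal] (hc : Nat.card N = p ^ 2)
    (hexp : ∀ a ∈ N, a ^ p = 1) (hΩ : ∀ g ∈ centralizer (N : Set G), g ^ p = 1 → g ∈ N)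
    (hco : IsCoatom (centralizer (N : Set G))) {n : ℕ} (hcardG : Nat.card G = p ^ n)
    (z : centralizer (N : Set G)) (hz : (zpowers z).index = p) {x : G}
    (hx : x ∉ centralizer (N : Set G))
    (hno : ∀ t : G, t ∉ centralizer (N : Set G) → t ^ p ≠ 1) :
    IsMetacyclic G ∨ (p = 3 ∧ n = 4 ∧ (⊤ : Subgroup G).lowerCentralSeries 2 ≠ ⊥) := by
  have hpp := hp.out
  have hidx := index_eq_of_isCoatom hG hco
  have hle := Subgroup.card_le_of_le (le_centralizer_self (p := p) hc)
  have hmul := Subgroup.card_mul_index (centralizer (N : Set G))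
  rw [hidx, hcardG] at hmul
  have hn3 : 3 ≤ n := by
    by_contra h
    have h1 : n ≤ 2 := by omega
    have h2 : p ^ n ≤ p ^ 2 := Nat.pow_le_pow_right hpp.pos h1
    rw [hc] at hle
    have h3 : p ^ 2 * p ≤ p ^ 2 := by
      calc p ^ 2 * p ≤ Nat.card (centralizer (N : Set G)) * p := Nat.mul_le_mul_right _ hle
        _ = p ^ n := hmul
        _ ≤ p ^ 2 := h2
    have := pow_pos hpp.pos 2
    have := hpp.one_lt
    nlinarith
  obtain ⟨m, rfl⟩ : ∃ m, n = m + 3 := ⟨n - 3, by omega⟩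
  have hcardC : Nat.card (centralizer (N : Set G)) = p ^ (m + 2) := by
    rw [show m + 3 = m + 2 + 1 by ring, pow_succ] at hmul
    exact Nat.eq_of_mul_eq_mul_right hpp.pos hmul
  by_cases hm : m = 0
  · subst hm
    left
    exact caseI_zero_noroot hG hc hexp hco hcardG hcardC hx hno
  · rcases caseI_pos_noroot hp2 hG hc hexp hΩ hco (by omega) hcardG hcardC z hz hx hno with h | ⟨h1, h2, h3⟩
    · exact Or.inl h
    · exact Or.inr ⟨h1, by omega, h3⟩

/-- Case I wrapped, a root. -/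
theorem caseI_root_wrap (hp2 : p ≠ 2) (hG : IsPGroup p G) {N : Subgroup G} [hN : N.Normal]
    [hCn : (centralizer (N : Set G)).Normal] (hc : Nat.card N = p ^ 2)
    (hexp : ∀ a ∈ N, a ^ p = 1) (hΩ : ∀ g ∈ centralizer (N : Set G), g ^ p = 1 → g ∈ N)
    (hco : IsCoatom (centralizer (N : Set G))) {n : ℕ} (hcardG : Nat.card G = p ^ n)
    (z : centralizer (N : Set G)) (hz : (zpowers z).index = p) {x : G}
    (hx : x ∉ centralizer (N : Set G)) (hxp : x ^ p = 1) :
    (3 ≤ n ∧ ∃ x y z : G, Subgroup.closure ({x, y, z} : Set G) = ⊤ ∧ x ^ p = 1 ∧ y ^ p = 1 ∧ z ^ p ^ (n - 2) = 1 ∧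
        x * z = z * x ∧ y * z = z * y ∧ x⁻¹ * y * x = y * z ^ p ^ (n - 3)) ∨
    (4 ≤ n ∧ ∃ (s : ℕ) (x y z : G), (s = 1 ∨ ¬ IsSquare (s : ZMod p)) ∧ Subgroup.closure ({x, y, z} : Set G) = ⊤ ∧
        x ^ p = 1 ∧ y ^ p = 1 ∧ z ^ p ^ (n - 2) = 1 ∧ y * z = z * y ∧ x⁻¹ * y * x = y * z ^ (s * p ^ (n - 3)) ∧
        x⁻¹ * z * x = y * z) := by
  have hpp := hp.out
  have hidx := index_eq_of_isCoatom hG hco
  have hle := Subgroup.card_le_of_le (le_centralizer_self (p := p) hc)
  have hmul := Subgroup.card_mul_index (centralizer (N : Set G))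
  rw [hidx, hcardG] at hmul
  have hn3 : 3 ≤ n := by
    by_contra h
    have h1 : n ≤ 2 := by omega
    have h2 : p ^ n ≤ p ^ 2 := Nat.pow_le_pow_right hpp.pos h1
    rw [hc] at hle
    have h3 : p ^ 2 * p ≤ p ^ 2 := by
      calc p ^ 2 * p ≤ Nat.card (centralizer (N : Set G)) * p := Nat.mul_le_mul_right _ hle
        _ = p ^ n := hmul
        _ ≤ p ^ 2 := h2
    have := pow_pos hpp.pos 2
    have := hpp.one_lt
    nlinarith
  obtain ⟨m, rfl⟩ : ∃ m, n = m + 3 := ⟨n - 3, by omega⟩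
  have hcardC : Nat.card (centralizer (N : Set G)) = p ^ (m + 2) := by
    rw [show m + 3 = m + 2 + 1 by ring, pow_succ] at hmul
    exact Nat.eq_of_mul_eq_mul_right hpp.pos hmul
  have e2 : m + 3 - 2 = m + 1 := by omega
  have e3 : m + 3 - 3 = m := by omega
  rw [e2, e3]
  by_cases hm : m = 0
  · subst hm
    left
    have hcC : Nat.card (centralizer (N : Set G)) = p ^ 2 := by simpa using hcardC
    obtain ⟨x', y', z', h1, h2, h3, h4, h5, h6, h7⟩ := caseI_zero_root hG hc hexp hco hcC hx hxp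
    exact ⟨by omega, x', y', z', h1, h2, h3, by simpa using h4, h5, h6, by simpa using h7⟩
  · rcases caseI_pos_root hp2 hG hc hexp hΩ hco (by omega) hcardC z hz hx hxp with h | h
    · exact Or.inl ⟨by omega, h⟩
    · exact Or.inr ⟨by omega, h⟩

/-- If no cyclic subgroup of index `p` is given by a generator. -/
theorem no_cyclic_index {C : Type*} [Group C] (h : ¬ ∃ z : C, (zpowers z).index = p) :
    ∀ D : Subgroup C, IsCyclic D → D.index ≠ p := by
  intro D hD hDi
  apply h
  obtain ⟨g, hg⟩ := IsCyclic.exists_generator (α := D)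
  refine ⟨g.1, ?_⟩
  have h1 : zpowers g.1 = D := by
    apply le_antisymm
    · rw [Subgroup.zpowers_le]
      exact g.2
    · intro a ha
      obtain ⟨k, hk⟩ := Subgroup.mem_zpowers_iff.mp (hg ⟨a, ha⟩)
      exact Subgroup.mem_zpowers_iff.mpr ⟨k, by simpa using congrArg Subtype.val hk⟩
  rw [h1, hDi]

/-- An element outside a proper subgroup. -/
theorem exists_not_mem_of_coatom {M : Subgroup G} (h : IsCoatom M) : ∃ x, x ∉ M := by
  by_contra hcon
  push_neg at hcon
  exact h.1 (eq_top_iff.mpr fun x _ => hcon x)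

/-- **Theorem C.** `p ≥ 5`, all elements of order `p` in a normal subgroup of order `p²`. -/
theorem thmC (hp2 : p ≠ 2) (hp3 : p ≠ 3) (k : ℕ) : ∀ (G : Type u) [Group G] [Finite G], Nat.card G = k →
    IsPGroup p G → ∀ N : Subgroup G, N.Normal → Nat.card N ≤ p ^ 2 → (∀ g : G, g ^ p = 1 → g ∈ N) →
    (∀ n ∈ N, n ^ p = 1) → IsMetacyclic G := by
  induction k using Nat.strong_induction_on with
  | _ k ih =>
  intro G _ _ hk hG N hN hNc hall hexp
  have hpp := hp.out
  by_cases hcyc : IsCyclic G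
  · exact isMetacyclic_of_isCyclic hcyc
  obtain ⟨A, -, hA, hcA⟩ := exists_normal_card_sq hp2 hG hcyc
  have hc : Nat.card N = p ^ 2 := by
    apply le_antisymm hNc
    rw [← hcA]
    exact Subgroup.card_le_of_le (fun a ha => hall a (hA a ha))
  have hΩ : ∀ g ∈ centralizer (N : Set G), g ^ p = 1 → g ∈ N := fun g _ hg => hall g hg
  rcases index_centralizer_cases hG hc hexp with hC | hidx
  · exact metacyclic_of_centralizer_top hp2 hG hc hΩ hC
  have hco : IsCoatom (centralizer (N : Set G)) := isCoatom_of_index_prime (hidx ▸ hpp)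
  haveI hCn : (centralizer (N : Set G)).Normal := normal_of_isCoatom hG hco
  obtain ⟨x, hx⟩ := exists_not_mem_of_coatom hco
  obtain ⟨n, hn⟩ := IsPGroup.iff_card.mp hG
  have hmc := centralizer_isMetacyclic hp2 hG hc hΩ
  have hno : ∀ t : G, t ∉ centralizer (N : Set G) → t ^ p ≠ 1 := by
    intro t ht h
    exact ht (le_centralizer_self (p := p) hc (hall t h))
  by_cases hD : ∃ z : centralizer (N : Set G), (zpowers z).index = p
  · obtain ⟨z, hz⟩ := hD
    rcases caseI_noroot_wrap hp2 hG hc hexp hΩ hco hn z hz hx hno with h | ⟨h, -⟩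
    · exact h
    · exact absurd h hp3
  · obtain ⟨NC, X, Z, hd⟩ := exists_data hp2 hG hc hexp hΩ hco hmc (no_cyclic_index hD) hx
    have hroot : ∀ t : G, t ∉ centralizer (N : Set G) → ∀ z ∈ Z, t ^ p ≠ z.1 := by
      intro t ht z hz h
      obtain ⟨w, hw, hwZ⟩ := exists_w hd
      exact hp3 (no_root hd hp2 ht hz h hw hwZ).1
    obtain ⟨h1, h2, h3⟩ := quot_data hd hroot
    have hlift := isMetacyclic_lift hp2 hG (Zhat hd) (Zhat_le_powerClosure hd hx)
    apply hlift
    have hlt : Nat.card (G ⧸ Zhat hd) < k := by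
      have h4 := Subgroup.card_eq_card_quotient_mul_card_subgroup (Zhat hd)
      rw [card_Zhat hd, hk] at h4
      have h5 : 0 < Nat.card (G ⧸ Zhat hd) := Nat.card_pos
      have := hpp.one_lt
      nlinarith
    refine ih _ hlt (G ⧸ Zhat hd) rfl (hG.to_quotient _) _ ?_ h1 h2 h3
    constructor
    intro q hq r
    apply h2
    rw [conj_pow, h3 q hq, mul_one, mul_inv_cancel]

/-- **The classification of `p`-groups of rank at most two, `p` odd.** -/
theorem main (hp2 : p ≠ 2) (n : ℕ) (hcard : Nat.card G = p ^ n) (hrk : Cfsg.PRankLE p 2 G) :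
    Cfsg.IsMetacyclic G ∨
    (3 ≤ n ∧ ∃ x y z : G, Subgroup.closure ({x, y, z} : Set G) = ⊤ ∧ x ^ p = 1 ∧ y ^ p = 1 ∧ z ^ p ^ (n - 2) = 1 ∧
        x * z = z * x ∧ y * z = z * y ∧ x⁻¹ * y * x = y * z ^ p ^ (n - 3)) ∨
    (4 ≤ n ∧ ∃ (s : ℕ) (x y z : G), (s = 1 ∨ ¬ IsSquare (s : ZMod p)) ∧ Subgroup.closure ({x, y, z} : Set G) = ⊤ ∧
        x ^ p = 1 ∧ y ^ p = 1 ∧ z ^ p ^ (n - 2) = 1 ∧ y * z = z * y ∧ x⁻¹ * y * x = y * z ^ (s * p ^ (n - 3)) ∧
        x⁻¹ * z * x = y * z) ∨
    (p = 3 ∧ 2 ≤ n ∧ (⊤ : Subgroup G).lowerCentralSeries (n - 2) ≠ ⊥) := by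
  have hpp := hp.out
  have hG : IsPGroup p G := IsPGroup.of_card hcard
  by_cases hcyc : IsCyclic G
  · exact Or.inl (isMetacyclic_of_isCyclic hcyc)
  obtain ⟨N, hN, hexp, hc⟩ := exists_normal_card_sq hp2 hG hcyc
  -- the rank hypothesis
  have hΩ : ∀ g ∈ centralizer (N : Set G), g ^ p = 1 → g ∈ N := by
    intro g hg hgp
    by_contra hgN
    -- `⟨N, g⟩` is elementary abelian of order at least `p ^ 3`
    have hNab : ∀ a ∈ N, ∀ b ∈ N, a * b = b * a := by
      intro a ha b hb
      exact (Subgroup.mem_centralizer_iff.mp (le_centralizer_self (p := p) hc hb)) a ha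
    have hgab : ∀ a ∈ N, a * g = g * a := fun a ha => (Subgroup.mem_centralizer_iff.mp hg) a ha
    have hmem : ∀ a ∈ N ⊔ zpowers g, ∃ n ∈ N, ∃ i : ℕ, a = n * g ^ i := by
      intro a ha
      rw [Subgroup.mem_sup_of_normal_left] at ha
      obtain ⟨n, hn, b, hb, rfl⟩ := ha
      obtain ⟨i, rfl⟩ := Cfsg.Agent.Lib.Metacyclic.Basic.exists_natPow_of_mem_zpowers hb
      exact ⟨n, hn, i, rfl⟩
    have hcommA : ∀ a ∈ N ⊔ zpowers g, ∀ b ∈ N ⊔ zpowers g, a * b = b * a := by
      intro a ha b hb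
      obtain ⟨n₁, hn₁, i, rfl⟩ := hmem a ha
      obtain ⟨n₂, hn₂, j, rfl⟩ := hmem b hb
      have h1 : Commute n₁ n₂ := hNab _ hn₁ _ hn₂
      have h2 : ∀ (m : G), m ∈ N → ∀ i : ℕ, Commute m (g ^ i) := fun m hm i =>
        Commute.pow_right (hgab m hm) i
      have h3 : Commute (n₁ * g ^ i) (n₂ * g ^ j) := by
        apply Commute.mul_left
        · exact Commute.mul_right h1 (h2 n₁ hn₁ j)
        · exact Commute.mul_right (h2 n₂ hn₂ i).symm ((Commute.refl g).pow_pow i j)
      exact h3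
    have hpowA : ∀ a ∈ N ⊔ zpowers g, a ^ p = 1 := by
      intro a ha
      obtain ⟨n₁, hn₁, i, rfl⟩ := hmem a ha
      have h2 : Commute n₁ (g ^ i) := Commute.pow_right (hgab n₁ hn₁) i
      rw [h2.mul_pow, hexp n₁ hn₁, one_mul, ← pow_mul, mul_comm, pow_mul, hgp, one_pow]
    have hA := hrk (N ⊔ zpowers g) ⟨⟨fun a b => Subtype.ext (hcommA a.1 a.2 b.1 b.2)⟩⟩ hpowA
    have hlt : N < N ⊔ zpowers g := by
      refine lt_of_le_of_ne le_sup_left ?_
      intro h
      apply hgN
      rw [h]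
      exact Subgroup.mem_sup_right (Subgroup.mem_zpowers g)
    have h4 := card_lt_of_lt hlt
    rw [hc] at h4
    omega
  rcases index_centralizer_cases hG hc hexp with hC | hidx
  · exact Or.inl (metacyclic_of_centralizer_top hp2 hG hc hΩ hC)
  have hco : IsCoatom (centralizer (N : Set G)) := isCoatom_of_index_prime (hidx ▸ hpp)
  haveI hCn : (centralizer (N : Set G)).Normal := normal_of_isCoatom hG hco
  obtain ⟨x, hx⟩ := exists_not_mem_of_coatom hco
  have hmc := centralizer_isMetacyclic hp2 hG hc hΩ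
  by_cases hD : ∃ z : centralizer (N : Set G), (zpowers z).index = p
  · obtain ⟨z, hz⟩ := hD
    by_cases hroot : ∃ t : G, t ∉ centralizer (N : Set G) ∧ t ^ p = 1
    · obtain ⟨t, ht, htp⟩ := hroot
      exact Or.inr (caseI_root_wrap hp2 hG hc hexp hΩ hco hcard z hz ht htp |>.elim
        (fun h => Or.inl h) (fun h => Or.inr (Or.inl h)))
    · push_neg at hroot
      rcases caseI_noroot_wrap hp2 hG hc hexp hΩ hco hcard z hz hx hroot with h | ⟨h1, h2, h3⟩
      · exact Or.inl h
      · refine Or.inr (Or.inr (Or.inr ⟨h1, by omega, ?_⟩))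
        rw [h2]
        exact h3
  · obtain ⟨NC, X, Z, hd⟩ := exists_data hp2 hG hc hexp hΩ hco hmc (no_cyclic_index hD) hx
    by_cases hp3 : p = 3
    · by_cases hA : ∀ g ∈ Ysub hd, g⁻¹ * sig x g ∈ Z
      · -- Case A
        left
        have hA' := all_trivial hd hco hx hA
        have hroot : ∀ t : G, t ∉ centralizer (N : Set G) → ∀ z ∈ Z, t ^ p ≠ z.1 := by
          intro t ht z hz h
          obtain ⟨w, hw, hwZ⟩ := exists_w hd
          have h1 := (no_root hd hp2 ht hz h hw hwZ).2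
          apply h1
          apply hA' t
          rw [mem_Ysub, delta_pow hd.hO _ hw]
          exact hd.delta t ht _ ((hd.hO.memX w).mp hw)
        obtain ⟨h1, h2, -⟩ := quot_data hd hroot
        apply isMetacyclic_lift hp2 hG (Zhat hd) (Zhat_le_powerClosure hd hx)
        exact RankTwoCentral.main hp2 _ _ rfl (hG.to_quotient _) _ (Yhat_central hd hA') h1 h2
      · -- Case B
        push_neg at hA
        obtain ⟨g, hg, hf⟩ := hA
        have hcl := class_of_caseB hd hG hco hcard hx hg hf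
        have hn2 : 2 ≤ n := by
          by_contra hn2
          have h1 : n ≤ 1 := by omega
          have h2 : p ^ n ≤ p ^ 1 := Nat.pow_le_pow_right hpp.pos h1
          rw [← hcard, pow_one] at h2
          have h3 := Subgroup.card_le_card_group N
          rw [hc] at h3
          have := hpp.one_lt
          nlinarith
        refine Or.inr (Or.inr (Or.inr ⟨hp3, hn2, ?_⟩))
        intro hbot
        haveI := hG.isNilpotent
        rw [Subgroup.lowerCentralSeries_eq_bot_iff_nilpotencyClass_le, hcl] at hbot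
        omega
    · -- `p ≥ 5`
      left
      have hroot : ∀ t : G, t ∉ centralizer (N : Set G) → t ^ p ≠ 1 := by
        intro t ht h
        obtain ⟨w, hw, hwZ⟩ := exists_w hd
        exact hp3 (no_root hd hp2 ht Z.one_mem h hw hwZ).1
      refine thmC hp2 hp3 _ G rfl hG N hN hc.le ?_ hexp
      intro g hg
      by_cases hgC : g ∈ centralizer (N : Set G)
      · exact hΩ g hgC hg
      · exact absurd hg (hroot g hgC)

end Cfsg.Agent.Lib.PGroups.RankTwoMain
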