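import Cfsg.Prelude.Def_OddOrderLocal
import Cfsg.Agent.Lib.Metacyclic.Basic
import Cfsg.Agent.Lib.PGroups.ClassTwo
import Cfsg.Agent.Lib.PGroups.LowerCentral
import Cfsg.Agent.Lib.PGroups.CentralizerIndex
import Cfsg.Agent.Lib.Core.CoprimeMap
import Cfsg.Agent.Lib.PGroups.MetabelianReplacement

/-!
# Finite 2-groups of sectional 2-rank at most two are metacyclic

Blackburn's reduction: if `G / N` is metacyclic with `N` central of exponent `p`, contained in
`Φ(G') K₃(G)`, then `G` is metacyclic.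
-/

set_option autoImplicit false

namespace Cfsg.Agent.Lib.PGroups.SectionalTwo

open Subgroup
open Cfsg.Agent.Lib.TwoFusion.SecRank (SecBd exists_mul_of_mem_sup)
open Cfsg.Agent.Lib.Core.CoprimeMap (mem_normalizer_of_forall_conj_mem)
open scoped commutatorElement

universe u

variable {G : Type u} [Group G]

/-- The subgroup `Φ(G') K₃(G)`. -/
def blackburnSub (p : ℕ) (G : Type u) [Group G] : Subgroup G :=
  normalClosure ({x | ∃ v ∈ commutator G, ∃ g : G, x = ⁅v, g⁆} ∪ {x | ∃ v ∈ commutator G, x = v ^ p})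

instance (p : ℕ) : (blackburnSub p G).Normal := by
  unfold blackburnSub
  infer_instance

/-- Blackburn's step. -/
theorem metacyclic_of_quot [Finite G] {p : ℕ} [hp : Fact p.Prime] (hG : IsPGroup p G)
    (N : Subgroup G) [N.Normal] (hNc : N ≤ center G) (hNp : ∀ n ∈ N, n ^ p = 1)
    (hND : N ≤ blackburnSub p G) (hm : Cfsg.IsMetacyclic (G ⧸ N)) : Cfsg.IsMetacyclic G := by
  obtain ⟨M, hMn, hMc, hQc⟩ := hm
  let π := QuotientGroup.mk' N
  have hπ : Function.Surjective π := QuotientGroup.mk'_surjective N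
  let A : Subgroup G := M.comap π
  have hAn : A.Normal := Subgroup.Normal.comap hMn π
  obtain ⟨⟨abar, habar⟩, hgen⟩ := hMc.exists_generator
  obtain ⟨a, haa⟩ := hπ abar
  obtain ⟨q, hq⟩ := hQc.exists_generator
  obtain ⟨bbar, hbbar⟩ := QuotientGroup.mk_surjective q
  obtain ⟨b, hbb⟩ := hπ bbar
  have hcen : ∀ n ∈ N, ∀ g : G, g * n = n * g := fun n hn g => mem_center_iff.mp (hNc hn) g
  have haA : a ∈ A := by
    change π a ∈ M
    rw [haa]
    exact habar
  -- elements of `A`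
  have h1 : ∀ x ∈ A, ∃ i : ℤ, ∃ n ∈ N, x = a ^ i * n := by
    intro x hx
    obtain ⟨i, hi⟩ := Subgroup.mem_zpowers_iff.1 (hgen ⟨π x, hx⟩)
    have hi' : abar ^ i = π x := congrArg Subtype.val hi
    refine ⟨i, (a ^ i)⁻¹ * x, ?_, by group⟩
    rw [← QuotientGroup.eq_one_iff]
    change π ((a ^ i)⁻¹ * x) = 1
    rw [map_mul, map_inv, map_zpow, haa, hi']
    group
  have h2 : ∀ g : G, ∃ j : ℤ, (b ^ j)⁻¹ * g ∈ A := by
    intro g
    obtain ⟨j, hj⟩ := Subgroup.mem_zpowers_iff.1 (hq (QuotientGroup.mk (π g)))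
    refine ⟨j, ?_⟩
    change π ((b ^ j)⁻¹ * g) ∈ M
    rw [map_mul, map_inv, map_zpow, hbb, ← QuotientGroup.eq, ← hj, ← hbbar, QuotientGroup.mk_zpow]
  have hAc : ∀ x ∈ A, ∀ y ∈ A, x * y = y * x := by
    intro x hx y hy
    obtain ⟨i, n, hn, rfl⟩ := h1 x hx
    obtain ⟨j, m, hm, rfl⟩ := h1 y hy
    calc a ^ i * n * (a ^ j * m) = a ^ i * (a ^ j * n) * m := by
          rw [hcen n hn (a ^ j)]; group
      _ = a ^ j * (a ^ i * m) * n := by
          rw [show a ^ i * (a ^ j * n) * m = a ^ (i + j) * (n * m) by rw [zpow_add]; group]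
          rw [show a ^ j * (a ^ i * m) * n = a ^ (j + i) * (m * n) by rw [zpow_add]; group]
          rw [add_comm, hcen m hm n]
      _ = a ^ j * (m * a ^ i) * n := by rw [hcen m hm (a ^ i)]
      _ = _ := by group
  set c := a * b * a⁻¹ * b⁻¹ with hc
  have hbA : ∀ x ∈ A, b * x * b⁻¹ ∈ A := fun x hx => hAn.conj_mem x hx b
  have hc' : c = a * (b * a⁻¹ * b⁻¹) := by rw [hc]; group
  have hcA : c ∈ A := by
    rw [hc']
    exact A.mul_mem haA (hbA _ (A.inv_mem haA))
  -- commutators with `b`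
  have h3 : ∀ x ∈ A, x * b * x⁻¹ * b⁻¹ ∈ zpowers c := by
    intro x hx
    obtain ⟨i, n, hn, rfl⟩ := h1 x hx
    have h4 : a ^ i * n * b * (a ^ i * n)⁻¹ * b⁻¹ = c ^ i := by
      have hcomm : Commute a (b * a⁻¹ * b⁻¹) := hAc _ haA _ (hbA _ (A.inv_mem haA))
      rw [hc', hcomm.mul_zpow]
      have h5 : (b * a⁻¹ * b⁻¹) ^ i = b * (a ^ i)⁻¹ * b⁻¹ := by
        rw [← MulAut.conj_apply, ← map_zpow, MulAut.conj_apply, inv_zpow]
      rw [h5]
      have h6 : n * b = b * n := (hcen n hn b).symm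
      calc a ^ i * n * b * (a ^ i * n)⁻¹ * b⁻¹ = a ^ i * (n * b) * n⁻¹ * (a ^ i)⁻¹ * b⁻¹ := by group
        _ = _ := by rw [h6]; group
    rw [h4]
    exact zpow_mem (mem_zpowers c) i
  -- `c` generates a normal subgroup
  have hZn : (zpowers c).Normal := by
    rw [← normalizer_eq_top_iff, eq_top_iff]
    intro g _
    obtain ⟨j, hj⟩ := h2 g
    have hb_nor : b ∈ normalizer (zpowers c : Set G) := by
      apply mem_normalizer_of_forall_conj_mem
      intro v hv
      obtain ⟨k, rfl⟩ := Subgroup.mem_zpowers_iff.1 hv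
      rw [← MulAut.conj_apply, map_zpow]
      apply zpow_mem
      rw [MulAut.conj_apply]
      have h5 := h3 _ (hbA a haA)
      have h6 : b * c * b⁻¹ = b * a * b⁻¹ * b * (b * a * b⁻¹)⁻¹ * b⁻¹ := by
        rw [hc]; group
      rw [h6]
      exact h5
    have hx_nor : ∀ x ∈ A, x ∈ normalizer (zpowers c : Set G) := by
      intro x hx
      apply mem_normalizer_of_forall_conj_mem
      intro v hv
      obtain ⟨k, rfl⟩ := Subgroup.mem_zpowers_iff.1 hv
      have h5 : x * c ^ k * x⁻¹ = c ^ k := by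
        have : x * c ^ k = c ^ k * x := hAc _ hx _ (zpow_mem hcA k)
        rw [this]; group
      rw [h5]
      exact hv
    have h5 : g = b ^ j * ((b ^ j)⁻¹ * g) := by group
    rw [h5]
    exact mul_mem (zpow_mem hb_nor j) (hx_nor _ hj)
  -- commutators are powers of `c`
  have hcomm : commutator G ≤ zpowers c := by
    rw [_root_.commutator_def, commutator_le]
    intro g _ h _
    let ρ := QuotientGroup.mk' (zpowers c)
    have hρ1 : ∀ x ∈ A, Commute (ρ x) (ρ b) := by
      intro x hx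
      have h5 : x * b * x⁻¹ * b⁻¹ ∈ (ρ.ker) := by
        rw [QuotientGroup.ker_mk']
        exact h3 x hx
      rw [MonoidHom.mem_ker, map_mul, map_mul, map_mul, map_inv, map_inv] at h5
      change ρ x * ρ b = ρ b * ρ x
      calc ρ x * ρ b = (ρ x * ρ b * (ρ x)⁻¹ * (ρ b)⁻¹) * (ρ b * ρ x) := by group
        _ = _ := by rw [h5, one_mul]
    have hρ2 : ∀ x ∈ A, ∀ y ∈ A, Commute (ρ x) (ρ y) := by
      intro x hx y hy
      change ρ x * ρ y = ρ y * ρ x
      rw [← map_mul, ← map_mul, hAc x hx y hy]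
    obtain ⟨j, hj⟩ := h2 g
    obtain ⟨l, hl⟩ := h2 h
    have hg : ρ g = ρ b ^ j * ρ ((b ^ j)⁻¹ * g) := by
      rw [← map_zpow, ← map_mul]; congr 1; group
    have hh : ρ h = ρ b ^ l * ρ ((b ^ l)⁻¹ * h) := by
      rw [← map_zpow, ← map_mul]; congr 1; group
    have hC : Commute (ρ g) (ρ h) := by
      rw [hg, hh]
      apply Commute.mul_left
      · apply Commute.mul_right
        · exact (Commute.refl _).zpow_zpow _ _
        · exact ((hρ1 _ hl).symm.zpow_left j)
      · apply Commute.mul_right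
        · exact ((hρ1 _ hj).zpow_right l)
        · exact hρ2 _ hj _ hl
    have h5 : ρ ⁅g, h⁆ = 1 := by
      rw [commutatorElement_def, map_mul, map_mul, map_mul, map_inv, map_inv]
      rw [show ρ g * ρ h = ρ h * ρ g from hC]
      group
    have h6 : ⁅g, h⁆ ∈ ρ.ker := h5
    rwa [QuotientGroup.ker_mk'] at h6
  -- the subgroup generated by `c ^ p`
  have hwk : ∀ g : G, ∃ w : ℕ, w ≡ 1 [MOD p] ∧ g * c * g⁻¹ = c ^ w :=
    Cfsg.Agent.Lib.Metacyclic.Basic.exists_conj_eq_pow hG c hZn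
  have hZpn : (zpowers (c ^ p)).Normal := by
    constructor
    intro x hx g
    obtain ⟨k, rfl⟩ := Subgroup.mem_zpowers_iff.1 hx
    obtain ⟨w, -, hw⟩ := hwk g
    rw [← MulAut.conj_apply, map_zpow, map_pow, MulAut.conj_apply, hw]
    apply zpow_mem
    rw [← pow_mul, mul_comm, pow_mul]
    exact Subgroup.pow_mem _ (mem_zpowers _) _
  have hD : blackburnSub p G ≤ zpowers (c ^ p) := by
    apply normalClosure_le_normal
    rintro x (⟨v, hv, g, rfl⟩ | ⟨v, hv, rfl⟩)
    · obtain ⟨i, rfl⟩ := Subgroup.mem_zpowers_iff.1 (hcomm hv)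
      obtain ⟨w, hw, hwc⟩ := hwk g
      have hdvd : (p : ℤ) ∣ 1 - w := by
        have := (Nat.modEq_iff_dvd.1 hw)
        simpa using this
      obtain ⟨e, he⟩ := hdvd
      have h5 : ⁅c ^ i, g⁆ = (c ^ p) ^ (e * i) := by
        rw [commutatorElement_def]
        have h6 : g * (c ^ i)⁻¹ * g⁻¹ = (c ^ w) ^ (-i) := by
          calc g * (c ^ i)⁻¹ * g⁻¹ = MulAut.conj g (c ^ (-i)) := by
                rw [zpow_neg, MulAut.conj_apply]
            _ = (MulAut.conj g c) ^ (-i) := map_zpow _ _ _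
            _ = _ := by rw [MulAut.conj_apply, hwc]
        rw [mul_assoc, mul_assoc, ← mul_assoc g, h6]
        rw [← zpow_natCast c w, ← zpow_mul, ← zpow_add, ← zpow_natCast c p, ← zpow_mul]
        congr 1
        have : (i : ℤ) + (w : ℤ) * (-i) = (p : ℤ) * (e * i) := by
          linear_combination i * he
        exact this
      rw [h5]
      exact zpow_mem (mem_zpowers _) _
    · obtain ⟨i, rfl⟩ := Subgroup.mem_zpowers_iff.1 (hcomm hv)
      have h5 : (c ^ i) ^ p = (c ^ p) ^ i := by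
        rw [← zpow_natCast (c ^ i) p, ← zpow_natCast c p, ← zpow_mul, ← zpow_mul, mul_comm]
      rw [h5]
      exact zpow_mem (mem_zpowers _) _
  -- `c ^ p` is a power of `a`
  have hcpa : c ^ p ∈ zpowers a := by
    obtain ⟨i, n, hn, hcn⟩ := h1 c hcA
    have h5 : c ^ p = (a ^ i) ^ p := by
      rw [hcn]
      have hcm : Commute (a ^ i) n := (hcen n hn _)
      rw [hcm.mul_pow, hNp n hn, mul_one]
    rw [h5]
    exact Subgroup.pow_mem _ (zpow_mem (mem_zpowers a) i) _
  have hNa : N ≤ zpowers a := by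
    intro n hn
    have h5 := hD (hND hn)
    obtain ⟨k, rfl⟩ := Subgroup.mem_zpowers_iff.1 h5
    exact zpow_mem hcpa k
  have hAa : A = zpowers a := by
    apply le_antisymm
    · intro x hx
      obtain ⟨i, n, hn, rfl⟩ := h1 x hx
      exact mul_mem (zpow_mem (mem_zpowers a) i) (hNa hn)
    · rw [zpowers_le]
      exact haA
  haveI hZa : (zpowers a).Normal := hAa ▸ hAn
  refine ⟨zpowers a, hZa, inferInstance, ⟨⟨QuotientGroup.mk b, fun x => ?_⟩⟩⟩
  obtain ⟨g, rfl⟩ := QuotientGroup.mk_surjective x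
  obtain ⟨j, hj⟩ := h2 g
  rw [hAa] at hj
  refine Subgroup.mem_zpowers_iff.2 ⟨j, ?_⟩
  rw [← QuotientGroup.mk_zpow, QuotientGroup.eq]
  exact hj

/-- Quotients inherit the bound. -/
theorem secBd_quot [Finite G] {k : ℕ} (h : SecBd k G) (N : Subgroup G) [N.Normal] :
    SecBd k (G ⧸ N) := by
  intro H K hKH hc hs
  let π := QuotientGroup.mk' N
  have h1 := h (H.comap π) (K.comap π) (Subgroup.comap_mono hKH) (by
      intro x hx y hy
      change π _ ∈ K
      simpa [map_mul, map_inv] using hc _ hx _ hy)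
    (by
      intro x hx
      change π _ ∈ K
      simpa using hs _ hx)
  rw [Cfsg.Agent.Lib.PGroups.MetabelianReplacement.card_comap_mk,
    Cfsg.Agent.Lib.PGroups.MetabelianReplacement.card_comap_mk] at h1
  have hpos : 0 < Nat.card N := Nat.card_pos
  have h2 : Nat.card N * Nat.card H ≤ Nat.card N * (2 ^ k * Nat.card K) := by
    calc _ ≤ _ := h1
      _ = _ := by ring
  exact Nat.le_of_mul_le_mul_left h2 hpos

/-- Two generators. -/
theorem exists_generators [Finite G] (hG : IsPGroup 2 G) (hS : SecBd 2 G) :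
    ∃ x y : G, closure ({x, y} : Set G) = ⊤ := by
  haveI : Fact (Nat.Prime 2) := ⟨Nat.prime_two⟩
  have hΦ : Nat.card (⊤ : Subgroup G) ≤ 2 ^ 2 * Nat.card (frattini G) :=
    hS ⊤ (frattini G) le_top
      (fun x _ y _ => Cfsg.Agent.Lib.PGroups.Basic.commutator_le_frattini hG
        (Subgroup.commutator_mem_commutator (Subgroup.mem_top x) (Subgroup.mem_top y)))
      (fun x _ => by
        rw [← sq]
        exact Cfsg.Agent.Lib.PGroups.Basic.pow_mem_frattini hG x)
  by_cases h1 : frattini G = ⊤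
  · have h2 : (⊥ : Subgroup G) = ⊤ := frattini_nongenerating (by rw [h1, sup_top_eq])
    refine ⟨1, 1, ?_⟩
    rw [eq_top_iff, ← h2]
    exact bot_le
  obtain ⟨x, hx⟩ : ∃ x, x ∉ frattini G := by
    by_contra hno
    push Not at hno
    exact h1 (eq_top_iff.2 (fun g _ => hno g))
  have hlt1 : frattini G < closure ({x} : Set G) ⊔ frattini G :=
    lt_of_le_of_ne le_sup_right (fun h => hx (by
      rw [h]
      exact Subgroup.mem_sup_left (subset_closure rfl)))
  have hc1 := Cfsg.Agent.Lib.PGroups.LowerCentral.mul_card_le_of_lt hG hlt1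
  by_cases h2 : closure ({x} : Set G) ⊔ frattini G = ⊤
  · refine ⟨x, x, frattini_nongenerating ?_⟩
    rw [eq_top_iff, ← h2]
    exact sup_le_sup_right (Subgroup.closure_mono (by simp)) _
  obtain ⟨y, hy⟩ : ∃ y, y ∉ closure ({x} : Set G) ⊔ frattini G := by
    by_contra hno
    push Not at hno
    exact h2 (eq_top_iff.2 (fun g _ => hno g))
  have hlt2 : closure ({x} : Set G) ⊔ frattini G
      < closure ({y} : Set G) ⊔ (closure ({x} : Set G) ⊔ frattini G) :=
    lt_of_le_of_ne le_sup_right (fun h => hy (by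
      rw [h]
      exact Subgroup.mem_sup_left (subset_closure rfl)))
  have hc2 := Cfsg.Agent.Lib.PGroups.LowerCentral.mul_card_le_of_lt hG hlt2
  refine ⟨x, y, frattini_nongenerating ?_⟩
  have h3 : closure ({y} : Set G) ⊔ (closure ({x} : Set G) ⊔ frattini G) = ⊤ := by
    apply Subgroup.eq_top_of_le_card
    rw [Subgroup.card_top] at hΦ
    omega
  rw [eq_top_iff, ← h3]
  apply sup_le
  · exact le_sup_of_le_left (Subgroup.closure_mono (by simp))
  · apply sup_le
    · exact le_sup_of_le_left (Subgroup.closure_mono (by simp))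
    · exact le_sup_right

theorem exists_basis_aux {B : Type*} [CommGroup B] [Finite B] (hB : IsPGroup 2 B) (x y : B)
    (hle : orderOf y ≤ orderOf x) (hgen : ∀ g : B, ∃ i j : ℤ, g = x ^ i * y ^ j) :
    ∃ a b : B, (∃ m : ℕ, orderOf a = 2 ^ m) ∧ (∃ n : ℕ, orderOf b = 2 ^ n) ∧
      (∀ g, ∃ i j : ℤ, g = a ^ i * b ^ j) ∧ (∀ i j : ℤ, a ^ i * b ^ j = 1 → a ^ i = 1 ∧ b ^ j = 1) := by
  obtain ⟨m, hm⟩ := IsPGroup.iff_orderOf.1 hB x
  obtain ⟨l, hl⟩ := IsPGroup.iff_orderOf.1 hB y
  have hlm : l ≤ m := by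
    rw [hm, hl] at hle
    exact (Nat.pow_le_pow_iff_right (by norm_num)).1 hle
  have hQ : IsPGroup 2 (B ⧸ zpowers x) := hB.to_quotient _
  obtain ⟨n, hn⟩ := IsPGroup.iff_orderOf.1 hQ (QuotientGroup.mk y)
  have hmem : y ^ (2 ^ n) ∈ zpowers x := by
    rw [← QuotientGroup.eq_one_iff, QuotientGroup.mk_pow, ← hn, pow_orderOf_eq_one]
  obtain ⟨t, ht⟩ := Subgroup.mem_zpowers_iff.1 hmem
  have hy2m : y ^ (2 ^ m) = 1 := by
    rw [← orderOf_dvd_iff_pow_eq_one, hl]
    exact pow_dvd_pow 2 hlm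
  have hnm : n ≤ m := by
    have h1 : orderOf (QuotientGroup.mk y : B ⧸ zpowers x) ∣ 2 ^ m := by
      rw [orderOf_dvd_iff_pow_eq_one, ← QuotientGroup.mk_pow, hy2m]
      rfl
    rw [hn] at h1
    exact (Nat.pow_dvd_pow_iff_le_right (by norm_num)).1 h1
  have h2m : (2 : ℤ) ^ m = 2 ^ n * 2 ^ (m - n) := by
    rw [← pow_add]
    congr 1
    omega
  have hdvd : ((2 : ℤ) ^ n) ∣ t := by
    have h1 : x ^ (t * 2 ^ (m - n)) = 1 := by
      rw [zpow_mul, ht]
      have : (y ^ (2 ^ n)) ^ ((2 : ℤ) ^ (m - n)) = y ^ (2 ^ m) := by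
        rw [← zpow_natCast y (2 ^ m), ← zpow_natCast y (2 ^ n), ← zpow_mul]
        congr 1
        push_cast
        linear_combination -h2m
      rw [this, hy2m]
    have h2 := orderOf_dvd_iff_zpow_eq_one.2 h1
    rw [hm] at h2
    push_cast at h2
    rw [h2m] at h2
    exact (mul_dvd_mul_iff_right (by positivity)).1 h2
  obtain ⟨s, rfl⟩ := hdvd
  have hbj : ∀ j : ℤ, (y * x ^ (-s)) ^ j = y ^ j * (x ^ (s * j))⁻¹ := by
    intro j
    rw [mul_zpow, ← zpow_mul, neg_mul, zpow_neg]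
  refine ⟨x, y * x ^ (-s), ⟨m, hm⟩, ?_, ?_, ?_⟩
  · exact IsPGroup.iff_orderOf.1 hB _
  · intro g
    obtain ⟨i, j, rfl⟩ := hgen g
    refine ⟨i + s * j, j, ?_⟩
    rw [hbj, zpow_add, mul_assoc, mul_left_comm (x ^ (s * j)), mul_inv_cancel, mul_one]
  · intro i j hij
    rw [hbj] at hij
    have h1 : y ^ j ∈ zpowers x := by
      have h2 : y ^ j * ((x ^ (s * j))⁻¹ * x ^ i) = 1 := by
        rw [← hij]
        ac_rfl
      rw [eq_inv_of_mul_eq_one_left h2]
      exact inv_mem (mul_mem (inv_mem (zpow_mem (mem_zpowers x) _)) (zpow_mem (mem_zpowers x) _))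
    have h2 : (QuotientGroup.mk y : B ⧸ zpowers x) ^ j = 1 := by
      rw [← QuotientGroup.mk_zpow, QuotientGroup.eq_one_iff]
      exact h1
    have h3 := orderOf_dvd_iff_zpow_eq_one.2 h2
    rw [hn] at h3
    push_cast at h3
    obtain ⟨e, he⟩ := h3
    have hy : y ^ ((2 : ℤ) ^ n) = x ^ (2 ^ n * s) := by
      rw [ht, ← zpow_natCast]
      push_cast
      rfl
    have h4 : (y * x ^ (-s)) ^ ((2 : ℤ) ^ n) = 1 := by
      rw [hbj, hy, mul_comm (2 ^ n) s, mul_inv_cancel]
    have h5 : (y * x ^ (-s)) ^ j = 1 := by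
      rw [he, zpow_mul, h4, one_zpow]
    rw [← hbj, h5, mul_one] at hij
    exact ⟨hij, h5⟩

/-- A basis of an abelian 2-group with two generators. -/
theorem exists_basis {B : Type*} [CommGroup B] [Finite B] (hB : IsPGroup 2 B) (x y : B)
    (hgen : ∀ g : B, ∃ i j : ℤ, g = x ^ i * y ^ j) :
    ∃ a b : B, (∃ m : ℕ, orderOf a = 2 ^ m) ∧ (∃ n : ℕ, orderOf b = 2 ^ n) ∧
      (∀ g, ∃ i j : ℤ, g = a ^ i * b ^ j) ∧ (∀ i j : ℤ, a ^ i * b ^ j = 1 → a ^ i = 1 ∧ b ^ j = 1) := by
  rcases le_total (orderOf y) (orderOf x) with h | h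
  · exact exists_basis_aux hB x y h hgen
  · refine exists_basis_aux hB y x h (fun g => ?_)
    obtain ⟨i, j, hg⟩ := hgen g
    exact ⟨j, i, by rw [hg, mul_comm]⟩

/-- Three independent commuting involutions contradict the rank bound. -/
theorem false_of_three_inv [Finite G] (hG : IsPGroup 2 G) (hS : SecBd 2 G) {u v w : G}
    (hu : u ^ 2 = 1) (hv : v ^ 2 = 1) (hw : w ^ 2 = 1) (huv : Commute u v) (huw : Commute u w)
    (hvw : Commute v w) (h1 : u ≠ 1) (h2 : ∀ i : ℤ, v ≠ u ^ i) (h3 : ∀ i j : ℤ, w ≠ u ^ i * v ^ j) :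
    False := by
  haveI : Fact (Nat.Prime 2) := ⟨Nat.prime_two⟩
  let A₁ := zpowers u
  let A₂ := A₁ ⊔ zpowers v
  let A₃ := A₂ ⊔ zpowers w
  have c12 : ∀ a ∈ A₁, ∀ b ∈ zpowers v, a * b = b * a := by
    intro a ha b hb
    obtain ⟨i, rfl⟩ := Subgroup.mem_zpowers_iff.1 ha
    obtain ⟨j, rfl⟩ := Subgroup.mem_zpowers_iff.1 hb
    exact huv.zpow_zpow i j
  have f2 : ∀ x ∈ A₂, ∃ i j : ℤ, x = u ^ i * v ^ j := by
    intro x hx
    obtain ⟨d, hd, b, hb, rfl⟩ := exists_mul_of_mem_sup c12 hx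
    obtain ⟨i, rfl⟩ := Subgroup.mem_zpowers_iff.1 hd
    obtain ⟨j, rfl⟩ := Subgroup.mem_zpowers_iff.1 hb
    exact ⟨i, j, rfl⟩
  have c23 : ∀ a ∈ A₂, ∀ b ∈ zpowers w, a * b = b * a := by
    intro a ha b hb
    obtain ⟨i, j, rfl⟩ := f2 a ha
    obtain ⟨k, rfl⟩ := Subgroup.mem_zpowers_iff.1 hb
    exact ((huw.zpow_zpow i k).mul_left (hvw.zpow_zpow j k))
  have f3 : ∀ x ∈ A₃, ∃ i j k : ℤ, x = u ^ i * v ^ j * w ^ k := by
    intro x hx
    obtain ⟨d, hd, b, hb, rfl⟩ := exists_mul_of_mem_sup c23 hx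
    obtain ⟨i, j, rfl⟩ := f2 d hd
    obtain ⟨k, rfl⟩ := Subgroup.mem_zpowers_iff.1 hb
    exact ⟨i, j, k, rfl⟩
  have lt1 : (⊥ : Subgroup G) < A₁ :=
    lt_of_le_of_ne bot_le (fun h => h1 (by
      have : u ∈ A₁ := mem_zpowers u
      rw [← h] at this
      exact this))
  have lt2 : A₁ < A₂ :=
    lt_of_le_of_ne le_sup_left (fun h => by
      have h4 : v ∈ A₂ := Subgroup.mem_sup_right (mem_zpowers v)
      rw [← h] at h4
      obtain ⟨i, hi⟩ := Subgroup.mem_zpowers_iff.1 h4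
      exact h2 i hi.symm)
  have lt3 : A₂ < A₃ :=
    lt_of_le_of_ne le_sup_left (fun h => by
      have h4 : w ∈ A₃ := Subgroup.mem_sup_right (mem_zpowers w)
      rw [← h] at h4
      obtain ⟨i, j, hij⟩ := f2 w h4
      exact h3 i j hij)
  have k1 := Cfsg.Agent.Lib.PGroups.LowerCentral.mul_card_le_of_lt hG lt1
  have k2 := Cfsg.Agent.Lib.PGroups.LowerCentral.mul_card_le_of_lt hG lt2
  have k3 := Cfsg.Agent.Lib.PGroups.LowerCentral.mul_card_le_of_lt hG lt3
  rw [Subgroup.card_bot] at k1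
  have hcomm : ∀ x ∈ A₃, ∀ y ∈ A₃, x * y = y * x := by
    intro x hx y hy
    obtain ⟨i, j, k, rfl⟩ := f3 x hx
    obtain ⟨r, s, t, rfl⟩ := f3 y hy
    apply Commute.mul_left
    · apply Commute.mul_left
      · exact ((Commute.refl u).zpow_zpow i r).mul_right (huv.zpow_zpow i s) |>.mul_right (huw.zpow_zpow i t)
      · exact ((huv.symm.zpow_zpow j r).mul_right ((Commute.refl v).zpow_zpow j s)).mul_right (hvw.zpow_zpow j t)
    · exact ((huw.symm.zpow_zpow k r).mul_right (hvw.symm.zpow_zpow k s)).mul_right ((Commute.refl w).zpow_zpow k t)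
  have hbd := hS A₃ ⊥ bot_le
    (fun x hx y hy => by
      rw [Subgroup.mem_bot, hcomm x hx y hy]
      group)
    (fun x hx => by
      obtain ⟨i, j, k, rfl⟩ := f3 x hx
      rw [Subgroup.mem_bot]
      have e1 : (u ^ i) ^ 2 = 1 := by rw [← zpow_natCast, ← zpow_mul, mul_comm, zpow_mul, zpow_natCast, hu, one_zpow]
      have e2 : (v ^ j) ^ 2 = 1 := by rw [← zpow_natCast, ← zpow_mul, mul_comm, zpow_mul, zpow_natCast, hv, one_zpow]
      have e3 : (w ^ k) ^ 2 = 1 := by rw [← zpow_natCast, ← zpow_mul, mul_comm, zpow_mul, zpow_natCast, hw, one_zpow]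
      have hc1 : Commute (u ^ i) (v ^ j) := huv.zpow_zpow i j
      have hc2 : Commute (u ^ i * v ^ j) (w ^ k) := (huw.zpow_zpow i k).mul_left (hvw.zpow_zpow j k)
      rw [← sq, hc2.mul_pow, hc1.mul_pow, e1, e2, e3]
      simp)
  rw [Subgroup.card_bot] at hbd
  omega

theorem normal_of_commutator_le {N : Subgroup G} (h : commutator G ≤ N) : N.Normal := by
  constructor
  intro g hg w
  have h1 : w * g * w⁻¹ = ⁅w, g⁆ * g := by
    simp [commutatorElement_def]
  rw [h1]
  exact N.mul_mem (h (Subgroup.commutator_mem_commutator (Subgroup.mem_top w) (Subgroup.mem_top g)))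
    hg

theorem metacyclic_of {X w : G} (hn : (zpowers X).Normal)
    (hq : ∀ g : G, ∃ j : ℤ, (g : G ⧸ zpowers X) = (w : G ⧸ zpowers X) ^ j) :
    Cfsg.IsMetacyclic G := by
  refine ⟨zpowers X, hn, inferInstance, ⟨⟨QuotientGroup.mk w, fun x => ?_⟩⟩⟩
  obtain ⟨g, rfl⟩ := QuotientGroup.mk_surjective x
  obtain ⟨j, hj⟩ := hq g
  exact Subgroup.mem_zpowers_iff.2 ⟨j, hj.symm⟩

theorem pow_zpow_eq {H : Type*} [Group H] (g : H) (k : ℕ) (i : ℤ) :
    (g ^ k) ^ i = g ^ ((k : ℤ) * i) := by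
  rw [zpow_mul, zpow_natCast]

theorem two_dvd_of_zpow {H : Type*} [Group H] {g : H} {k : ℕ} (h : orderOf g = 2 ^ (k + 1)) {i : ℤ}
    (hi : g ^ (((2 ^ k : ℕ) : ℤ) * i) = 1) : (2 : ℤ) ∣ i := by
  have h1 := orderOf_dvd_iff_zpow_eq_one.2 hi
  rw [h] at h1
  push_cast at h1
  rw [pow_succ] at h1
  exact (mul_dvd_mul_iff_left (by positivity)).1 h1

theorem zpow_eq_one_of_two_dvd {H : Type*} [Group H] {g : H} (h : g ^ 2 = 1) {i : ℤ}
    (hi : (2 : ℤ) ∣ i) : g ^ i = 1 := by
  obtain ⟨e, rfl⟩ := hi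
  rw [zpow_mul, zpow_ofNat, h, one_zpow]

/-- The base case: commutators are central involutions. -/
theorem metacyclic_base [Finite G] (hG : IsPGroup 2 G) (hS : SecBd 2 G)
    (hZ : ∀ x y : G, ⁅x, y⁆ ∈ center G) (hE : ∀ x y : G, ⁅x, y⁆ ^ 2 = 1) : Cfsg.IsMetacyclic G := by
  haveI : Fact (Nat.Prime 2) := ⟨Nat.prime_two⟩
  obtain ⟨x, y, hxy⟩ := exists_generators hG hS
  let f : G →* Abelianization G := Abelianization.of
  have hf : Function.Surjective f := fun q => QuotientGroup.induction_on q (fun g => ⟨g, rfl⟩)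
  haveI : Finite (Abelianization G) := Finite.of_surjective f hf
  have hB : IsPGroup 2 (Abelianization G) := hG.of_surjective f hf
  have hker : ∀ g, f g = 1 ↔ g ∈ commutator G := fun g => by
    rw [← MonoidHom.mem_ker, Abelianization.ker_of]
  have hgenB : ∀ g : Abelianization G, ∃ i j : ℤ, g = f x ^ i * f y ^ j := by
    intro g
    obtain ⟨g, rfl⟩ := hf g
    have hg : g ∈ closure ({x, y} : Set G) := by rw [hxy]; exact mem_top g
    have h1 : f g ∈ zpowers (f x) ⊔ zpowers (f y) := by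
      induction hg using closure_induction with
      | mem u hu =>
        rcases hu with rfl | rfl
        · exact Subgroup.mem_sup_left (mem_zpowers _)
        · exact Subgroup.mem_sup_right (mem_zpowers _)
      | one => rw [map_one]; exact one_mem _
      | mul u v _ _ ihu ihv => rw [map_mul]; exact mul_mem ihu ihv
      | inv u _ ih => rw [map_inv]; exact inv_mem ih
    obtain ⟨a, ha, b, hb, hab⟩ := Subgroup.mem_sup.1 h1
    obtain ⟨i, rfl⟩ := Subgroup.mem_zpowers_iff.1 ha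
    obtain ⟨j, rfl⟩ := Subgroup.mem_zpowers_iff.1 hb
    exact ⟨i, j, hab.symm⟩
  obtain ⟨abar, bbar, ⟨m, hm⟩, ⟨n, hn⟩, hgen, hind⟩ := exists_basis hB _ _ hgenB
  obtain ⟨a, rfl⟩ := hf abar
  obtain ⟨b, rfl⟩ := hf bbar
  -- normal form
  have hform : ∀ g, ∃ i j : ℤ, ∃ u ∈ commutator G, g = a ^ i * b ^ j * u := by
    intro g
    obtain ⟨i, j, hij⟩ := hgen (f g)
    refine ⟨i, j, (a ^ i * b ^ j)⁻¹ * g, ?_, by group⟩
    rw [← hker, map_mul, map_inv, map_mul, map_zpow, map_zpow, hij]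
    group
  have hCZ : commutator G ≤ center G := by
    rw [_root_.commutator_def, commutator_le]
    intro g _ h _
    exact hZ g h
  have hcen : ∀ u ∈ commutator G, ∀ g, g * u = u * g := fun u hu g =>
    mem_center_iff.mp (hCZ hu) g
  set c := ⁅a, b⁆ with hc
  have hcZ : c ∈ center G := hZ a b
  have hc2 : c ^ 2 = 1 := hE a b
  have hcC : c ∈ commutator G :=
    Subgroup.commutator_mem_commutator (Subgroup.mem_top a) (Subgroup.mem_top b)
  have hZcn : (zpowers c).Normal := by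
    constructor
    intro n hn g
    obtain ⟨i, rfl⟩ := Subgroup.mem_zpowers_iff.1 hn
    have h1 : g * c ^ i * g⁻¹ = c ^ i := by
      rw [mem_center_iff.mp (zpow_mem hcZ i) g]
      group
    rw [h1]
    exact hn
  have hcommc : commutator G ≤ zpowers c := by
    rw [_root_.commutator_def, commutator_le]
    intro g _ h _
    let ρ := QuotientGroup.mk' (zpowers c)
    have hab : Commute (ρ a) (ρ b) := by
      have hmem : a * b * a⁻¹ * b⁻¹ ∈ zpowers c := by
        rw [← commutatorElement_def]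
        exact mem_zpowers c
      have h1 : ρ (a * b * a⁻¹ * b⁻¹) = 1 := (QuotientGroup.eq_one_iff _).2 hmem
      rw [map_mul, map_mul, map_mul, map_inv, map_inv] at h1
      change ρ a * ρ b = ρ b * ρ a
      calc ρ a * ρ b = (ρ a * ρ b * (ρ a)⁻¹ * (ρ b)⁻¹) * (ρ b * ρ a) := by group
        _ = _ := by rw [h1, one_mul]
    have hρu : ∀ u ∈ commutator G, ∀ g, Commute (ρ u) (ρ g) := by
      intro u hu g
      change ρ u * ρ g = ρ g * ρ u
      rw [← map_mul, ← map_mul, hcen u hu g]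
    have h1 : ∀ g, Commute (ρ g) (ρ a) ∧ Commute (ρ g) (ρ b) := by
      intro g
      obtain ⟨i, j, u, hu, rfl⟩ := hform g
      rw [map_mul, map_mul, map_zpow, map_zpow]
      constructor
      · exact (((Commute.refl _).zpow_left i).mul_left (hab.symm.zpow_left j)).mul_left (hρu u hu _)
      · exact ((hab.zpow_left i).mul_left ((Commute.refl _).zpow_left j)).mul_left (hρu u hu _)
    have h2 : Commute (ρ g) (ρ h) := by
      obtain ⟨i, j, u, hu, hh⟩ := hform h
      rw [hh, map_mul, map_mul, map_zpow, map_zpow]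
      exact (((h1 g).1.zpow_right i).mul_right ((h1 g).2.zpow_right j)).mul_right (hρu u hu _).symm
    have h3 : ρ ⁅g, h⁆ = 1 := by
      rw [commutatorElement_def, map_mul, map_mul, map_mul, map_inv, map_inv]
      rw [show ρ g * ρ h = ρ h * ρ g from h2]
      group
    have h4 : ⁅g, h⁆ ∈ ρ.ker := h3
    rwa [QuotientGroup.ker_mk'] at h4
  have hcases : ∀ u ∈ zpowers c, u = 1 ∨ u = c := by
    intro u hu
    obtain ⟨i, rfl⟩ := Subgroup.mem_zpowers_iff.1 hu
    rcases Int.even_or_odd' i with ⟨k, rfl | rfl⟩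
    · left
      rw [zpow_mul, zpow_ofNat, hc2, one_zpow]
    · right
      rw [zpow_add, zpow_mul, zpow_ofNat, hc2, one_zpow, one_mul, zpow_one]
  by_cases hca : c ∈ zpowers a
  · have hle : commutator G ≤ zpowers a := hcommc.trans (zpowers_le.2 hca)
    haveI hN := normal_of_commutator_le hle
    refine metacyclic_of (X := a) (w := b) hN (fun g => ?_)
    obtain ⟨i, j, u, hu, rfl⟩ := hform g
    refine ⟨j, ?_⟩
    have e1 : (a : G ⧸ zpowers a) = 1 := (QuotientGroup.eq_one_iff _).2 (mem_zpowers a)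
    have e2 : (u : G ⧸ zpowers a) = 1 := (QuotientGroup.eq_one_iff _).2 (hle hu)
    rw [QuotientGroup.mk_mul, QuotientGroup.mk_mul, QuotientGroup.mk_zpow, QuotientGroup.mk_zpow,
      e1, e2, one_zpow, one_mul, mul_one]
  by_cases hcb : c ∈ zpowers b
  · have hle : commutator G ≤ zpowers b := hcommc.trans (zpowers_le.2 hcb)
    haveI hN := normal_of_commutator_le hle
    refine metacyclic_of (X := b) (w := a) hN (fun g => ?_)
    obtain ⟨i, j, u, hu, rfl⟩ := hform g
    refine ⟨i, ?_⟩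
    have e1 : (b : G ⧸ zpowers b) = 1 := (QuotientGroup.eq_one_iff _).2 (mem_zpowers b)
    have e2 : (u : G ⧸ zpowers b) = 1 := (QuotientGroup.eq_one_iff _).2 (hle hu)
    rw [QuotientGroup.mk_mul, QuotientGroup.mk_mul, QuotientGroup.mk_zpow, QuotientGroup.mk_zpow,
      e1, e2, one_zpow, mul_one, mul_one]
  -- the remaining case
  have ha1 : a ^ (2 ^ m) = 1 := by
    have h1 : a ^ (2 ^ m) ∈ commutator G := by
      rw [← hker, map_pow, ← hm, pow_orderOf_eq_one]
    rcases hcases _ (hcommc h1) with h2 | h2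
    · exact h2
    · exact absurd (h2 ▸ Subgroup.pow_mem _ (mem_zpowers a) _) hca
  have hb1 : b ^ (2 ^ n) = 1 := by
    have h1 : b ^ (2 ^ n) ∈ commutator G := by
      rw [← hker, map_pow, ← hn, pow_orderOf_eq_one]
    rcases hcases _ (hcommc h1) with h2 | h2
    · exact h2
    · exact absurd (h2 ▸ Subgroup.pow_mem _ (mem_zpowers b) _) hcb
  have hm0 : m ≠ 0 := by
    rintro rfl
    have h1 : f a = 1 := by
      rw [pow_zero] at hm
      exact orderOf_eq_one_iff.1 hm
    have h2 := hcen a ((hker a).1 h1) b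
    apply hca
    have h3 : c = 1 := by
      rw [hc, commutatorElement_def, ← h2]
      group
    rw [h3]
    exact one_mem _
  have hn0 : n ≠ 0 := by
    rintro rfl
    have h1 : f b = 1 := by
      rw [pow_zero] at hn
      exact orderOf_eq_one_iff.1 hn
    have h2 := hcen b ((hker b).1 h1) a
    apply hca
    have h3 : c = 1 := by
      rw [hc, commutatorElement_def, h2]
      group
    rw [h3]
    exact one_mem _
  obtain ⟨m', rfl⟩ := Nat.exists_eq_succ_of_ne_zero hm0
  obtain ⟨n', rfl⟩ := Nat.exists_eq_succ_of_ne_zero hn0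
  by_cases hmn : m' = 0 ∧ n' = 0
  · obtain ⟨rfl, rfl⟩ := hmn
    have ha2 : a * a = 1 := by simpa [pow_two] using ha1
    have hb2 : b * b = 1 := by simpa [pow_two] using hb1
    have hai : a⁻¹ = a := inv_eq_of_mul_eq_one_left ha2
    have hbi : b⁻¹ = b := inv_eq_of_mul_eq_one_left hb2
    have hcab : c = (a * b) ^ 2 := by
      rw [hc, commutatorElement_def, hai, hbi, pow_two]
      group
    have hmemc : c ∈ zpowers (a * b) := by
      rw [hcab]
      exact Subgroup.pow_mem _ (mem_zpowers _) _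
    have hle : commutator G ≤ zpowers (a * b) := hcommc.trans (zpowers_le.2 hmemc)
    haveI hN := normal_of_commutator_le hle
    refine metacyclic_of (X := a * b) (w := a) hN (fun g => ?_)
    obtain ⟨i, j, u, hu, rfl⟩ := hform g
    refine ⟨i - j, ?_⟩
    have e1 : ((a * b : G) : G ⧸ zpowers (a * b)) = 1 :=
      (QuotientGroup.eq_one_iff _).2 (mem_zpowers _)
    have e2 : (u : G ⧸ zpowers (a * b)) = 1 := (QuotientGroup.eq_one_iff _).2 (hle hu)
    have e3 : (b : G ⧸ zpowers (a * b)) = (a : G ⧸ zpowers (a * b))⁻¹ := by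
      rw [QuotientGroup.mk_mul] at e1
      exact eq_inv_of_mul_eq_one_right e1
    rw [QuotientGroup.mk_mul, QuotientGroup.mk_mul, QuotientGroup.mk_zpow, QuotientGroup.mk_zpow,
      e2, e3, mul_one, inv_zpow, zpow_sub]
  exfalso
  have hcen2 : ∀ x : G, x ^ 2 ∈ center G := by
    intro x
    rw [mem_center_iff]
    intro g
    have h1 := Cfsg.Agent.Lib.PGroups.ClassTwo.comm_pow_left hZ x g 2
    rw [hE x g, commutatorElement_eq_one_iff_mul_comm] at h1
    exact h1.symm
  set u := a ^ (2 ^ m') with hu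
  set v := b ^ (2 ^ n') with hv
  have hu2 : u ^ 2 = 1 := by
    rw [hu, ← pow_mul, ← pow_succ]
    exact ha1
  have hv2 : v ^ 2 = 1 := by
    rw [hv, ← pow_mul, ← pow_succ]
    exact hb1
  have huZ : m' ≠ 0 → u ∈ center G := by
    intro h0
    obtain ⟨k, rfl⟩ := Nat.exists_eq_succ_of_ne_zero h0
    have : u = (a ^ 2) ^ (2 ^ k) := by
      rw [hu, ← pow_mul, pow_succ' 2 k]
    rw [this]
    exact Subgroup.pow_mem _ (hcen2 a) _
  have hvZ : n' ≠ 0 → v ∈ center G := by
    intro h0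
    obtain ⟨k, rfl⟩ := Nat.exists_eq_succ_of_ne_zero h0
    have : v = (b ^ 2) ^ (2 ^ k) := by
      rw [hv, ← pow_mul, pow_succ' 2 k]
    rw [this]
    exact Subgroup.pow_mem _ (hcen2 b) _
  have huv : Commute u v := by
    by_cases h0 : m' = 0
    · have h1 : n' ≠ 0 := fun h1 => hmn ⟨h0, h1⟩
      exact (mem_center_iff.mp (hvZ h1) u)
    · exact (mem_center_iff.mp (huZ h0) v).symm
  have hfu : ∀ i : ℤ, f (u ^ i) = f a ^ (((2 ^ m' : ℕ) : ℤ) * i) := by
    intro i
    rw [map_zpow, hu, map_pow, pow_zpow_eq]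
  have hfv : ∀ i : ℤ, f (v ^ i) = f b ^ (((2 ^ n' : ℕ) : ℤ) * i) := by
    intro i
    rw [map_zpow, hv, map_pow, pow_zpow_eq]
  have hnea : f a ^ (2 ^ m') ≠ 1 := by
    intro h1
    have h2 := orderOf_dvd_of_pow_eq_one h1
    rw [hm] at h2
    have := (Nat.pow_dvd_pow_iff_le_right (by norm_num)).1 h2
    omega
  have hneb : f b ^ (2 ^ n') ≠ 1 := by
    intro h1
    have h2 := orderOf_dvd_of_pow_eq_one h1
    rw [hn] at h2
    have := (Nat.pow_dvd_pow_iff_le_right (by norm_num)).1 h2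
    omega
  refine false_of_three_inv hG hS hu2 hv2 hc2 huv (mem_center_iff.mp hcZ u)
    (mem_center_iff.mp hcZ v) ?_ ?_ ?_
  · intro h1
    apply hnea
    rw [← map_pow, ← hu, h1, map_one]
  · intro i h1
    have h2 : f a ^ (-(((2 ^ m' : ℕ) : ℤ) * i)) * f b ^ (((2 ^ n' : ℕ) : ℤ) * 1) = 1 := by
      have h3 := hfv 1
      rw [zpow_one, h1, hfu] at h3
      rw [← h3, zpow_neg, inv_mul_cancel]
    have h3 := (hind _ _ h2).2
    apply hneb
    rw [mul_one, zpow_natCast] at h3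
    exact h3
  · intro i j h1
    have h2 : f a ^ (((2 ^ m' : ℕ) : ℤ) * i) * f b ^ (((2 ^ n' : ℕ) : ℤ) * j) = 1 := by
      rw [← hfu, ← hfv, ← map_mul, ← h1]
      exact (hker c).2 hcC
    obtain ⟨h3, h4⟩ := hind _ _ h2
    have h5 := two_dvd_of_zpow hm h3
    have h6 := two_dvd_of_zpow hn h4
    apply hca
    rw [h1, zpow_eq_one_of_two_dvd hu2 h5, zpow_eq_one_of_two_dvd hv2 h6, one_mul]
    exact one_mem _

/-- Finite 2-groups with the bound on sections are metacyclic. -/
theorem isMetacyclic_of_secBd : ∀ (n : ℕ) (G : Type u) [Group G] [Finite G], Nat.card G = n →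
    IsPGroup 2 G → SecBd 2 G → Cfsg.IsMetacyclic G := by
  intro n
  induction n using Nat.strong_induction_on with
  | _ n ih =>
    intro G _ _ hn hG hS
    haveI : Fact (Nat.Prime 2) := ⟨Nat.prime_two⟩
    by_cases hD : blackburnSub 2 G = ⊥
    · refine metacyclic_base hG hS (fun x y => ?_) (fun x y => ?_)
      · rw [mem_center_iff]
        intro g
        have h1 : ⁅⁅x, y⁆, g⁆ ∈ blackburnSub 2 G := subset_normalClosure (Or.inl
          ⟨⁅x, y⁆, Subgroup.commutator_mem_commutator (mem_top x) (mem_top y), g, rfl⟩)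
        rw [hD, Subgroup.mem_bot, commutatorElement_eq_one_iff_mul_comm] at h1
        exact h1.symm
      · have h1 : ⁅x, y⁆ ^ 2 ∈ blackburnSub 2 G := subset_normalClosure (Or.inr
          ⟨⁅x, y⁆, Subgroup.commutator_mem_commutator (mem_top x) (mem_top y), rfl⟩)
        rwa [hD, Subgroup.mem_bot] at h1
    · obtain ⟨z, hzD, hzZ, hz2⟩ :=
        Cfsg.Agent.Lib.PGroups.Basic.exists_central_orderOf_eq hG (blackburnSub 2 G) hD
      have hzle : zpowers z ≤ center G := by
        rw [zpowers_le]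
        exact hzZ
      haveI hN : (zpowers z).Normal := by
        constructor
        intro x hx g
        have := mem_center_iff.mp (hzle hx) g
        rw [this]
        simpa using hx
      have hcard : Nat.card (G ⧸ zpowers z) < n := by
        have h1 := Subgroup.card_eq_card_quotient_mul_card_subgroup (zpowers z)
        rw [Nat.card_zpowers, hz2, hn] at h1
        have h2 : 0 < Nat.card (G ⧸ zpowers z) := Nat.card_pos
        omega
      have hm := ih _ hcard (G ⧸ zpowers z) rfl (hG.to_quotient _) (secBd_quot hS _)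
      refine metacyclic_of_quot hG (zpowers z) hzle (fun w hw => ?_) ?_ hm
      · obtain ⟨i, rfl⟩ := Subgroup.mem_zpowers_iff.1 hw
        have hz : z ^ 2 = 1 := by
          rw [← hz2]
          exact pow_orderOf_eq_one z
        rw [← zpow_natCast, ← zpow_mul, mul_comm, zpow_mul, zpow_natCast, hz, one_zpow]
      · rw [zpowers_le]
        exact hzD

/-- From sectional rank. -/
theorem secBd_of_sectional {S : Type*} [Group S] [Finite S] {k : ℕ}
    (hr : Cfsg.SectionalPRankLE 2 k S) : SecBd k S := fun H K hKH hc hs =>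
  Cfsg.Agent.Lib.PGroups.CentralizerIndex.card_le_of_sectional hr ⟨hKH, hc, hs⟩

/-- S4397. -/
theorem main {S : Type u} [Group S] [Finite S] (h2 : IsPGroup 2 S)
    (hr : Cfsg.SectionalPRankLE 2 2 S) : Cfsg.IsMetacyclic S :=
  isMetacyclic_of_secBd _ S rfl h2 (secBd_of_sectional hr)

end Cfsg.Agent.Lib.PGroups.SectionalTwo
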