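import Cfsg.Agent.Lib.PGroups.SectionalTwo
import Cfsg.Agent.Lib.PGroups.CyclicNormal
import Cfsg.Agent.Lib.PGroups.Presentations

/-!
# 2-groups of sectional rank two containing a nonabelian subgroup of order eight
-/

set_option autoImplicit false

namespace Cfsg.Agent.Lib.PGroups.SectionalTwoClass

open Subgroup Cfsg.Agent.Lib.PGroups.CyclicNormal Cfsg.Agent.Lib.PGroups.Presentations

universe u

variable {S : Type u} [Group S] [Finite S]

theorem nonab_of_equiv (H : Subgroup S)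
    (h : Nonempty (↥H ≃* DihedralGroup 4) ∨ Nonempty (↥H ≃* QuaternionGroup 2)) :
    Nat.card H = 8 ∧ ∃ x ∈ H, ∃ y ∈ H, x * y ≠ y * x := by
  rcases h with ⟨⟨φ⟩⟩ | ⟨⟨φ⟩⟩
  · refine ⟨by rw [Nat.card_congr φ.toEquiv, DihedralGroup.nat_card], (φ.symm (DihedralGroup.r 1) : H).1,
      (φ.symm (DihedralGroup.r 1) : H).2, (φ.symm (DihedralGroup.sr 0) : H).1,
      (φ.symm (DihedralGroup.sr 0) : H).2, ?_⟩
    intro h1
    have h2 : φ.symm (DihedralGroup.r 1) * φ.symm (DihedralGroup.sr 0)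
        = φ.symm (DihedralGroup.sr 0) * φ.symm (DihedralGroup.r 1) := Subtype.ext h1
    have h3 := congrArg φ h2
    simp only [map_mul, MulEquiv.apply_symm_apply] at h3
    exact absurd h3 (by decide)
  · refine ⟨by rw [Nat.card_congr φ.toEquiv, Nat.card_eq_fintype_card, QuaternionGroup.card],
      (φ.symm (QuaternionGroup.a 1) : H).1, (φ.symm (QuaternionGroup.a 1) : H).2,
      (φ.symm (QuaternionGroup.xa 0) : H).1, (φ.symm (QuaternionGroup.xa 0) : H).2, ?_⟩
    intro h1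
    have h2 : φ.symm (QuaternionGroup.a 1) * φ.symm (QuaternionGroup.xa 0)
        = φ.symm (QuaternionGroup.xa 0) * φ.symm (QuaternionGroup.a 1) := Subtype.ext h1
    have h3 := congrArg φ h2
    simp only [map_mul, MulEquiv.apply_symm_apply] at h3
    exact absurd h3 (by decide)

/-- Elements of the normal cyclic subgroup. -/
theorem comm_of_mem_zpowers {a x y : S} (hx : x ∈ zpowers a) (hy : y ∈ zpowers a) : x * y = y * x := by
  obtain ⟨i, rfl⟩ := mem_zpowers_iff.1 hx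
  obtain ⟨j, rfl⟩ := mem_zpowers_iff.1 hy
  exact (Commute.refl a).zpow_zpow i j

/-- Conjugation of an element of order four. -/
theorem conj_order_four (hS : IsPGroup 2 S) {a u : S} (hN : (zpowers a).Normal) (hu : u ∈ zpowers a)
    (hu4 : orderOf u = 4) (g : S) : g * u * g⁻¹ = u ∨ g * u * g⁻¹ = u⁻¹ := by
  obtain ⟨n, hn⟩ := IsPGroup.iff_orderOf.1 hS a
  obtain ⟨r, hr⟩ := exists_conj_eq_zpow hN g
  obtain ⟨k, rfl⟩ := mem_zpowers_iff.1 hu
  have hu4' : orderOf (a ^ k) = 2 ^ 2 := hu4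
  have hn1 : 1 ≤ n := by
    rcases Nat.eq_zero_or_pos n with rfl | h
    · have : a = 1 := by simpa using hn
      rw [this] at hu4
      simp at hu4
    · exact h
  have hr2 := odd_of_conj hn1 hn hr
  have h1 : g * a ^ k * g⁻¹ = (a ^ k) ^ r := by
    rw [conj_zpow_of hr, ← zpow_mul, mul_comm]
  rw [h1]
  have h2 : r % 4 = 1 ∨ r % 4 = 3 := by omega
  rcases h2 with h3 | h3
  · left
    have h4 := (zpow_eq_zpow_iff_dvd hu4' r 1).2 (by norm_num; omega)
    rwa [zpow_one] at h4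
  · right
    have h4 := (zpow_eq_zpow_iff_dvd hu4' r (-1)).2 (by norm_num; omega)
    rwa [zpow_neg_one] at h4

/-- The key structure inside a nonabelian subgroup of order eight. -/
theorem exists_inverted (hS : IsPGroup 2 S) {a : S} (hN : (zpowers a).Normal)
    (hQ : IsCyclic (S ⧸ zpowers a)) {H : Subgroup S} (hcard : Nat.card H = 8)
    (hna : ∃ x ∈ H, ∃ y ∈ H, x * y ≠ y * x) :
    ∃ u ∈ zpowers a, ∃ h, orderOf u = 4 ∧ h * u * h⁻¹ = u⁻¹ ∧ h * h ∈ zpowers a := by
  haveI : Fact (Nat.Prime 2) := ⟨Nat.prime_two⟩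
  have hcy : IsCyclic (H.map (QuotientGroup.mk' (zpowers a))) := inferInstance
  obtain ⟨⟨q₀, hq₀⟩, hgen⟩ := hcy.exists_generator
  obtain ⟨h, hh, rfl⟩ := hq₀
  have hform : ∀ x ∈ H, ∃ j : ℤ, (h ^ j)⁻¹ * x ∈ zpowers a ⊓ H := by
    intro x hx
    have h1 : (⟨QuotientGroup.mk' (zpowers a) x, x, hx, rfl⟩ :
        H.map (QuotientGroup.mk' (zpowers a))) ∈ zpowers _ := hgen _
    obtain ⟨j, hj⟩ := mem_zpowers_iff.1 h1
    refine ⟨j, ?_, H.mul_mem (H.inv_mem (zpow_mem hh j)) hx⟩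
    have h2 := congrArg Subtype.val hj
    simp only [coe_zpow] at h2
    rw [← map_zpow] at h2
    exact (QuotientGroup.eq.1 h2)
  have hex : ∃ u ∈ zpowers a ⊓ H, h * u * h⁻¹ ≠ u := by
    by_contra hno
    push Not at hno
    obtain ⟨x, hx, y, hy, hxy⟩ := hna
    apply hxy
    obtain ⟨i, hi⟩ := hform x hx
    obtain ⟨j, hj⟩ := hform y hy
    set x' := (h ^ i)⁻¹ * x with hx'
    set y' := (h ^ j)⁻¹ * y with hy'
    have ex : x = h ^ i * x' := by rw [hx']; group
    have ey : y = h ^ j * y' := by rw [hy']; group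
    have cx : Commute h x' := by
      have := hno x' hi
      exact Cfsg.Agent.Lib.PGroups.CentralizerIndex.comm_of_conj_eq this
    have cy : Commute h y' := by
      have := hno y' hj
      exact Cfsg.Agent.Lib.PGroups.CentralizerIndex.comm_of_conj_eq this
    have cxy : Commute x' y' := comm_of_mem_zpowers hi.1 hj.1
    rw [ex, ey]
    exact ((Commute.refl h).zpow_zpow i j |>.mul_right (cy.zpow_left i)).mul_left
      ((cx.symm.zpow_right j).mul_right cxy)
  obtain ⟨u, ⟨huN, huH⟩, hmove⟩ := hex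
  obtain ⟨n, hn⟩ := IsPGroup.iff_orderOf.1 hS a
  obtain ⟨r, hr⟩ := exists_conj_eq_zpow hN h
  obtain ⟨t, ht⟩ := IsPGroup.iff_orderOf.1 hS u
  have hdvd : orderOf u ∣ 2 ^ 3 := by
    have := Subgroup.orderOf_dvd_natCard H huH
    rw [hcard] at this
    exact this
  rw [ht] at hdvd
  have ht3 : t ≤ 3 := (Nat.pow_dvd_pow_iff_le_right (by norm_num)).1 hdvd
  have hu1 : u ≠ 1 := by
    rintro rfl
    apply hmove
    group
  have hn1 : 1 ≤ n := by
    rcases Nat.eq_zero_or_pos n with rfl | h'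
    · have : a = 1 := by simpa using hn
      rw [this] at huN
      simp at huN
      exact absurd huN hu1
    · exact h'
  have hrodd := odd_of_conj hn1 hn hr
  obtain ⟨k, hk⟩ := mem_zpowers_iff.1 huN
  have hconj : h * u * h⁻¹ = u ^ r := by
    rw [← hk, conj_zpow_of hr, ← zpow_mul, mul_comm]
  have ht0 : t ≠ 0 := by
    rintro rfl
    exact hu1 (by simpa using ht)
  have ht1 : t ≠ 1 := by
    rintro rfl
    apply hmove
    rw [hconj]
    have h1 : (u ^ r) = u ^ (1 : ℤ) := (zpow_eq_zpow_iff_dvd ht r 1).2 (by norm_num; omega)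
    rw [h1, zpow_one]
  have ht3' : t ≠ 3 := by
    rintro rfl
    obtain ⟨x, hx, y, hy, hxy⟩ := hna
    have h1 : zpowers u ≤ H := zpowers_le.2 huH
    have h2 : H ≤ zpowers u := by
      have := (Subgroup.eq_of_le_of_card_ge h1 (by
        rw [hcard, Nat.card_zpowers, ht]; norm_num))
      rw [this]
    exact hxy (comm_of_mem_zpowers (h2 hx) (h2 hy))
  have ht2 : t = 2 := by omega
  subst ht2
  have hu4 : orderOf u = 4 := ht
  refine ⟨u, huN, h, hu4, ?_, ?_⟩
  · rcases conj_order_four hS hN huN hu4 h with h1 | h1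
    · exact absurd h1 hmove
    · exact h1
  · have hle : zpowers u ≤ H := zpowers_le.2 huH
    have hc1 : Nat.card ((zpowers u).subgroupOf H) = 4 := by
      rw [Nat.card_congr (Subgroup.subgroupOfEquivOfLe hle).toEquiv, Nat.card_zpowers, hu4]
    have hidx : ((zpowers u).subgroupOf H).index = 2 := by
      have := ((zpowers u).subgroupOf H).card_mul_index
      rw [hc1, hcard] at this
      omega
    have h1 := (Subgroup.mul_mem_iff_of_index_two hidx (a := ⟨h, hh⟩) (b := ⟨h, hh⟩)).2 Iff.rfl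
    rw [Subgroup.mem_subgroupOf] at h1
    exact (zpowers_le.2 huN) h1

/-- S4398. -/
theorem main (h2 : IsPGroup 2 S) (hr : Cfsg.SectionalPRankLE 2 2 S)
    (hsub : ∃ H : Subgroup S, Nonempty (↥H ≃* DihedralGroup 4) ∨ Nonempty (↥H ≃* QuaternionGroup 2)) :
    ((∃ k : ℕ, Nonempty (S ≃* DihedralGroup (2 ^ (k + 2)))) ∨
      (∃ k : ℕ, Nat.card S = 2 ^ (k + 4) ∧ ∃ a b : S, orderOf a = 2 ^ (k + 3) ∧ orderOf b = 2 ∧
        b * a * b⁻¹ = a ^ (2 ^ (k + 2) - 1)) ∨
      (∃ k : ℕ, Nonempty (S ≃* QuaternionGroup (2 ^ (k + 1))))) := by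
  haveI : Fact (Nat.Prime 2) := ⟨Nat.prime_two⟩
  obtain ⟨H, hH⟩ := hsub
  obtain ⟨hcard, hna⟩ := nonab_of_equiv H hH
  obtain ⟨N, hNn, hNc, hQc⟩ := Cfsg.Agent.Lib.PGroups.SectionalTwo.main h2 hr
  obtain ⟨⟨a, haN⟩, hgen⟩ := hNc.exists_generator
  have hNa : N = zpowers a := by
    apply le_antisymm
    · intro x hx
      obtain ⟨j, hj⟩ := mem_zpowers_iff.1 (hgen ⟨x, hx⟩)
      have := congrArg Subtype.val hj
      simp only [coe_zpow] at this
      rw [← this]
      exact zpow_mem (mem_zpowers a) j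
    · exact zpowers_le.2 haN
  subst hNa
  obtain ⟨u, huN, h, hu4, hinv, hsq⟩ := exists_inverted h2 hNn hQc hcard hna
  obtain ⟨q, hq⟩ := hQc.exists_generator
  obtain ⟨b, rfl⟩ := QuotientGroup.mk_surjective q
  have hconj := conj_order_four h2 hNn huN hu4
  have hu_ne : u⁻¹ ≠ u := by
    intro h1
    have h3 : u ^ 2 = 1 := by
      rw [pow_two]
      nth_rewrite 1 [← h1]
      exact inv_mul_cancel u
    have h4 := orderOf_dvd_of_pow_eq_one h3
    rw [hu4] at h4
    omega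
  have hform : ∀ g : S, ∃ j : ℤ, (b ^ j)⁻¹ * g ∈ zpowers a := by
    intro g
    obtain ⟨j, hj⟩ := mem_zpowers_iff.1 (hq (g : S ⧸ zpowers a))
    refine ⟨j, ?_⟩
    rw [← QuotientGroup.eq, ← hj, QuotientGroup.mk_zpow]
  have hne_of_comm : ¬ Commute h u := by
    intro hc
    have h1 : h * u * h⁻¹ = u := by
      rw [hc.eq]
      group
    rw [hinv] at h1
    exact hu_ne h1
  have hb : b * u * b⁻¹ = u⁻¹ := by
    rcases hconj b with h1 | h1
    · exfalso
      obtain ⟨j, hj⟩ := hform h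
      have cb : Commute b u := Cfsg.Agent.Lib.PGroups.CentralizerIndex.comm_of_conj_eq h1
      have cx : Commute ((b ^ j)⁻¹ * h) u := comm_of_mem_zpowers hj huN
      have e1 : h = b ^ j * ((b ^ j)⁻¹ * h) := by group
      apply hne_of_comm
      rw [e1]
      exact (cb.zpow_left j).mul_left cx
    · exact h1
  obtain ⟨j, hj⟩ := hform h
  have hb2 : Commute (b ^ 2) u := by
    apply Cfsg.Agent.Lib.PGroups.CentralizerIndex.comm_of_conj_eq
    have h1 : b ^ 2 * u * (b ^ 2)⁻¹ = b * (b * u * b⁻¹) * b⁻¹ := by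
      rw [pow_two]; group
    rw [h1, hb]
    have h3 : b * u⁻¹ * b⁻¹ = (b * u * b⁻¹)⁻¹ := by group
    rw [h3, hb, inv_inv]
  have hjodd : ¬ (2 : ℤ) ∣ j := by
    rintro ⟨e, he⟩
    apply hne_of_comm
    have e1 : h = (b ^ 2) ^ e * ((b ^ j)⁻¹ * h) := by
      rw [he, zpow_mul]
      simp only [zpow_ofNat]
      group
    rw [e1]
    exact (hb2.zpow_left e).mul_left (comm_of_mem_zpowers hj huN)
  have hQp : IsPGroup 2 (S ⧸ zpowers a) := h2.to_quotient _
  obtain ⟨c, hc⟩ := IsPGroup.iff_orderOf.1 hQp (b : S ⧸ zpowers a)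
  have hmkh : (h : S ⧸ zpowers a) = (b : S ⧸ zpowers a) ^ j := by
    rw [← QuotientGroup.mk_zpow]
    exact (QuotientGroup.eq.2 hj).symm
  have hq2 : (b : S ⧸ zpowers a) ^ (j * 2) = 1 := by
    rw [zpow_mul, ← hmkh, zpow_ofNat, pow_two, ← QuotientGroup.mk_mul, QuotientGroup.eq_one_iff]
    exact hsq
  have hc1 : c ≤ 1 := by
    by_contra hlt
    obtain ⟨d, rfl⟩ : ∃ d, c = d + 2 := ⟨c - 2, by omega⟩
    have h3 := orderOf_dvd_iff_zpow_eq_one.2 hq2
    rw [hc] at h3
    push_cast at h3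
    rw [pow_add, mul_comm] at h3
    have h4 : (4 : ℤ) ∣ j * 2 := dvd_trans (by norm_num) h3
    apply hjodd
    omega
  have hc0 : c ≠ 0 := by
    rintro rfl
    have h3 : (b : S ⧸ zpowers a) = 1 := by
      rw [pow_zero] at hc
      exact orderOf_eq_one_iff.1 hc
    rw [QuotientGroup.eq_one_iff] at h3
    have h4 : Commute b u := comm_of_mem_zpowers h3 huN
    have h5 : b * u * b⁻¹ = u := by
      rw [h4.eq]
      group
    rw [hb] at h5
    exact hu_ne h5
  have hc' : c = 1 := by omega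
  subst hc'
  have hQcard : Nat.card (S ⧸ zpowers a) = 2 := by
    rw [← orderOf_eq_card_of_forall_mem_zpowers hq, hc, pow_one]
  have hnotmem : h ∉ zpowers a := fun h1 => hne_of_comm (comm_of_mem_zpowers h1 huN)
  obtain ⟨n, hn⟩ := IsPGroup.iff_orderOf.1 h2 a
  have hn2 : 2 ≤ n := by
    have h3 := orderOf_dvd_of_mem_zpowers huN
    rw [hu4, hn] at h3
    by_contra hlt
    have h4 : n = 0 ∨ n = 1 := by omega
    rcases h4 with rfl | rfl <;> omega
  obtain ⟨k, rfl⟩ : ∃ k, n = k + 2 := ⟨n - 2, by omega⟩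
  obtain ⟨r, hr⟩ := exists_conj_eq_zpow hNn h
  obtain ⟨x₀, hx₀⟩ := mem_zpowers_iff.1 huN
  have hr4 : r % 4 = 3 := by
    have h3 : u ^ r = u ^ (-1 : ℤ) := by
      rw [zpow_neg_one, ← hinv, ← hx₀, conj_zpow_of hr, ← zpow_mul, mul_comm]
    have hu4' : orderOf u = 2 ^ 2 := hu4
    have h4 := (zpow_eq_zpow_iff_dvd hu4' r (-1)).1 h3
    norm_num at h4
    omega
  obtain ⟨s, hs⟩ := mem_zpowers_iff.1 hsq
  have hrr : (2 : ℤ) ^ (k + 1 + 1) ∣ r ^ 2 - 1 := by
    have h3 : (a ^ s) * a * (a ^ s)⁻¹ = a := by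
      rw [(Commute.refl a).zpow_left s |>.eq]
      group
    have h4 : (a ^ s) * a * (a ^ s)⁻¹ = a ^ (r * r) := by
      rw [hs]
      have : h * h * a * (h * h)⁻¹ = h * (h * a * h⁻¹) * h⁻¹ := by group
      rw [this, hr, conj_zpow_of hr]
    rw [h3] at h4
    have h5 : a ^ (1 : ℤ) = a ^ (r * r) := by rw [zpow_one]; exact h4
    have h6 := (zpow_eq_zpow_iff_dvd hn _ _).1 h5.symm
    have h7 : r ^ 2 - 1 = r * r - 1 := by ring
    rw [h7]
    exact h6
  obtain ⟨e, he⟩ := dvd_add_one hrr hr4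
  obtain ⟨q₁, hq₁⟩ : ∃ q₁, r = 4 * q₁ + 3 := ⟨r / 4, by omega⟩
  have hsdvd : (2 : ℤ) ^ (k + 1) ∣ s := by
    have h3 : h * (h * h) * h⁻¹ = h * h := by group
    rw [← hs, conj_zpow_of hr] at h3
    have h4 := (zpow_eq_zpow_iff_dvd hn _ _).1 h3
    have h5 : r * s - s = 2 * ((2 * q₁ + 1) * s) := by rw [hq₁]; ring
    rw [h5, pow_succ', mul_dvd_mul_iff_left (by norm_num)] at h4
    exact (isCoprime_two_pow_odd (k + 1) q₁).dvd_of_dvd_mul_left h4
  obtain ⟨t, ht⟩ := hsdvd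
  have hz2 : (a ^ ((2 : ℤ) ^ (k + 1))) ^ (2 : ℤ) = 1 := by
    rw [← zpow_mul, zpow_eq_one_iff_dvd hn]
    exact ⟨1, by ring⟩
  have hhh : h * h = 1 ∨ h * h = a ^ ((2 : ℤ) ^ (k + 1)) := by
    rcases Int.even_or_odd' t with ⟨w, rfl | rfl⟩
    · left
      rw [← hs, ht, zpow_mul, zpow_mul, hz2, one_zpow]
    · right
      rw [← hs, ht, zpow_mul, zpow_add, zpow_mul, hz2, one_zpow, one_mul, zpow_one]
  have hSc : Nat.card S = 2 ^ (k + 3) := by
    rw [Subgroup.card_eq_card_quotient_mul_card_subgroup (zpowers a), hQcard, Nat.card_zpowers, hn]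
    ring
  have hsq' : h ^ 2 = h * h := pow_two h
  rcases Int.even_or_odd' e with ⟨f, rfl | rfl⟩
  · -- inversion
    have hinva : h * a * h⁻¹ = a⁻¹ := by
      rw [hr, ← zpow_neg_one]
      apply (zpow_eq_zpow_iff_dvd hn _ _).2
      refine ⟨f, ?_⟩
      rw [show r - -1 = r + 1 by ring, he]
      ring
    rcases hhh with h3 | h3
    · left
      refine ⟨k, ?_⟩
      haveI : NeZero (2 ^ (k + 2)) := ⟨by positivity⟩
      obtain ⟨φ⟩ := nonempty_dihedral_equiv (m := 2 ^ (k + 2)) hn (by rw [hsq', h3]) hinva hnotmem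
        (by rw [hSc]; ring)
      exact ⟨φ.symm⟩
    · right; right
      refine ⟨k, ?_⟩
      haveI : NeZero (2 ^ (k + 1)) := ⟨by positivity⟩
      obtain ⟨φ⟩ := nonempty_quaternion_equiv (m := 2 ^ (k + 1)) (a := a) (y := h)
        (by rw [hn]; ring) (by
          rw [hsq', h3, ← zpow_natCast]
          push_cast
          rfl) hinva hnotmem (by rw [hSc]; ring)
      exact ⟨φ.symm⟩
  · -- semidihedral
    have hk0 : k ≠ 0 := by
      rintro rfl
      have h3 : r + 1 = 2 * (2 * f + 1) := by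
        rw [he]
        ring
      omega
    obtain ⟨l, rfl⟩ : ∃ l, k = l + 1 := ⟨k - 1, by omega⟩
    have hexp : h * a * h⁻¹ = a ^ (2 ^ (l + 2) - 1) := by
      rw [hr, ← zpow_natCast a (2 ^ (l + 2) - 1)]
      apply (zpow_eq_zpow_iff_dvd hn _ _).2
      refine ⟨f, ?_⟩
      have h3 : ((2 ^ (l + 2) - 1 : ℕ) : ℤ) = (2 : ℤ) ^ (l + 2) - 1 := by
        rw [Nat.cast_sub (Nat.one_le_two_pow)]
        push_cast
        rfl
      rw [h3]
      have h4 : r = (2 : ℤ) ^ (l + 1 + 1) * (2 * f + 1) - 1 := by rw [← he]; ring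
      rw [h4]
      ring
    right; left
    refine ⟨l, by rw [hSc] <;> ring_nf, a, ?_⟩
    rcases hhh with h3 | h3
    · refine ⟨h, by rw [hn] <;> ring_nf, ?_, hexp⟩
      exact orderOf_eq_prime (by rw [hsq', h3]) (fun h4 => hnotmem (by rw [h4]; exact one_mem _))
    · refine ⟨h * a, by rw [hn] <;> ring_nf, ?_, ?_⟩
      · apply orderOf_eq_prime
        · have h4 : (h * a) ^ 2 = (h * a * h⁻¹) * (h * h) * a := by
            rw [pow_two]; group
          rw [h4, hr, h3, ← zpow_add, ← zpow_add_one]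
          rw [zpow_eq_one_iff_dvd hn]
          refine ⟨f + 1, ?_⟩
          rw [show r + (2 : ℤ) ^ (l + 1 + 1) + 1 = (r + 1) + (2 : ℤ) ^ (l + 1 + 1) by ring, he]
          ring
        · intro h4
          apply hnotmem
          have h5 : h = a⁻¹ := eq_inv_of_mul_eq_one_left h4
          rw [h5]
          exact inv_mem (mem_zpowers a)
      · have h4 : h * a * a * (h * a)⁻¹ = h * a * h⁻¹ := by group
        rw [h4]
        exact hexp

end Cfsg.Agent.Lib.PGroups.SectionalTwoClass
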